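import Cfsg.Agent.Lib.CoOneRec.CentLocal
import Cfsg.Agent.Lib.CoType.Hyp
import Cfsg.Agent.Lib.Solvable.Gaschutz

/-!
The centraliser of the involution is determined by the group `2^11 : M24`, and so is the action on an edge.
-/

set_option autoImplicit false
set_option linter.style.haveILetI false
set_option linter.unusedSectionVars false
set_option linter.unusedSimpArgs false

namespace CfsgLib.CoOneRec

open Subgroup CfsgLib.Classical CfsgLib.CoType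

variable {M : Type*} [Group M] [Finite M] {z₀ : M} {Q₀ : Subgroup M} {π₀ : M → V8} {ρ₀ : M → qAut qm}
variable {G : Type*} [Group G] [Finite G] {z : G} {Q : Subgroup G} {π : G → V8} {ρ : G → qAut qm}

theorem zb_inj (S : Setup z Q π ρ) {a b : ZMod 2} (h : zb z a = zb z b) : a = b := by
  rcases two_cases a with rfl | rfl <;> rcases two_cases b with rfl | rfl <;>
    simp [zb_zero, zb_one, S.z1, Ne.symm S.z1] at h ⊢

theorem cent_q_cases (S : Setup z Q π ρ) {c : G} (hc : c ∈ centralizer ({z} : Set G))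
    (h : ∀ a ∈ Q, c * a * c⁻¹ = a) : c = 1 ∨ c = z := by
  have h1 : ρ c = 1 := qAut_ext fun v => by
    obtain ⟨a, ha, rfl⟩ := S.pi_surj v
    rw [← S.rho_pi c hc a ha, h a ha]; rfl
  have hq := (S.rho_ker c hc).1 h1
  refine (S.pi_ker c hq).1 (pb_nondeg fun v => ?_)
  obtain ⟨a, ha, rfl⟩ := S.pi_surj v
  exact (S.commute_iff hq ha).1 (mul_inv_eq_iff_eq_mul.1 (h a ha))

theorem card_cent (S : Setup z Q π ρ) : Nat.card (centralizer ({z} : Set G)) = 89181388800 := by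
  let f : centralizer ({z} : Set G) →* qAut qm := MonoidHom.mk' (fun c => ρ c) fun a b => S.rho_mul a a.2 b b.2
  have hr : f.range = Ev := by
    ext g
    rw [S.rho_range g]
    exact ⟨fun ⟨c, e⟩ => ⟨c, c.2, e⟩, fun ⟨c, hc, e⟩ => ⟨⟨c, hc⟩, e⟩⟩
  have hk : Nat.card f.ker = 512 := by
    rw [← S.card]
    exact Nat.card_congr ⟨fun c => ⟨c.1, (S.rho_ker _ c.1.2).1 c.2⟩,
      fun q => ⟨⟨q, S.le q.2⟩, S.rho_Q q.2⟩, fun _ => rfl, fun _ => rfl⟩
  have h := card_mul_index f.ker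
  rw [index_ker, hr, hk] at h
  have he : Nat.card Ev = 174182400 := by
    have h2 := card_mul_index Ev
    rw [index_ev, card_qAut8] at h2
    omega
  rw [← h, he]

/-- A map of the extraspecial groups respects the charts up to an isometry. -/
theorem exists_sigma (S₀ : Setup z₀ Q₀ π₀ ρ₀) (S : Setup z Q π ρ) (φ : Q₀ →* G) (hφ : ∀ q, φ q ∈ Q)
    (hinj : Function.Injective φ) (hz : φ ⟨z₀, S₀.zQ⟩ = z) :
    ∃ σ : qAut qm, ∀ q : Q₀, π (φ q) = σ.1 (π₀ q) := by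
  have hwd : ∀ p q : Q₀, π₀ p = π₀ q → π (φ p) = π (φ q) := fun p q h => by
    rcases S₀.pi_eq p.2 q.2 h with e | e
    · rw [Subtype.ext e]
    · rw [show q = ⟨z₀, S₀.zQ⟩ * p from Subtype.ext e, map_mul, hz, S.pi_zmul (hφ p)]
  choose s hs hsv using S₀.pi_surj
  let L : V8 →ₗ[ZMod 2] V8 := (AddMonoidHom.mk' (fun v => π (φ ⟨s v, hs v⟩)) fun u v => by
    rw [← S.pi_mul _ (hφ _) _ (hφ _), ← map_mul]
    exact hwd _ _ (by simp only [Subgroup.coe_mul, S₀.pi_mul _ (hs u) _ (hs v), hsv])).toZModLinearMap 2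
  have hL : ∀ q : Q₀, L (π₀ q) = π (φ q) := fun q => hwd _ _ (hsv _)
  have hLi : Function.Injective L := by
    rw [injective_iff_map_eq_zero]
    intro v hv
    have h1 : π (φ ⟨s v, hs v⟩) = 0 := hv
    rw [← hsv v, S₀.pi_ker _ (hs v)]
    rcases (S.pi_ker _ (hφ _)).1 h1 with e | e
    · exact .inl (congrArg Subtype.val (hinj (e.trans (map_one φ).symm)))
    · exact .inr (congrArg Subtype.val (hinj (e.trans hz.symm)))
  have hq : ∀ v, qm (L v) = qm v := fun v => by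
    obtain ⟨q, hq, rfl⟩ := S₀.pi_surj v
    rw [show L (π₀ q) = π (φ ⟨q, hq⟩) from hL ⟨q, hq⟩]
    refine zb_inj S ?_
    rw [← S.sq _ (hφ _), ← map_mul]
    rcases two_cases (qm (π₀ q)) with h | h <;> rw [h]
    · rw [show (⟨q, hq⟩ : Q₀) * ⟨q, hq⟩ = 1 from Subtype.ext (by show q * q = 1; rw [S₀.sq q hq, h, zb_zero]),
        map_one, zb_zero]
    · rw [show (⟨q, hq⟩ : Q₀) * ⟨q, hq⟩ = ⟨z₀, S₀.zQ⟩ from Subtype.ext (by show q * q = z₀; rw [S₀.sq q hq, h, zb_one]),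
        hz, zb_one]
  exact ⟨⟨LinearEquiv.ofBijective L ⟨hLi, LinearMap.injective_iff_surjective.1 hLi⟩, hq⟩, fun q => (hL q).symm⟩

/-- Every automorphism coming from the one centraliser is induced by the other. -/
theorem exists_realise (S₀ : Setup z₀ Q₀ π₀ ρ₀) (S : Setup z Q π ρ) (φ : Q₀ →* G) (hφ : ∀ q, φ q ∈ Q)
    (hinj : Function.Injective φ) (hz : φ ⟨z₀, S₀.zQ⟩ = z) {c : M} (hc : c ∈ centralizer ({z₀} : Set M)) :
    ∃ d ∈ centralizer ({z} : Set G), ∀ q : Q₀, d * φ q * d⁻¹ = φ ⟨c * q * c⁻¹, S₀.conj_mem hc q.2⟩ := by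
  obtain ⟨σ, hσ⟩ := exists_sigma S₀ S φ hφ hinj hz
  have hev : σ * ρ₀ c * σ⁻¹ ∈ Ev := by
    haveI : Ev.Normal := inferInstanceAs (commutator (qAut qm)).Normal
    exact (inferInstance : Ev.Normal).conj_mem _ (S₀.rho_mem hc) σ
  obtain ⟨d, hd, ed⟩ := (S.rho_range _).1 hev
  let cj : Q₀ →* G := MonoidHom.mk' (fun q => φ ⟨c * q * c⁻¹, S₀.conj_mem hc q.2⟩) fun p q => by
    rw [← map_mul]; congr 1; refine Subtype.ext ?_
    show c * (p * q : M) * c⁻¹ = c * p * c⁻¹ * (c * q * c⁻¹)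
    group
  have hcase : ∀ q : Q₀, ∃ b, d * φ q * d⁻¹ = zb z b * cj q := fun q => by
    have e : π (cj q) = π (d * φ q * d⁻¹) := by
      show π (φ _) = _
      rw [hσ, S.rho_pi d hd _ (hφ q), ed, hσ, qAut_mul_apply, qAut_mul_apply, qAut_apply_inv,
        ← S₀.rho_pi c hc q q.2]
    rcases S.pi_eq (hφ _) (S.conj_mem hd (hφ q)) e with h | h
    · exact ⟨0, by rw [zb_zero, one_mul]; exact h⟩
    · exact ⟨1, by rw [zb_one]; exact h⟩
  choose l hl using hcase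
  have ladd : ∀ p q, l (p * q) = l p + l q := fun p q => zb_inj S (by
    rw [← zb_mul S.z2]
    refine mul_right_cancel (b := cj (p * q)) ?_
    rw [← hl, map_mul, show d * (φ p * φ q) * d⁻¹ = d * φ p * d⁻¹ * (d * φ q * d⁻¹) by group, hl, hl, map_mul,
      show zb z (l p) * cj p * (zb z (l q) * cj q) = zb z (l p) * (cj p * zb z (l q)) * cj q by group,
      show cj p * zb z (l q) = zb z (l q) * cj p from S.zb_comm (show cj p ∈ Q from hφ _) _]
    group)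
  have lz : l ⟨z₀, S₀.zQ⟩ = 0 := zb_inj S (by
    refine mul_right_cancel (b := cj ⟨z₀, S₀.zQ⟩) ?_
    rw [← hl, hz, mem_centralizer_singleton_iff.1 hd, mul_inv_cancel_right, zb_zero, one_mul]
    show z = φ _
    rw [show (⟨c * z₀ * c⁻¹, _⟩ : Q₀) = ⟨z₀, S₀.zQ⟩ from Subtype.ext (by
      show c * z₀ * c⁻¹ = z₀
      rw [mem_centralizer_singleton_iff.1 hc, mul_inv_cancel_right]), hz])
  have lwd : ∀ p q : Q₀, π₀ p = π₀ q → l p = l q := fun p q h => by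
    rcases S₀.pi_eq p.2 q.2 h with e | e
    · rw [Subtype.ext e]
    · rw [show q = ⟨z₀, S₀.zQ⟩ * p from Subtype.ext e, ladd, lz, zero_add]
  choose s hs hsv using S₀.pi_surj
  let L : V8 →ₗ[ZMod 2] ZMod 2 := (AddMonoidHom.mk' (fun v => l ⟨s v, hs v⟩) fun u v => by
    rw [← ladd]
    exact lwd _ _ (by simp only [Subgroup.coe_mul, S₀.pi_mul _ (hs u) _ (hs v), hsv])).toZModLinearMap 2
  let x : V8 := Sum.elim (fun i => L (ff i)) (fun i => L (fe i))
  have hx : ∀ v, pb x v = L v := fun v => by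
    conv_rhs => rw [basis_eq v]
    simp only [map_add, map_smul, smul_eq_mul]
    rw [pb_bd]
    simp only [x, bd, qd, Fin.sum_univ_four, Sum.elim_inl, Sum.elim_inr, Pi.add_apply]
    ring_nf
  obtain ⟨q₁, hq₁, eq₁⟩ := S.pi_surj (σ.1 x)
  refine ⟨d * q₁, mul_mem hd (S.le hq₁), fun q => ?_⟩
  have hlq : L (π₀ q) = l q := lwd _ _ (hsv _)
  have h1 : q₁ * φ q * q₁⁻¹ = zb z (l q) * φ q := by
    rw [S.comm hq₁ (hφ q), eq₁, hσ, pb_map, hx, hlq]; group
  have hzb : d * zb z (l q) * d⁻¹ = zb z (l q) := by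
    rcases two_cases (l q) with h | h <;> rw [h]
    · rw [zb_zero]; group
    · rw [zb_one, mem_centralizer_singleton_iff.1 hd, mul_inv_cancel_right]
  rw [show d * q₁ * φ q * (d * q₁)⁻¹ = d * (q₁ * φ q * q₁⁻¹) * d⁻¹ by group, h1,
    show d * (zb z (l q) * φ q) * d⁻¹ = d * zb z (l q) * d⁻¹ * (d * φ q * d⁻¹) by group, hzb, hl, ← mul_assoc,
    zb_mul S.z2, CharTwo.add_self_eq_zero, zb_zero, one_mul]
  rfl

/-- An isometry fixing a hyperplane orthogonal to a singular vector is trivial. -/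
theorem eq_one_of_fix_perp {p : V8} (hp : Sing p) {g : qAut qm} (h : ∀ w, pb p w = 0 → g.1 w = w) : g = 1 := by
  obtain ⟨y, hy⟩ := fact_y hp
  have hd : g.1 y = y ∨ g.1 y = y + p := by
    set d := g.1 y + y with hdd
    have key : ∀ v, pb d v = pb p v * pb d y := fun v => by
      have hw : pb p (v + pb p v • y) = 0 := by
        rw [pb_add_right, pb_smul_right, hy, mul_one, CharTwo.add_self_eq_zero]
      have e : pb d (v + pb p v • y) = 0 := by
        rw [hdd, pb_add_left]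
        conv_lhs => enter [1, 2]; rw [← h _ hw]
        rw [pb_map, CharTwo.add_self_eq_zero]
      rw [pb_add_right, pb_smul_right] at e
      exact CharTwo.add_eq_zero.1 e
    rcases two_cases (pb d y) with e | e
    · left
      exact eq8 (pb_nondeg fun v => by rw [← hdd, key, e, mul_zero])
    · right
      have h0 : d + p = 0 := pb_nondeg fun v => by
        rw [pb_add_left, key, e, mul_one, CharTwo.add_self_eq_zero]
      rw [← eq8 h0, hdd, add_comm (g.1 y), add_cancel8]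
  have hfix : g.1 y = y := hd.resolve_right fun e => by
    have h1 := qAut_map g y
    rw [e, qm_add, pb_comm, hy, hp.2, add_zero, add_eq_left] at h1
    exact one_ne_zero h1
  refine qAut_ext fun v => ?_
  have hw : pb p (v + pb p v • y) = 0 := by
    rw [pb_add_right, pb_smul_right, hy, mul_one, CharTwo.add_self_eq_zero]
  have h2 := h _ hw
  rw [map_add, map_smul, hfix] at h2
  exact add_right_cancel h2

/-- The centralizer of the part of the extraspecial group commuting with a second involution. -/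
theorem cent_edge_cases (S : Setup z Q π ρ) {t e : G} (ht : t ∈ Q) (hp : Sing (π t))
    (he : e ∈ centralizer ({z} : Set G)) (h : ∀ a ∈ Q, a * t = t * a → e * a * e⁻¹ = a) :
    e = 1 ∨ e = z ∨ e = t ∨ e = z * t := by
  have hperp : ∀ w, pb (π t) w = 0 → (ρ e).1 w = w := fun w hw => by
    obtain ⟨a, ha, rfl⟩ := S.pi_surj w
    rw [← S.rho_pi e he a ha, h a ha ((S.commute_iff ha ht).2 (by rw [pb_comm, hw]))]
  have hq := (S.rho_ker e he).1 (eq_one_of_fix_perp hp hperp)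
  obtain ⟨y, hy⟩ := fact_y hp
  have key : ∀ v, pb (π e) v = pb (π t) v * pb (π e) y := fun v => by
    obtain ⟨a, ha, ea⟩ := S.pi_surj (v + pb (π t) v • y)
    have h0 : pb (π t) (π a) = 0 := by
      rw [ea, pb_add_right, pb_smul_right, hy, mul_one, CharTwo.add_self_eq_zero]
    have h1 := (S.commute_iff hq ha).1 (mul_inv_eq_iff_eq_mul.1 (h a ha ((S.commute_iff ha ht).2 (by rw [pb_comm, h0]))))
    rw [ea, pb_add_right, pb_smul_right] at h1
    exact CharTwo.add_eq_zero.1 h1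
  rcases two_cases (pb (π e) y) with c | c
  · rcases (S.pi_ker e hq).1 (pb_nondeg fun v => by rw [key, c, mul_zero]) with h' | h'
    exacts [.inl h', .inr (.inl h')]
  · have h0 : π t + π e = 0 := pb_nondeg fun v => by rw [pb_add_left, key, c, mul_one, CharTwo.add_self_eq_zero]
    rcases S.pi_eq ht hq (eq8 h0) with h' | h'
    exacts [.inr (.inr (.inl h')), .inr (.inr (.inr h'))]

section

variable (S₀ : Setup z₀ Q₀ π₀ ρ₀) (X : Ctx z Q π ρ) {N₀ : Subgroup M} (hQ₀ : Q₀ ≤ N₀) {ι : N₀ →* G}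
  (hι : Function.Injective ι) (hr : ι.range = X.N) (hz : ∀ h : z₀ ∈ N₀, ι ⟨z₀, h⟩ = z)

include S₀ X hQ₀ hι hr hz

theorem mem_cent_iff (x : N₀) : ι x ∈ centralizer ({z} : Set G) ↔ (x : M) ∈ centralizer ({z₀} : Set M) := by
  rw [mem_centralizer_singleton_iff, mem_centralizer_singleton_iff, ← hz (hQ₀ S₀.zQ), ← map_mul, ← map_mul,
    hι.eq_iff, Subtype.ext_iff]
  rfl

theorem iota_mem_NC (x : N₀) (hx : (x : M) ∈ centralizer ({z₀} : Set M)) : ι x ∈ X.NC :=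
  ⟨hr ▸ ⟨x, rfl⟩, (mem_cent_iff S₀ X hQ₀ hι hr hz x).2 hx⟩

theorem iota_q : (Q₀.subgroupOf N₀).map ι = Q := by
  refine eq_q X ?_ ?_ ?_
  · rintro _ ⟨q, hq, rfl⟩
    exact iota_mem_NC S₀ X hQ₀ hι hr hz q (S₀.le hq)
  · rw [card_map_of_injective hι, Nat.card_congr (subgroupOfEquivOfLe hQ₀).toEquiv, S₀.card]
  · rintro c ⟨hcN, hcz⟩ _ ⟨q, hq, rfl⟩
    rw [← hr] at hcN
    obtain ⟨x, rfl⟩ := hcN
    refine ⟨x * q * x⁻¹, ?_, by rw [map_mul, map_mul, map_inv]⟩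
    exact S₀.conj_mem ((mem_cent_iff S₀ X hQ₀ hι hr hz x).1 hcz) hq

theorem card_cap : Nat.card ↥(N₀.subgroupOf (centralizer ({z₀} : Set M))) = 660602880 := by
  rw [← X.card_NC]
  refine Nat.card_eq_of_bijective (fun x => ⟨ι ⟨(x.1 : M), x.2⟩, iota_mem_NC S₀ X hQ₀ hι hr hz _ x.1.2⟩) ⟨?_, ?_⟩
  · intro x y h
    exact Subtype.ext (Subtype.ext (congrArg (fun a : N₀ => (a : M)) (hι (congrArg Subtype.val h))))
  · rintro ⟨g, hgN, hgz⟩
    rw [← hr] at hgN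
    obtain ⟨x, rfl⟩ := hgN
    exact ⟨⟨⟨x, (mem_cent_iff S₀ X hQ₀ hι hr hz x).1 hgz⟩, x.2⟩, rfl⟩

/-- The centraliser is determined. -/
theorem exists_cent_iso : ∃ iC : centralizer ({z₀} : Set M) →* G, Function.Injective iC ∧
    iC.range = centralizer ({z} : Set G) ∧
    ∀ (x : M) (hC : x ∈ centralizer ({z₀} : Set M)) (hN : x ∈ N₀), iC ⟨x, hC⟩ = ι ⟨x, hN⟩ := by
  classical
  haveI : Fact (Nat.Prime 2) := ⟨Nat.prime_two⟩
  set C₀ := centralizer ({z₀} : Set M)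
  set C := centralizer ({z} : Set G)
  let φ : Q₀ →* G := ι.comp (inclusion hQ₀)
  have hQ := iota_q S₀ X hQ₀ hι hr hz
  have hφ : ∀ q, φ q ∈ Q := fun q => hQ ▸ ⟨inclusion hQ₀ q, q.2, rfl⟩
  have hφs : ∀ a ∈ Q, ∃ q, φ q = a := fun a ha => by
    rw [← hQ] at ha
    obtain ⟨x, hx, rfl⟩ := ha
    exact ⟨⟨x, hx⟩, rfl⟩
  have hφi : Function.Injective φ := hι.comp (inclusion_injective hQ₀)
  have hφz : φ ⟨z₀, S₀.zQ⟩ = z := hz _
  -- compatible pairs
  let L : Subgroup (C₀ × C) :=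
    { carrier := {p | ∀ q : Q₀, (p.2 : G) * φ q * (p.2 : G)⁻¹ = φ ⟨(p.1 : M) * q * (p.1 : M)⁻¹, S₀.conj_mem p.1.2 q.2⟩}
      one_mem' := fun q => by simp
      mul_mem' := fun {a b} ha hb q => by
        have h1 := ha ⟨(b.1 : M) * q * (b.1 : M)⁻¹, S₀.conj_mem b.1.2 q.2⟩
        rw [← hb q] at h1
        refine Eq.trans ?_ (h1.trans (congrArg φ (Subtype.ext ?_)))
        · show ((a.2 : G) * b.2) * φ q * ((a.2 : G) * b.2)⁻¹ = _
          group
        · show (a.1 : M) * ((b.1 : M) * q * (b.1 : M)⁻¹) * (a.1 : M)⁻¹ = ((a.1 : M) * b.1) * q * ((a.1 : M) * b.1)⁻¹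
          group
      inv_mem' := fun {a} ha q => by
        have h1 := ha ⟨(a.1 : M)⁻¹ * q * (a.1 : M), by simpa using S₀.conj_mem (inv_mem a.1.2) q.2⟩
        have e : (⟨(a.1 : M) * ((a.1 : M)⁻¹ * q * a.1) * (a.1 : M)⁻¹, S₀.conj_mem a.1.2 (by simpa using S₀.conj_mem (inv_mem a.1.2) q.2)⟩ : Q₀) = q :=
          Subtype.ext (by show _ = (q : M); group)
        rw [e] at h1
        show (a.2 : G)⁻¹ * φ q * (a.2 : G)⁻¹⁻¹ = φ ⟨(a.1 : M)⁻¹ * q * (a.1 : M)⁻¹⁻¹, _⟩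
        rw [← h1]
        simp only [inv_inv]
        group }
  have hLmem : ∀ (c : C₀) (d : C), (c, d) ∈ L ↔
      ∀ q : Q₀, (d : G) * φ q * (d : G)⁻¹ = φ ⟨(c : M) * q * (c : M)⁻¹, S₀.conj_mem c.2 q.2⟩ := fun c d => Iff.rfl
  let p1 : L →* C₀ := (MonoidHom.fst C₀ C).comp L.subtype
  have hp1 : Function.Surjective p1 := fun c => by
    obtain ⟨d, hd, e⟩ := exists_realise S₀ X.T.S φ hφ hφi hφz c.2
    exact ⟨⟨(c, ⟨d, hd⟩), e⟩, rfl⟩
  have hker : ∀ l ∈ p1.ker, (((l : C₀ × C).2 : C) : G) = 1 ∨ (((l : C₀ × C).2 : C) : G) = z := fun l hl => by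
    refine cent_q_cases X.T.S (l : C₀ × C).2.2 fun a ha => ?_
    obtain ⟨q, rfl⟩ := hφs a ha
    rw [l.2 q]
    congr 1
    refine Subtype.ext ?_
    show ((l : C₀ × C).1 : M) * q * ((l : C₀ × C).1 : M)⁻¹ = q
    rw [show ((l : C₀ × C).1 : M) = 1 from congrArg Subtype.val (MonoidHom.mem_ker.1 hl)]
    group
  have hzL : ((1 : C₀), (⟨z, X.T.S.z_mem⟩ : C)) ∈ L := fun q => by
    show z * φ q * z⁻¹ = _
    rw [← X.T.S.z_comm (hφ q), mul_inv_cancel_right]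
    congr 1; exact Subtype.ext (by simp)
  let zL : L := ⟨_, hzL⟩
  have hKeq : ∀ l ∈ p1.ker, l = 1 ∨ l = zL := fun l hl => by
    have h1 : ((l : C₀ × C).1) = 1 := hl
    rcases hker l hl with h | h
    · exact .inl (Subtype.ext (Prod.ext h1 (Subtype.ext h)))
    · exact .inr (Subtype.ext (Prod.ext h1 (Subtype.ext h)))
  have hzK : zL ∈ p1.ker := rfl
  have hKcard : Nat.card p1.ker = 2 := by
    rw [Nat.card_eq_two_iff]
    refine ⟨1, ⟨zL, hzK⟩, fun h => X.T.S.z1 (congrArg (fun l : p1.ker => (((l : L) : C₀ × C).2 : G)) h).symm,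
      Set.eq_univ_of_forall fun l => ?_⟩
    rcases hKeq l l.2 with h | h
    exacts [.inl (Subtype.ext h), .inr (Subtype.ext h)]
  -- the part over the normalizer
  set H₀ := N₀.subgroupOf C₀
  let ιH : H₀ →* C := MonoidHom.mk' (fun h => ⟨ι ⟨((h : C₀) : M), h.2⟩, (iota_mem_NC S₀ X hQ₀ hι hr hz _ h.1.2).2⟩)
    fun a b => Subtype.ext (by simp only [Subgroup.coe_mul]; rw [← map_mul]; rfl)
  let d₀ : H₀ →* L := MonoidHom.mk' (fun h => ⟨((h : C₀), ιH h), fun q => by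
      show ι _ * ι (inclusion hQ₀ q) * (ι _)⁻¹ = ι (inclusion hQ₀ _)
      rw [← map_inv, ← map_mul, ← map_mul]
      exact congrArg ι (Subtype.ext rfl)⟩)
    fun a b => Subtype.ext (Prod.ext rfl (map_mul ιH a b))
  have hcop : (Nat.card p1.ker).Coprime (H₀.comap p1).index := by
    rw [index_comap_of_surjective _ hp1, hKcard]
    have h := card_mul_index H₀
    rw [card_cap S₀ X hQ₀ hι hr hz, card_cent S₀] at h
    rw [show H₀.index = 135 by omega]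
    norm_num
  obtain ⟨Hc, hHc⟩ := CfsgLib.Solvable.gaschutz_exists p1.ker (H₀.comap p1)
    (fun x hx y hy => by
      rcases hKeq x hx with rfl | rfl <;> rcases hKeq y hy with rfl | rfl <;> simp)
    (fun l hl => by rw [mem_comap, MonoidHom.mem_ker.1 hl]; exact one_mem _) hcop d₀.range
    (by rintro _ ⟨h, rfl⟩; exact h.2)
    (by
      rw [eq_bot_iff]
      rintro _ ⟨⟨h, rfl⟩, hk⟩
      rw [mem_bot, show h = 1 from Subtype.ext (MonoidHom.mem_ker.1 hk), map_one])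
    (le_antisymm (sup_le (fun l hl => by rw [mem_comap, MonoidHom.mem_ker.1 hl]; exact one_mem _)
      (by rintro _ ⟨h, rfl⟩; exact h.2)) fun l hl => by
        have : l * (d₀ ⟨p1 l, hl⟩)⁻¹ ∈ p1.ker := by
          rw [MonoidHom.mem_ker, map_mul, map_inv]; exact mul_inv_cancel _
        simpa using mul_mem (mem_sup_left this) (mem_sup_right (T := d₀.range) ⟨⟨p1 l, hl⟩, rfl⟩))
  let r : Hc →* C₀ := p1.comp Hc.subtype
  have hrb : Function.Bijective r := by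
    refine ⟨(injective_iff_map_eq_one r).2 fun x hx => Subtype.ext ?_, fun c => ?_⟩
    · have : (x : L) ∈ p1.ker ⊓ Hc := ⟨hx, x.2⟩
      rwa [hHc.disjoint.eq_bot, mem_bot] at this
    · obtain ⟨l, rfl⟩ := hp1 c
      obtain ⟨⟨k, h⟩, e⟩ := hHc.2 l
      refine ⟨h, ?_⟩
      show p1 (h : L) = p1 l
      rw [← e, map_mul, MonoidHom.mem_ker.1 k.2, one_mul]
  let er := MulEquiv.ofBijective r hrb
  let sC : C₀ →* C := ((MonoidHom.snd C₀ C).comp (L.subtype.comp Hc.subtype)).comp er.symm.toMonoidHom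
  have hs : ∀ (c : C₀) (q : Q₀),
      (sC c : G) * φ q * (sC c : G)⁻¹ = φ ⟨(c : M) * q * (c : M)⁻¹, S₀.conj_mem c.2 q.2⟩ := fun c q => by
    have h1 : ((((er.symm c : Hc) : L) : C₀ × C).1) = c := er.apply_symm_apply c
    have h2 := ((er.symm c : Hc) : L).2 q
    refine h2.trans (congrArg φ (Subtype.ext ?_))
    show (((((er.symm c : Hc) : L) : C₀ × C).1 : M)) * q * (((((er.symm c : Hc) : L) : C₀ × C).1 : M))⁻¹ = _
    rw [h1]
  -- agreement
  have hdiff : ∀ h : H₀, ∃ b, (sC (h : C₀) : G) = zb z b * (ιH h : G) := fun h => by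
    have hh : ((h : C₀), sC (h : C₀)) ∈ L := hs (h : C₀)
    have hl : (⟨_, hh⟩ : L) * (d₀ h)⁻¹ ∈ p1.ker := by
      rw [MonoidHom.mem_ker, map_mul, map_inv]; exact mul_inv_cancel _
    rcases hker _ hl with e | e
    · exact ⟨0, by rw [zb_zero, one_mul]; exact mul_inv_eq_one.1 e⟩
    · exact ⟨1, by rw [zb_one]; exact eq_mul_of_mul_inv_eq e⟩
  choose b hb using hdiff
  have badd : ∀ x y, b (x * y) = b x + b y := fun x y => zb_inj X.T.S (by
    refine mul_right_cancel (b := (ιH (x * y) : G)) ?_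
    have e : ∀ (c : C) (a : ZMod 2), (c : G) * zb z a = zb z a * (c : G) := fun c a => by
      rcases two_cases a with rfl | rfl
      · simp [zb_zero]
      · rw [zb_one]; exact mem_centralizer_singleton_iff.1 c.2
    rw [← hb, ← zb_mul X.T.S.z2, coe_mul, map_mul, coe_mul, map_mul, coe_mul, hb, hb,
      show zb z (b x) * (ιH x : G) * (zb z (b y) * (ιH y : G)) = zb z (b x) * ((ιH x : G) * zb z (b y)) * (ιH y : G) by group,
      e]
    group)
  let toH : X.NC →* H₀ := (MulEquiv.ofBijective (MonoidHom.mk'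
      (fun h : H₀ => (⟨ιH h, iota_mem_NC S₀ X hQ₀ hι hr hz _ h.1.2⟩ : X.NC))
      fun a b => Subtype.ext (congrArg (fun c => ((c : C) : G)) (map_mul ιH a b))) (by
    refine ⟨fun a a' e => Subtype.ext (Subtype.ext (congrArg (fun x : N₀ => (x : M)) (hι (congrArg Subtype.val e)))), ?_⟩
    rintro ⟨g, hgN, hgz⟩
    rw [← hr] at hgN
    obtain ⟨x, rfl⟩ := hgN
    exact ⟨⟨⟨x, (mem_cent_iff S₀ X hQ₀ hι hr hz x).1 hgz⟩, x.2⟩, rfl⟩)).symm.toMonoidHom
  have hb0 : ∀ h : H₀, b h = 0 := fun h => by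
    let f : H₀ →* Multiplicative (ZMod 2) := MonoidHom.mk' (fun h => Multiplicative.ofAdd (b h))
      fun x y => by rw [badd, ofAdd_add]
    obtain ⟨c, rfl⟩ : ∃ c, toH c = h := MulEquiv.surjective _ h
    exact ofAdd_eq_one.1 (nc_no_char X (f.comp toH) c)
  have hagree : ∀ (x : M) (hC : x ∈ C₀) (hN : x ∈ N₀), (sC ⟨x, hC⟩ : G) = ι ⟨x, hN⟩ := fun x hC hN => by
    have := hb ⟨⟨x, hC⟩, hN⟩
    rwa [hb0, zb_zero, one_mul] at this
  have hsz : (sC ⟨z₀, S₀.z_mem⟩ : G) = z := by rw [hagree _ _ (hQ₀ S₀.zQ), hz]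
  refine ⟨C.subtype.comp sC, ?_, ?_, hagree⟩
  · refine (injective_iff_map_eq_one _).2 fun c hc => ?_
    have hc' : (sC c : G) = 1 := hc
    have h1 : ∀ a ∈ Q₀, (c : M) * a * (c : M)⁻¹ = a := fun a ha => by
      have h2 := hs c ⟨a, ha⟩
      rw [hc', one_mul, inv_one, mul_one] at h2
      exact (congrArg Subtype.val (hφi h2)).symm
    rcases cent_q_cases S₀ c.2 h1 with e | e
    · exact Subtype.ext e
    · exfalso
      rw [show c = ⟨z₀, S₀.z_mem⟩ from Subtype.ext e, hsz] at hc'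
      exact X.T.S.z1 hc'
  · refine le_antisymm (by rintro _ ⟨c, rfl⟩; exact (sC c).2) fun d hd => ?_
    have hQc : ∀ q : Q₀, d * φ q * d⁻¹ ∈ Q := fun q => X.T.S.conj_mem hd (hφ q)
    -- the inverse map of the extraspecial groups
    let eφ : Q₀ ≃* Q := MulEquiv.ofBijective (φ.codRestrict Q hφ)
      ⟨fun a a' e => hφi (congrArg Subtype.val e), fun a => by
        obtain ⟨q, e⟩ := hφs a a.2
        exact ⟨q, Subtype.ext e⟩⟩
    obtain ⟨c, hc, e⟩ := exists_realise X.T.S S₀ (Q₀.subtype.comp eφ.symm.toMonoidHom) (fun a => (eφ.symm a).2)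
      (Subtype.val_injective.comp eφ.symm.injective)
      (congrArg Subtype.val ((eφ.symm_apply_eq (x := ⟨z, X.T.S.zQ⟩) (y := ⟨z₀, S₀.zQ⟩)).2 (Subtype.ext hφz.symm))) hd
    have hrel : (d : G)⁻¹ * (sC ⟨c, hc⟩ : G) = 1 ∨ (d : G)⁻¹ * (sC ⟨c, hc⟩ : G) = z := by
      refine cent_q_cases X.T.S (mul_mem (inv_mem hd) (sC _).2) fun a ha => ?_
      obtain ⟨q, rfl⟩ := hφs a ha
      rw [show d⁻¹ * (sC ⟨c, hc⟩ : G) * φ q * (d⁻¹ * (sC ⟨c, hc⟩ : G))⁻¹ =
        d⁻¹ * ((sC ⟨c, hc⟩ : G) * φ q * (sC ⟨c, hc⟩ : G)⁻¹) * d by group, hs]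
      have e' : c * (q : M) * c⁻¹ = (eφ.symm ⟨d * φ q * d⁻¹, hQc q⟩ : M) := by
        have h := e ⟨φ q, hφ q⟩
        have hq' : eφ.symm ⟨φ q, hφ q⟩ = q := eφ.symm_apply_eq.2 (Subtype.ext rfl)
        simp only [MonoidHom.comp_apply, MulEquiv.coe_toMonoidHom, Subgroup.coe_subtype] at h
        rw [hq'] at h
        exact h
      rw [show (⟨c * q * c⁻¹, S₀.conj_mem hc q.2⟩ : Q₀) = eφ.symm ⟨d * φ q * d⁻¹, hQc q⟩ from Subtype.ext e']
      have := congrArg Subtype.val (eφ.apply_symm_apply ⟨d * φ q * d⁻¹, hQc q⟩)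
      rw [show φ (eφ.symm ⟨d * φ q * d⁻¹, hQc q⟩) = d * φ q * d⁻¹ from this]
      group
    rcases hrel with h | h
    · exact ⟨⟨c, hc⟩, (inv_mul_eq_one.1 h).symm⟩
    · refine ⟨⟨c, hc⟩ * ⟨z₀, S₀.z_mem⟩, ?_⟩
      show (sC (⟨c, hc⟩ * _) : G) = d
      rw [map_mul, coe_mul, hsz, inv_mul_eq_iff_eq_mul.1 h, mul_assoc, X.T.S.z2, mul_one]

/-- Elements of an odd index subgroup count. -/
theorem edge_index {t : G} (ht : t ∈ X.U) (ht0 : π t ≠ 0) :
    Odd ((X.NC ⊓ centralizer ({t} : Set G)).subgroupOf (centralizer ({z} : Set G) ⊓ centralizer ({t} : Set G))).index := by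
  classical
  have orb : ∀ K : Subgroup G, Nat.card K =
      Nat.card ↥(K ⊓ centralizer ({t} : Set G)) * {u | ∃ k ∈ K, k * t * k⁻¹ = u}.ncard := by
    intro K
    let O : Set G := {u | ∃ k ∈ K, k * t * k⁻¹ = u}
    let f : K → O := fun k => ⟨(k : G) * t * (k : G)⁻¹, k, k.2, rfl⟩
    have hfib : ∀ y : O, Nat.card {k : K // f k = y} = Nat.card ↥(K ⊓ centralizer ({t} : Set G)) := by
      rintro ⟨_, m, hm, rfl⟩
      refine Nat.card_congr
        { toFun := fun n => ⟨m⁻¹ * (n.1 : G), K.mul_mem (K.inv_mem hm) n.1.2, mem_centralizer_singleton_iff.2 ?_⟩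
          invFun := fun c => ⟨⟨m * c.1, mul_mem hm c.2.1⟩, Subtype.ext ?_⟩
          left_inv := fun n => Subtype.ext (Subtype.ext (mul_inv_cancel_left m (n.1 : G)))
          right_inv := fun c => Subtype.ext (inv_mul_cancel_left m (c.1 : G)) }
      · have h : (n.1 : G) * t * (n.1 : G)⁻¹ = m * t * m⁻¹ := congrArg Subtype.val n.2
        calc m⁻¹ * (n.1 : G) * t = m⁻¹ * ((n.1 : G) * t * (n.1 : G)⁻¹) * (n.1 : G) := by group
          _ = t * (m⁻¹ * (n.1 : G)) := by rw [h]; group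
      · show m * c.1 * t * (m * c.1)⁻¹ = m * t * m⁻¹
        rw [show m * c.1 * t * (m * c.1)⁻¹ = m * (c.1 * t * (c.1)⁻¹) * m⁻¹ by group,
          mem_centralizer_singleton_iff.1 c.2.2, mul_inv_cancel_right]
    haveI := Fintype.ofFinite O
    have h := Nat.card_congr (Equiv.sigmaFiberEquiv f)
    rw [Nat.card_sigma, Finset.sum_congr rfl (fun y _ => hfib y), Finset.sum_const, Finset.card_univ,
      ← Nat.card_eq_fintype_card, smul_eq_mul, Nat.card_coe_set_eq] at h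
    rw [← h, mul_comm]
  have h30 : {u | ∃ k ∈ X.NC, k * t * k⁻¹ = u}.ncard = 30 := by
    have e : {u | ∃ k ∈ X.NC, k * t * k⁻¹ = u} = (X.U : Set G) \ {1, z} := by
      ext u
      constructor
      · rintro ⟨k, hk, rfl⟩
        have hkQ := X.T.S.conj_mem hk.2 ht.1
        have hkU : k * t * k⁻¹ ∈ X.U := X.conj_U hk ht
        refine ⟨hkU, fun h => ht0 ?_⟩
        rcases h with h | h
        · rw [conj_eq_one_iff.1 h, X.T.S.pi_one]
        · rw [show t = k⁻¹ * z * k by rw [← Set.mem_singleton_iff.1 h]; group, mul_assoc,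
            ← mem_centralizer_singleton_iff.1 hk.2, inv_mul_cancel_left, X.T.S.pi_z]
      · rintro ⟨hu, hne⟩
        exact u_move X ht hu ht0 fun h0 => hne (by
          rcases (X.T.S.pi_ker u hu.1).1 h0 with e | e <;> simp [e])
    rw [e, Set.ncard_sdiff (by
      intro x hx; rcases hx with rfl | rfl
      exacts [one_mem _, X.zU]), Set.ncard_pair X.T.S.z1.symm, ← Nat.card_coe_set_eq,
      show Nat.card ↥(X.U : Set G) = 32 from card_baseU X.T]
  have heven : Even {u | ∃ k ∈ centralizer ({z} : Set G), k * t * k⁻¹ = u}.ncard := by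
    obtain ⟨q, hq, hqt⟩ : ∃ q ∈ Q, q * t * q⁻¹ = z * t := by
      obtain ⟨y, hy⟩ := fact_y (show Sing (π t) from ⟨ht0, inW_qm ht.2⟩)
      obtain ⟨q, hq, rfl⟩ := X.T.S.pi_surj y
      exact ⟨q, hq, by rw [X.T.S.comm hq ht.1, pb_comm, hy, zb_one]; group⟩
    set O := {u | ∃ k ∈ centralizer ({z} : Set G), k * t * k⁻¹ = u}
    have hmem : ∀ u ∈ O, z * u ∈ O := by
      rintro _ ⟨k, hk, rfl⟩
      refine ⟨k * q, mul_mem hk (X.T.S.le hq), ?_⟩
      rw [show k * q * t * (k * q)⁻¹ = k * (q * t * q⁻¹) * k⁻¹ by group, hqt,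
        show k * (z * t) * k⁻¹ = k * z * k⁻¹ * (k * t * k⁻¹) by group, mem_centralizer_singleton_iff.1 hk,
        mul_inv_cancel_right]
    rw [Set.ncard_eq_toFinset_card O (Set.toFinite O), ← ZMod.natCast_eq_zero_iff_even]
    rw [Finset.card_eq_sum_ones, Nat.cast_sum]
    refine Finset.sum_involution (fun a _ => z * a) (fun a _ => by decide) (fun a _ _ h => X.T.S.z1 (mul_eq_right.1 h))
      (fun a ha => by simpa using hmem a (by simpa using ha)) (fun a _ => by rw [← mul_assoc, X.T.S.z2, one_mul])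
  have hC := orb (centralizer ({z} : Set G))
  have hN := orb X.NC
  rw [card_cent X.T.S] at hC
  rw [X.card_NC, h30] at hN
  have hle : X.NC ⊓ centralizer ({t} : Set G) ≤ centralizer ({z} : Set G) ⊓ centralizer ({t} : Set G) :=
    inf_le_inf_right _ inf_le_right
  have hd := card_mul_index ((X.NC ⊓ centralizer ({t} : Set G)).subgroupOf (centralizer ({z} : Set G) ⊓ centralizer ({t} : Set G)))
  rw [Nat.card_congr (subgroupOfEquivOfLe hle).toEquiv] at hd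
  obtain ⟨k', hk'⟩ := heven
  rw [hk', ← hd] at hC
  have hp : Nat.card ↥(X.NC ⊓ centralizer ({t} : Set G)) = 22020096 := by omega
  rw [hp] at hC
  set m := ((X.NC ⊓ centralizer ({t} : Set G)).subgroupOf (centralizer ({z} : Set G) ⊓ centralizer ({t} : Set G))).index
  have h15 : m * k' = 2025 := by nlinarith
  exact Nat.Odd.of_mul_left (n := k') (by rw [h15]; decide)

/-- The action on an edge is determined. -/
theorem edge_conj (iC : centralizer ({z₀} : Set M) →* G) (hi : Function.Injective iC)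
    (hrC : iC.range = centralizer ({z} : Set G))
    (hag : ∀ (x : M) (hC : x ∈ centralizer ({z₀} : Set M)) (hN : x ∈ N₀), iC ⟨x, hC⟩ = ι ⟨x, hN⟩)
    (n : N₀) (d : centralizer ({z₀} : Set M)) (h : (n : M)⁻¹ * d * n ∈ centralizer ({z₀} : Set M))
    (htQ : (n : M) * z₀ * (n : M)⁻¹ ∈ Q₀) (htz : (n : M) * z₀ * (n : M)⁻¹ ≠ z₀) :
    iC ⟨(n : M)⁻¹ * d * n, h⟩ = (ι n)⁻¹ * iC d * ι n := by
  classical
  set t₀ := (n : M) * z₀ * (n : M)⁻¹ with ht₀
  have hQ := iota_q S₀ X hQ₀ hι hr hz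
  have hiQ : ∀ a (ha : a ∈ Q₀), iC ⟨a, S₀.le ha⟩ ∈ Q := fun a ha => by
    rw [hag a _ (hQ₀ ha), ← hQ]; exact ⟨_, ha, rfl⟩
  set t := ι n * z * (ι n)⁻¹ with ht
  have ett : iC ⟨t₀, S₀.le htQ⟩ = t := by
    rw [hag _ _ (hQ₀ htQ), ht, ← hz (hQ₀ S₀.zQ), ← map_inv, ← map_mul, ← map_mul]
    exact congrArg ι (Subtype.ext ht₀)
  have htQ' : t ∈ Q := ett ▸ hiQ _ htQ
  have htA : t ∈ X.A := (X.orb_A ⟨ι n, hr ▸ ⟨n, rfl⟩, rfl⟩).1
  have htU : t ∈ X.U := ⟨htQ', (baseA_inf X.T.S htQ').1 htA⟩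
  have hz0c : iC ⟨z₀, S₀.z_mem⟩ = z := by rw [hag _ _ (hQ₀ S₀.zQ), hz]
  have ht0 : π t ≠ 0 := fun h0 => by
    rcases (X.T.S.pi_ker t htQ').1 h0 with e | e
    · exact X.T.S.z1 (conj_eq_one_iff.1 e)
    · rw [← ett, ← hz0c] at e
      exact htz (congrArg Subtype.val (hi e))
  have hD : ∀ x : (centralizer ({z₀} : Set M)), (n : M)⁻¹ * x * n ∈ (centralizer ({z₀} : Set M)) ↔ (x : M) * t₀ = t₀ * x := fun x => by
    rw [mem_centralizer_singleton_iff, ht₀]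
    constructor <;> intro e
    · calc (x : M) * ((n : M) * z₀ * (n : M)⁻¹) = (n : M) * ((n : M)⁻¹ * x * n * z₀) * (n : M)⁻¹ := by group
        _ = (n : M) * z₀ * (n : M)⁻¹ * x := by rw [e]; group
    · calc (n : M)⁻¹ * x * n * z₀ = (n : M)⁻¹ * ((x : M) * ((n : M) * z₀ * (n : M)⁻¹)) * n := by group
        _ = z₀ * ((n : M)⁻¹ * x * n) := by rw [e]; group
  let D₀ : Subgroup (centralizer ({z₀} : Set M)) :=
    { carrier := {x | (n : M)⁻¹ * x * n ∈ (centralizer ({z₀} : Set M))}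
      one_mem' := by simp
      mul_mem' := fun {a b} ha hb => by
        show (n : M)⁻¹ * ((a : M) * b) * n ∈ (centralizer ({z₀} : Set M))
        rw [show (n : M)⁻¹ * ((a : M) * b) * n = (n : M)⁻¹ * a * n * ((n : M)⁻¹ * b * n) by group]
        exact mul_mem ha hb
      inv_mem' := fun {a} ha => by
        show (n : M)⁻¹ * ((a : M))⁻¹ * n ∈ (centralizer ({z₀} : Set M))
        rw [show (n : M)⁻¹ * ((a : M))⁻¹ * n = ((n : M)⁻¹ * a * n)⁻¹ by group]
        exact inv_mem ha }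
  let f₁ : D₀ →* G := iC.comp D₀.subtype
  let f₂ : D₀ →* G := MonoidHom.mk' (fun x => ι n * iC ⟨(n : M)⁻¹ * (x.1 : M) * n, x.2⟩ * (ι n)⁻¹) fun a b => by
    rw [show ι n * iC ⟨(n : M)⁻¹ * (a.1 : M) * n, a.2⟩ * (ι n)⁻¹ * (ι n * iC ⟨(n : M)⁻¹ * (b.1 : M) * n, b.2⟩ * (ι n)⁻¹)
      = ι n * (iC ⟨(n : M)⁻¹ * (a.1 : M) * n, a.2⟩ * iC ⟨(n : M)⁻¹ * (b.1 : M) * n, b.2⟩) * (ι n)⁻¹ by group, ← map_mul]
    refine congrArg (fun y => ι n * iC y * (ι n)⁻¹) (Subtype.ext ?_)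
    show (n : M)⁻¹ * ((a.1 : M) * b.1) * n = (n : M)⁻¹ * (a.1 : M) * n * ((n : M)⁻¹ * (b.1 : M) * n)
    group
  have heq : ∀ x : D₀, (x.1 : M) ∈ N₀ → f₁ x = f₂ x := fun x hx => by
    have hn' : (n : M)⁻¹ * (x.1 : M) * n ∈ N₀ := mul_mem (mul_mem (inv_mem n.2) hx) n.2
    show iC x.1 = ι n * iC ⟨_, x.2⟩ * (ι n)⁻¹
    rw [hag _ x.1.2 hx, hag _ x.2 hn', ← map_inv, ← map_mul, ← map_mul]
    exact congrArg ι (Subtype.ext (by show _ = (n : M) * ((n : M)⁻¹ * (x.1 : M) * n) * (n : M)⁻¹; group))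
  have hz0 : (n : M)⁻¹ * z₀ * n ∈ (centralizer ({z₀} : Set M)) := (hD ⟨z₀, S₀.z_mem⟩).2 (mem_centralizer_singleton_iff.1 (S₀.le htQ)).symm
  have hmemD : ∀ x : D₀, f₂ x ∈ centralizer ({z} : Set G) ⊓ centralizer ({t} : Set G) := fun x => by
    refine ⟨mem_centralizer_singleton_iff.2 ?_, mem_centralizer_singleton_iff.2 ?_⟩
    · rw [show z = f₂ ⟨⟨z₀, S₀.z_mem⟩, hz0⟩ from by rw [← heq ⟨_, hz0⟩ (hQ₀ S₀.zQ)]; exact hz0c.symm,
        ← map_mul, ← map_mul]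
      exact congrArg f₂ (Subtype.ext (Subtype.ext (mem_centralizer_singleton_iff.1 x.1.2)))
    · have hc : iC ⟨(n : M)⁻¹ * (x.1 : M) * n, x.2⟩ * z = z * iC ⟨(n : M)⁻¹ * (x.1 : M) * n, x.2⟩ :=
        mem_centralizer_singleton_iff.1 (hrC ▸ ⟨_, rfl⟩)
      show ι n * _ * (ι n)⁻¹ * t = t * (ι n * _ * (ι n)⁻¹)
      rw [ht]
      calc ι n * iC ⟨_, x.2⟩ * (ι n)⁻¹ * (ι n * z * (ι n)⁻¹) = ι n * (iC ⟨_, x.2⟩ * z) * (ι n)⁻¹ := by group
        _ = ι n * z * (ι n)⁻¹ * (ι n * iC ⟨_, x.2⟩ * (ι n)⁻¹) := by rw [hc]; group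
  have hf₁ : ∀ x : D₀, f₁ x ∈ centralizer ({z} : Set G) ⊓ centralizer ({t} : Set G) := fun x => by
    refine ⟨hrC ▸ ⟨_, rfl⟩, mem_centralizer_singleton_iff.2 ?_⟩
    show iC x.1 * t = t * iC x.1
    rw [← ett, ← map_mul, ← map_mul]
    exact congrArg iC (Subtype.ext ((hD x.1).1 x.2))
  have hε : ∀ x : D₀, (f₁ x)⁻¹ * f₂ x = 1 ∨ (f₁ x)⁻¹ * f₂ x = z ∨ (f₁ x)⁻¹ * f₂ x = t ∨ (f₁ x)⁻¹ * f₂ x = z * t := by
    intro x
    refine cent_edge_cases X.T.S htQ' ⟨ht0, inW_qm htU.2⟩ (mul_mem (inv_mem (hf₁ x).1) (hmemD x).1) fun a ha hat => ?_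
    obtain ⟨⟨a₀, haN⟩, haq, ea⟩ : ∃ q : N₀, q ∈ Q₀.subgroupOf N₀ ∧ ι q = a := by
      rw [← hQ] at ha; exact ha
    have ha₀ : a₀ ∈ Q₀ := haq
    have eia : iC ⟨a₀, S₀.le ha₀⟩ = a := (hag _ _ haN).trans ea
    have haD : (⟨a₀, S₀.le ha₀⟩ : (centralizer ({z₀} : Set M))) ∈ D₀ := by
      refine (hD _).2 (congrArg Subtype.val (hi (a₁ := ⟨a₀, S₀.le ha₀⟩ * ⟨t₀, S₀.le htQ⟩)
        (a₂ := ⟨t₀, S₀.le htQ⟩ * ⟨a₀, S₀.le ha₀⟩) ?_))
      rw [map_mul, map_mul, eia, ett, hat]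
    let y : D₀ := ⟨⟨a₀, S₀.le ha₀⟩, haD⟩
    have hy : f₁ y = a := eia
    have e1 : f₁ y = f₂ y := heq y haN
    have e2 : f₁ (x * y * x⁻¹) = f₂ (x * y * x⁻¹) := heq _ (hQ₀ (S₀.conj_mem x.1.2 ha₀))
    simp only [map_mul, map_inv] at e2
    rw [← e1, hy] at e2
    calc (f₁ x)⁻¹ * f₂ x * a * ((f₁ x)⁻¹ * f₂ x)⁻¹ = (f₁ x)⁻¹ * (f₂ x * a * (f₂ x)⁻¹) * f₁ x := by group
      _ = a := by rw [← e2]; group
  -- a homomorphism to the centre of the pair, trivial on a subgroup of odd index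
  have hcen : ∀ x y : D₀, ((f₁ x)⁻¹ * f₂ x) * f₁ y = f₁ y * ((f₁ x)⁻¹ * f₂ x) := fun x y => by
    have h1 := mem_centralizer_singleton_iff.1 (hf₁ y).1
    have h2 := mem_centralizer_singleton_iff.1 (hf₁ y).2
    rcases hε x with e | e | e | e <;> rw [e]
    · rw [one_mul, mul_one]
    · exact h1.symm
    · exact h2.symm
    · calc z * t * f₁ y = z * (t * f₁ y) := mul_assoc _ _ _
        _ = z * f₁ y * t := by rw [← h2, ← mul_assoc]
        _ = f₁ y * (z * t) := by rw [← h1, mul_assoc]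
  let ε : D₀ →* G := MonoidHom.mk' (fun x => (f₁ x)⁻¹ * f₂ x) fun x y => by
    rw [map_mul, map_mul, mul_inv_rev,
      show (f₁ y)⁻¹ * (f₁ x)⁻¹ * (f₂ x * f₂ y) = (f₁ y)⁻¹ * ((f₁ x)⁻¹ * f₂ x) * f₂ y by group]
    calc (f₁ y)⁻¹ * ((f₁ x)⁻¹ * f₂ x) * f₂ y
        = (f₁ y)⁻¹ * (((f₁ x)⁻¹ * f₂ x) * f₁ y) * ((f₁ y)⁻¹ * f₂ y) := by group
      _ = (f₁ x)⁻¹ * f₂ x * ((f₁ y)⁻¹ * f₂ y) := by rw [hcen]; group
  have hodd : Odd ε.ker.index := by
    let g : D₀ →* ↥(centralizer ({z} : Set G) ⊓ centralizer ({t} : Set G)) := f₁.codRestrict (centralizer ({z} : Set G) ⊓ centralizer ({t} : Set G)) hf₁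
    have hg : Function.Surjective g := by
      rintro ⟨w, hw1, hw2⟩
      rw [← hrC] at hw1
      obtain ⟨x, rfl⟩ := hw1
      refine ⟨⟨x, (hD x).2 ?_⟩, rfl⟩
      refine congrArg Subtype.val (hi (a₁ := x * ⟨t₀, S₀.le htQ⟩) (a₂ := ⟨t₀, S₀.le htQ⟩ * x) ?_)
      rw [map_mul, map_mul, ett]
      exact mem_centralizer_singleton_iff.1 hw2
    have hle : ((X.NC ⊓ centralizer ({t} : Set G)).subgroupOf (centralizer ({z} : Set G) ⊓ centralizer ({t} : Set G))).comap g ≤ ε.ker := by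
      rintro x ⟨⟨hxN, -⟩, -⟩
      have hxN' : f₁ x ∈ ι.range := hr ▸ hxN
      obtain ⟨m, hm⟩ := hxN'
      have hxm : (x.1 : M) ∈ N₀ := by
        have hmC : (m : M) ∈ (centralizer ({z₀} : Set M)) := (mem_cent_iff S₀ X hQ₀ hι hr hz m).1 (hm ▸ (hf₁ x).1)
        have := hi ((hag (m : M) hmC m.2).trans hm)
        have e : (m : M) = (x.1 : M) := congrArg Subtype.val this
        rw [← e]; exact m.2
      rw [MonoidHom.mem_ker]
      show (f₁ x)⁻¹ * f₂ x = 1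
      rw [heq x hxm, inv_mul_cancel]
    have h1 := index_dvd_of_le hle
    rw [index_comap_of_surjective _ hg] at h1
    exact (edge_index S₀ X hQ₀ hι hr hz htU ht0).of_dvd_nat h1
  have hzt : z * t = t * z := (X.T.S.z_comm htQ').symm
  have htt : t * t = 1 := X.a_sq htA
  have hone : ∀ x, ε x = 1 := fun x => by
    have hsq : ε x * ε x = 1 := by
      rcases hε x with e | e | e | e <;> show ((f₁ x)⁻¹ * f₂ x) * ((f₁ x)⁻¹ * f₂ x) = 1 <;> rw [e]
      · rw [one_mul]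
      · exact X.T.S.z2
      · exact htt
      · rw [mul_assoc, ← mul_assoc t, ← hzt, mul_assoc, htt, mul_one, X.T.S.z2]
    have hp : (⟨ε x, x, rfl⟩ : ε.range) ^ Nat.card ε.range = 1 := pow_card_eq_one'
    rw [← index_ker] at hp
    obtain ⟨k, hk⟩ := hodd
    rw [hk, pow_succ, pow_mul, sq (⟨ε x, x, rfl⟩ : ε.range),
      show (⟨ε x, x, rfl⟩ : ε.range) * ⟨ε x, x, rfl⟩ = 1 from Subtype.ext hsq, one_pow, one_mul] at hp
    exact congrArg Subtype.val hp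
  have hfin := hone ⟨d, h⟩
  change (f₁ ⟨d, h⟩)⁻¹ * f₂ ⟨d, h⟩ = 1 at hfin
  rw [inv_mul_eq_one] at hfin
  show _ = (ι n)⁻¹ * f₁ ⟨d, h⟩ * ι n
  rw [hfin]
  show _ = (ι n)⁻¹ * (ι n * iC ⟨(n : M)⁻¹ * (d : M) * n, h⟩ * (ι n)⁻¹) * ι n
  group

end

end CfsgLib.CoOneRec
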