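import Cfsg.Agent.Lib.CoOneRec.Basic
import Cfsg.Agent.Lib.CoOneRec.CentIso

/-!
An isomorphism of the groups `2^11 : M24` extends to the amalgam with the centraliser of the involution.
-/

set_option autoImplicit false
set_option linter.style.haveILetI false

namespace CfsgLib.CoOneRec

open Subgroup Cfsg CfsgLib.Leech CfsgLib.Leech.CoOne CfsgLib.CoType CfsgLib.Classical

theorem finite_co1 : Finite Spor.Co1 := by
  have : Finite Co0 := Nat.finite_of_card_ne_zero (by rw [card_co0]; norm_num)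
  infer_instance

theorem qm_le_Nm : Qm ≤ Nm := by
  rintro _ ⟨x, hx, rfl⟩
  rw [SetLike.mem_coe, ← range_kerMap] at hx
  obtain ⟨y, rfl⟩ := hx
  obtain ⟨a, b, e⟩ := CoTwo.exists_kEl y.2
  refine ⟨((y : CoTwo.centS) : Co0), ?_, rfl⟩
  rw [e]
  exact monoAut_mem _ _ _ _

theorem exists_setup_model : ∃ (π₀ : Spor.Co1 → V8) (ρ₀ : Spor.Co1 → qAut qm), Setup zOne Qm π₀ ρ₀ := by
  haveI := finite_co1
  have e : ((Subgroup.centralizer ({zOne} : Set Spor.Co1)) ⧸ actOne.ker) ≃*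
      Omega (ZMod 2) (quadFormPlus 4 (ZMod 2)) := by
    rw [← coe_qPlus]
    exact (QuotientGroup.quotientKerEquivRange actOne).trans (MulEquiv.subgroupCongr range_actOne)
  obtain ⟨t, R, π, π', ρ, ρ', C⟩ := config_of_hyp_map zOne orderOf_zOne actOne.ker gfs_eq_actKer
    (CfsgLib.LargeExtra.isExtraspecial_of_mulEquiv kerIso CfsgLib.Leech.CoTwo.ker_extraspecial) card_actKer e
    exists_conj
  exact ⟨π, ρ, C.P.S⟩

theorem zOne_mem_Nm : zOne ∈ Nm := by
  obtain ⟨π₀, ρ₀, S₀⟩ := exists_setup_model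
  exact qm_le_Nm S₀.zQ

/-- The amalgam from the isomorphism of the monomial groups. -/
theorem exists_amal {G : Type*} [Group G] [Finite G] {z : G} {Q : Subgroup G} {π : G → V8} {ρ : G → qAut qm}
    (X : Ctx z Q π ρ) (ι : Nm →* G) (hι : Function.Injective ι) (hr : ι.range = X.N)
    (hz : ∀ h : zOne ∈ Nm, ι ⟨zOne, h⟩ = z) : ∃ A : Amal z, A.iN = ι := by
  haveI := finite_co1
  obtain ⟨π₀, ρ₀, S₀⟩ := exists_setup_model
  obtain ⟨iC, hi, hrC, hag⟩ := exists_cent_iso S₀ X qm_le_Nm hι hr hz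
  exact ⟨⟨iC, ι, hi, hrC, fun h => by rw [hag zOne h zOne_mem_Nm, hz], hι, hag,
    fun n d h h1 h2 => edge_conj S₀ X qm_le_Nm hι hr hz iC hi hrC hag n d h h1 h2⟩, rfl⟩

end CfsgLib.CoOneRec
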