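import Cfsg.Agent.Lib.Leech.CoOne.Main

/-!
The model amalgam of the centraliser of an involution and the normalizer of the elementary group of order
2048 in the first Conway group, and amalgams of the same type in an arbitrary group.
-/

set_option autoImplicit false

namespace CfsgLib.CoOneRec

open Subgroup Cfsg CfsgLib.Leech CfsgLib.Leech.CoOne

/-- The centraliser of the model involution. -/
abbrev Cm : Subgroup Spor.Co1 := centralizer ({zOne} : Set Spor.Co1)

/-- The image of the monomial group. -/
def Nm : Subgroup Spor.Co1 := crossStab.map (QuotientGroup.mk' (center Co0))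

/-- The extraspecial subgroup of the model centraliser. -/
noncomputable def Qm : Subgroup Spor.Co1 := actOne.ker.map (centralizer ({zOne} : Set Spor.Co1)).subtype

/-- The model amalgam inside a group, with the relation on an edge. -/
structure Amal {G : Type*} [Group G] (z : G) where
  /-- The centraliser. -/
  iC : Cm →* G
  /-- The monomial group. -/
  iN : Nm →* G
  injC : Function.Injective iC
  rangeC : iC.range = centralizer ({z} : Set G)
  mapC : ∀ h : zOne ∈ Cm, iC ⟨zOne, h⟩ = z
  injN : Function.Injective iN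
  agree : ∀ (x : Spor.Co1) (hC : x ∈ Cm) (hN : x ∈ Nm), iC ⟨x, hC⟩ = iN ⟨x, hN⟩
  edge : ∀ (n : Nm) (d : Cm) (h : (n : Spor.Co1)⁻¹ * d * n ∈ Cm),
    (n : Spor.Co1) * zOne * (n : Spor.Co1)⁻¹ ∈ Qm → (n : Spor.Co1) * zOne * (n : Spor.Co1)⁻¹ ≠ zOne →
    iC ⟨(n : Spor.Co1)⁻¹ * d * n, h⟩ = (iN n)⁻¹ * iC d * iN n

end CfsgLib.CoOneRec
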