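import Cfsg.Agent.Lib.CoType.TwoOrder
import Cfsg.Agent.Lib.Classical.SLBasic

/-!
Inside the group `2^11 : (2^4 : A8)`: the invariant subgroups, the absence of a character, and the recognition
of the extraspecial subgroup.
-/

set_option autoImplicit false
set_option linter.style.haveILetI false
set_option linter.unusedSectionVars false
set_option linter.unusedSimpArgs false

namespace CfsgLib.CoOneRec

open Subgroup CfsgLib.Classical CfsgLib.CoType

variable {G : Type*} [Group G] [Finite G] {z : G} {Q : Subgroup G} {π : G → V8} {ρ : G → qAut qm}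

theorem other_idx : ∀ i : Fin 4, ∃ j, j ≠ i := by decide

theorem pb_fe (i : Fin 4) (x : V8) : pb (fe i) x = x (.inr i) := by
  rw [pb_bd]; fin_cases i <;> simp [bd, qd, fe, Pi.single_apply] <;> ring

theorem shear_one : ∀ i j : Fin 4, j ≠ i →
    bd (fe i) (ff j) + bd (fe j) (ff j) + ff j (.inr i) = ff i (.inr i) := by decide +kernel

theorem shear_two : ∀ i j k : Fin 4, j ≠ k → i ≠ k → bd (fe i) (ff j) + ff j (.inr i) = ff k (.inr i) := by
  decide +kernel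

theorem frame_first : ∀ a : Fin 4 → ZMod 2, a ≠ 0 → ∃ j k l : Fin 4, indB a (bas j) (bas k) (bas l) := by
  decide +kernel

theorem line_split : ∀ c : Fin 6 → ZMod 2, c ≠ 0 → pf c = 0 → ∃ d, pf d = 1 ∧ pf (c + d) = 1 := by decide +kernel

theorem four_split : ∀ c : Fin 6 → ZMod 2, pf c = 1 → ∃ d, d ≠ 0 ∧ pf d = 0 ∧ c + d ≠ 0 ∧ pf (c + d) = 0 := by
  decide +kernel

theorem add_self6 (c : Fin 6 → ZMod 2) : c + c = 0 := funext fun i => CharTwo.add_self_eq_zero (c i)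

section

variable (X : Ctx z Q π ρ)

include X

theorem exists_move_inW {v w : V8} (hv : InW v) (hv0 : v ≠ 0) (hw : InW w) (hw0 : w ≠ 0) :
    ∃ c ∈ X.NC, (ρ c).1 v = w := by
  have key : ∀ u : V8, InW u → u ≠ 0 → ∃ c ∈ X.NC, (ρ c).1 (fe 0) = u := by
    intro u hu hu0
    obtain ⟨j, k, l, h⟩ := frame_first (fun i => u (.inl i)) (fun h => hu0 (by
      rw [← wv_of_inW hu, h]; funext x; rcases x with i | i <;> rfl))
    obtain ⟨c, hc, hcf⟩ := X.exists_nc ![wv (fun i => u (.inl i)), wv (bas j), wv (bas k), wv (bas l)]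
      (fun i => by fin_cases i <;> exact inW_wv _) (fun x hx => hind_wv h x hx)
    exact ⟨c, hc, by rw [hcf 0]; exact wv_of_inW hu⟩
  obtain ⟨a, ha, rfl⟩ := key v hv hv0
  obtain ⟨b, hb, rfl⟩ := key w hw hw0
  refine ⟨b * a⁻¹, mul_mem hb (inv_mem ha), ?_⟩
  rw [X.T.S.rho_mul _ hb.2 _ (inv_mem ha.2), X.T.S.rho_inv ha.2, qAut_mul_apply, qAut_apply_inv]

theorem u_move {u v : G} (hu : u ∈ X.U) (hv : v ∈ X.U) (hu0 : π u ≠ 0) (hv0 : π v ≠ 0) :
    ∃ c ∈ X.NC, c * u * c⁻¹ = v := by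
  obtain ⟨c, hc, e⟩ := exists_move_inW X hu.2 hu0 hv.2 hv0
  rw [← X.T.S.rho_pi c hc.2 u hu.1] at e
  rcases X.T.S.pi_eq (X.T.S.conj_mem hc.2 hu.1) hv.1 e with e' | e'
  · exact ⟨c, hc, e'.symm⟩
  · obtain ⟨y, hy⟩ : ∃ y, pb (π u) y = 1 := by
      by_contra hn
      push Not at hn
      exact hu0 (pb_nondeg fun y => (two_cases _).resolve_right (hn y))
    obtain ⟨q, hq, rfl⟩ := X.T.S.pi_surj y
    have hqu : q * u * q⁻¹ = z * u := by
      rw [X.T.S.comm hq hu.1, pb_comm, hy, zb_one]; group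
    refine ⟨c * q, mul_mem hc (X.q_le hq), ?_⟩
    rw [e', show c * q * u * (c * q)⁻¹ = c * (q * u * q⁻¹) * c⁻¹ by group, hqu,
      show c * (z * u) * c⁻¹ = c * z * c⁻¹ * (c * u * c⁻¹) by group,
      mem_centralizer_singleton_iff.1 hc.2, mul_inv_cancel_right]

theorem inW_of_fixed {x : V8} (h : ∀ a ∈ X.A, (ρ a).1 x = x) : InW x := by
  refine inW_of_perp fun i => ?_
  obtain ⟨j, hij⟩ := other_idx i
  obtain ⟨a, ha⟩ := exists_el X.T (inW_fe i) (fe_ne i) (inW_fe j)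
  have e := X.el_move ha x
  rw [h a ha.1, add_self8] at e
  have h' := congrFun e (.inl j)
  simpa [fe, Pi.single_apply, hij, Ne.symm hij] using h'.symm

/-- An invariant subgroup of the extraspecial group outside the centre contains the elementary group of order 32. -/
theorem u_le_of_inv {Y : Subgroup G} (hY : Y ≤ Q) (hn : ∀ c ∈ X.NC, ∀ y ∈ Y, c * y * c⁻¹ ∈ Y)
    (h : ∃ y ∈ Y, π y ≠ 0) : X.U ≤ Y := by
  obtain ⟨u, huY, huU, hu0⟩ : ∃ u ∈ Y, u ∈ X.U ∧ π u ≠ 0 := by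
    obtain ⟨y, hy, hy0⟩ := h
    by_cases hW : InW (π y)
    · exact ⟨y, hy, ⟨hY hy, hW⟩, hy0⟩
    · obtain ⟨a, ha, hne⟩ : ∃ a ∈ X.A, (ρ a).1 (π y) ≠ π y := by
        by_contra hc
        push Not at hc
        exact hW (inW_of_fixed X hc)
      have hk : a * y * a⁻¹ * y⁻¹ ∈ Y := mul_mem (hn a ⟨X.a_le_N ha, X.a_le ha⟩ y hy) (inv_mem hy)
      have e : π (a * y * a⁻¹ * y⁻¹) = (ρ a).1 (π y) + π y := by
        rw [X.T.S.pi_mul _ (X.T.S.conj_mem (X.a_le ha) (hY hy)) _ (inv_mem (hY hy)),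
          X.T.S.rho_pi a (X.a_le ha) y (hY hy), X.T.S.pi_inv (hY hy)]
      refine ⟨_, hk, ⟨hY hk, ?_⟩, ?_⟩
      · rw [e]; exact fixer_move (fun w hw => X.rho_a ha hw) _
      · rw [e]; intro h0; exact hne (by
          calc (ρ a).1 (π y) = (ρ a).1 (π y) + π y + π y := by rw [add_assoc, add_self8, add_zero]
            _ = π y := by rw [h0, zero_add])
  have hall : ∀ v ∈ X.U, π v ≠ 0 → v ∈ Y := fun v hv hv0 => by
    obtain ⟨c, hc, rfl⟩ := u_move X huU hv hu0 hv0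
    exact hn c hc u huY
  have hz : z ∈ Y := by
    have h1 := hall (z * u) (mul_mem X.zU huU) (by rw [X.T.S.pi_zmul huU.1]; exact hu0)
    simpa using mul_mem h1 (inv_mem huY)
  intro v hv
  by_cases hv0 : π v = 0
  · rcases (X.T.S.pi_ker v hv.1).1 hv0 with rfl | rfl
    exacts [one_mem _, hz]
  · exact hall v hv hv0

/-- No invariant subgroup strictly between the groups of order 32 and 2048. -/
theorem a_le_of_inv {B : Subgroup G} (hU : X.U ≤ B) (hB : B ≤ X.A) (hn : ∀ c ∈ X.NC, ∀ b ∈ B, c * b * c⁻¹ ∈ B)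
    (h : ∃ b ∈ B, b ∉ X.U) : X.A ≤ B := by
  let S : Set (Fin 6 → ZMod 2) := {c | ∃ b ∈ B, coord (ρ b) = c}
  have hsum : ∀ c d, c ∈ S → d ∈ S → c + d ∈ S := by
    rintro _ _ ⟨a, ha, rfl⟩ ⟨b, hb, rfl⟩
    exact ⟨a * b, mul_mem ha hb, X.cd_mul (hB ha) (hB hb)⟩
  have hmove : ∀ m ∈ X.NC, ∀ u ∈ X.A, coord (ρ u) ∈ S → coord (ρ (m * u * m⁻¹)) ∈ S := by
    rintro m hm u hu ⟨b, hb, e⟩
    exact ⟨_, hn m hm b hb, X.coord_conj hm (hB hb) hu e⟩
  obtain ⟨b₀, hb₀⟩ := exists_el X.T (inW_fe 0) (fe_ne 0) (inW_fe 1)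
  obtain ⟨b₁, hb₁⟩ := exists_el X.T (inW_fe 2) (fe_ne 2) (inW_fe 3)
  have hc1 : coord (ρ (b₀ * b₁)) = wdg (bas 0) (bas 1) + wdg (bas 2) (bas 3) := by
    rw [X.cd_mul hb₀.1 hb₁.1, coord_of_el X.T.S (a := bas 0) (b := bas 1) (by rw [wv_bas, wv_bas]; exact hb₀),
      coord_of_el X.T.S (a := bas 2) (b := bas 3) (by rw [wv_bas, wv_bas]; exact hb₁)]
  have hfour : ∀ c d, pf c = 1 → pf d = 1 → c ∈ S → d ∈ S := by
    intro c d hc hd hcS
    obtain ⟨m, hm, e⟩ := X.four_move hc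
    obtain ⟨k, hk, e'⟩ := X.four_move hd
    have hA : b₀ * b₁ ∈ X.A := mul_mem hb₀.1 hb₁.1
    have h1 := hmove m⁻¹ (inv_mem hm) _ (X.conj_A hm.1 hA) (by rw [e _ hA hc1]; exact hcS)
    rw [show m⁻¹ * (m * (b₀ * b₁) * m⁻¹) * m⁻¹⁻¹ = b₀ * b₁ by group] at h1
    have h2 := hmove k hk _ hA h1
    rwa [e' _ hA hc1] at h2
  have hline : ∀ c d, c ≠ 0 → pf c = 0 → d ≠ 0 → pf d = 0 → c ∈ S → d ∈ S := by
    intro c d hc0 hc hd0 hd hcS
    obtain ⟨m, hm, e⟩ := X.line_move hc0 hc hb₀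
    obtain ⟨k, hk, e'⟩ := X.line_move hd0 hd hb₀
    have h1 := hmove m⁻¹ (inv_mem hm) _ (X.conj_A hm.1 hb₀.1) (by rw [e]; exact hcS)
    rw [show m⁻¹ * (m * b₀ * m⁻¹) * m⁻¹⁻¹ = b₀ by group] at h1
    have h2 := hmove k hk _ hb₀.1 h1
    rwa [e'] at h2
  obtain ⟨b, hb, hbU⟩ := h
  have hb0 : coord (ρ b) ≠ 0 := fun h0 => hbU (by
    have := (X.cd_eq_iff (one_mem _) (hB hb)).1 (by rw [h0, X.cd_U (one_mem _)])
    rwa [inv_one, one_mul] at this)
  have hbS : coord (ρ b) ∈ S := ⟨b, hb, rfl⟩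
  have zero_S : (0 : Fin 6 → ZMod 2) ∈ S := ⟨1, one_mem _, X.cd_U (one_mem _)⟩
  have all : ∀ c, c ∈ S := by
    have l1 : ∀ c, pf c = 1 → c ∈ S := by
      rcases two_cases (pf (coord (ρ b))) with hp | hp
      · intro c hc
        obtain ⟨d, hd0, hd, hcd0, hcd⟩ := four_split c hc
        have := hsum _ _ (hline _ _ hb0 hp hcd0 hcd hbS) (hline _ _ hb0 hp hd0 hd hbS)
        rwa [add_assoc, add_self6, add_zero] at this
      · exact fun c hc => hfour _ _ hp hc hbS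
    intro c
    by_cases hc0 : c = 0
    · exact hc0 ▸ zero_S
    rcases two_cases (pf c) with hc | hc
    · obtain ⟨d, hd, hcd⟩ := line_split c hc0 hc
      have := hsum _ _ (l1 _ hcd) (l1 _ hd)
      rwa [add_assoc, add_self6, add_zero] at this
    · exact l1 c hc
  intro a ha
  obtain ⟨b', hb', e⟩ := all (coord (ρ a))
  have h1 := hU ((X.cd_eq_iff (hB hb') ha).1 e)
  simpa using mul_mem hb' h1

/-- No character. -/
theorem nc_no_char (f : X.NC →* Multiplicative (ZMod 2)) (c : X.NC) : f c = 1 := by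
  set K := f.ker.map X.NC.subtype with hK
  have mK : ∀ x : X.NC, (x : G) ∈ K ↔ f x = 1 := fun x => by
    rw [hK, mem_map]
    exact ⟨fun ⟨y, hy, e⟩ => by rw [← Subtype.ext e]; exact hy, fun h => ⟨x, h, rfl⟩⟩
  have hn : ∀ c ∈ X.NC, ∀ y ∈ K, c * y * c⁻¹ ∈ K := by
    rintro c hc _ ⟨y, hy, rfl⟩
    refine (mK (⟨c, hc⟩ * y * ⟨c, hc⟩⁻¹)).2 ?_
    rw [map_mul, map_mul, MonoidHom.mem_ker.1 hy, mul_one, map_inv, mul_inv_cancel]
  have three : ∀ x y : X.NC, (x : G) ∈ K ∨ (y : G) ∈ K ∨ ((x * y : X.NC) : G) ∈ K := fun x y => by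
    simp only [mK, map_mul]
    exact (by decide : ∀ a b : Multiplicative (ZMod 2), a = 1 ∨ b = 1 ∨ a * b = 1) _ _
  -- the group of order 32
  have hUK : X.U ≤ K := by
    refine (u_le_of_inv X (Y := K ⊓ Q) inf_le_right (fun c hc y hy => ⟨hn c hc y hy.1, X.T.S.conj_mem hc.2 hy.2⟩) ?_).trans
      inf_le_left
    obtain ⟨p, hp, ep⟩ := X.T.S.pi_surj (ff 0)
    obtain ⟨q, hq, eq⟩ := X.T.S.pi_surj (ff 1)
    rcases three ⟨p, X.q_le hp⟩ ⟨q, X.q_le hq⟩ with h | h | h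
    · exact ⟨p, ⟨h, hp⟩, by rw [ep]; decide⟩
    · exact ⟨q, ⟨h, hq⟩, by rw [eq]; decide⟩
    · exact ⟨p * q, ⟨h, mul_mem hp hq⟩, by rw [X.T.S.pi_mul p hp q hq, ep, eq]; decide⟩
  -- the group of order 2048
  have hAK : X.A ≤ K := by
    refine (a_le_of_inv X (B := K ⊓ X.A) (le_inf hUK X.u_le) inf_le_right
      (fun c hc y hy => ⟨hn c hc y hy.1, X.conj_A hc.1 hy.2⟩) ?_).trans inf_le_left
    obtain ⟨a, ha⟩ := exists_el X.T (inW_fe 0) (fe_ne 0) (inW_fe 1)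
    obtain ⟨b, hb⟩ := exists_el X.T (inW_fe 0) (fe_ne 0) (inW_fe 2)
    have ca := coord_of_el X.T.S (a := bas 0) (b := bas 1) (by rw [wv_bas, wv_bas]; exact ha)
    have cb := coord_of_el X.T.S (a := bas 0) (b := bas 2) (by rw [wv_bas, wv_bas]; exact hb)
    rcases three ⟨a, X.a_le_N ha.1, X.a_le ha.1⟩ ⟨b, X.a_le_N hb.1, X.a_le hb.1⟩ with h | h | h
    · refine ⟨a, ⟨h, ha.1⟩, fun hu => ?_⟩
      rw [X.cd_U hu] at ca
      exact absurd ca (by decide)
    · refine ⟨b, ⟨h, hb.1⟩, fun hu => ?_⟩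
      rw [X.cd_U hu] at cb
      exact absurd cb (by decide)
    · refine ⟨a * b, ⟨h, mul_mem ha.1 hb.1⟩, fun hu => ?_⟩
      have e := X.cd_mul ha.1 hb.1
      rw [X.cd_U hu, ca, cb] at e
      exact absurd e (by decide)
  -- the extraspecial group
  have hbase : ∀ k : Fin 4, ∃ q ∈ Q, q ∈ K ∧ ∀ i, π q (.inr i) = ff k (.inr i) := by
    intro k
    obtain ⟨j, hjk⟩ := other_idx k
    let a : Fin 4 → V8 := fun i => if i = k then fe k + fe j else fe i
    obtain ⟨c, hc, hca⟩ := X.exists_nc a (fun i => by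
      dsimp only [a]; split_ifs
      exacts [inW_add (inW_fe _) (inW_fe _), inW_fe _]) (by
      revert hjk; revert j k; decide +kernel)
    obtain ⟨q, hq, eq⟩ := X.T.S.pi_surj (ff j)
    have hcm : c⁻¹ * q * c⁻¹⁻¹ * q⁻¹ ∈ K := (mK (⟨c, hc⟩⁻¹ * ⟨q, X.q_le hq⟩ * ⟨c, hc⟩⁻¹⁻¹ * ⟨q, X.q_le hq⟩⁻¹)).2 (by
      simp only [map_mul, map_inv]
      exact (by decide : ∀ x y : Multiplicative (ZMod 2), x⁻¹ * y * x⁻¹⁻¹ * y⁻¹ = 1) _ _)
    refine ⟨_, mul_mem (X.T.S.conj_mem (inv_mem hc.2) hq) (inv_mem hq), hcm, fun i => ?_⟩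
    rw [X.T.S.pi_mul _ (X.T.S.conj_mem (inv_mem hc.2) hq) _ (inv_mem hq), X.T.S.pi_inv hq,
      X.T.S.rho_pi _ (inv_mem hc.2) q hq, X.T.S.rho_inv hc.2, eq]
    have h := pb_map (ρ c) (fe i) (((ρ c)⁻¹).1 (ff j))
    rw [qAut_inv_apply, hca, pb_fe] at h
    rw [Pi.add_apply, ← h]
    show pb (a i) (ff j) + _ = _
    dsimp only [a]
    split_ifs with hik
    · subst hik; rw [pb_add_left]; simp [pb_bd]; exact shear_one _ _ hjk
    · simp [pb_bd]; exact shear_two _ _ _ hjk hik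
  have hQK : Q ≤ K := by
    choose q hq hqK hqi using hbase
    intro x hx
    let pick : Fin 4 → G := fun i => if π x (.inr i) = 0 then 1 else q i
    have hp : ∀ i, pick i ∈ Q ∧ pick i ∈ K ∧ ∀ j, π (pick i) (.inr j) = π x (.inr i) * ff i (.inr j) := fun i => by
      dsimp only [pick]
      rcases two_cases (π x (.inr i)) with h | h <;> rw [h]
      · rw [if_pos rfl]; exact ⟨one_mem _, one_mem _, fun j => by rw [X.T.S.pi_one]; simp⟩
      · rw [if_neg one_ne_zero]; exact ⟨hq i, hqK i, fun j => by rw [hqi i j, one_mul]⟩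
    let y := pick 0 * pick 1 * pick 2 * pick 3
    have hyQ : y ∈ Q := mul_mem (mul_mem (mul_mem (hp 0).1 (hp 1).1) (hp 2).1) (hp 3).1
    have hyK : y ∈ K := mul_mem (mul_mem (mul_mem (hp 0).2.1 (hp 1).2.1) (hp 2).2.1) (hp 3).2.1
    have hU : y⁻¹ * x ∈ X.U := by
      refine ⟨mul_mem (inv_mem hyQ) hx, fun i => ?_⟩
      rw [X.T.S.pi_mul _ (inv_mem hyQ) x hx, X.T.S.pi_inv hyQ,
        X.T.S.pi_mul _ (mul_mem (mul_mem (hp 0).1 (hp 1).1) (hp 2).1) _ (hp 3).1,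
        X.T.S.pi_mul _ (mul_mem (hp 0).1 (hp 1).1) _ (hp 2).1, X.T.S.pi_mul _ (hp 0).1 _ (hp 1).1]
      simp only [Pi.add_apply, (hp _).2.2]
      fin_cases i <;> simp [ff, Pi.single_apply, CharTwo.add_self_eq_zero]
    simpa using mul_mem hyK (hUK hU)
  -- the quotient
  have hker : X.res.ker ≤ f.ker := fun c hc => by
    obtain ⟨a, ha, q, hq, e⟩ := X.res_ker.1 hc
    rw [MonoidHom.mem_ker, ← mK, e]
    exact mul_mem (hAK ha) (hQK hq)
  let g := X.res.liftOfSurjective X.res_surj ⟨f, hker⟩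
  have hg : g (X.res c) = f c := MonoidHom.liftOfRightInverse_comp_apply _ _ _ _ c
  rw [← hg]
  have h1 : X.res c ∈ commutator (GL (Fin 4) (ZMod 2)) := by
    rw [commutator_GL_eq (by simp), MonoidHom.mem_ker]
    exact Units.ext ((by decide : ∀ x : ZMod 2, x ≠ 0 → x = 1) _ (Units.ne_zero _))
  exact Abelianization.commutator_subset_ker g h1

theorem coord_hom {x y : G} (hx : x ∈ X.NC) (hy : y ∈ X.NC) (hx' : X.res ⟨x, hx⟩ = 1) (hy' : X.res ⟨y, hy⟩ = 1) :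
    coord (ρ (x * y)) = coord (ρ x) + coord (ρ y) := by
  rw [X.T.S.rho_mul x hx.2 y hy.2, coord_mul (X.res_one.1 hx') (X.res_one.1 hy')]

/-- A normal subgroup of the order of the extraspecial group is that group. -/
theorem eq_q {Q' : Subgroup G} (hle : Q' ≤ X.NC) (hcard : Nat.card Q' = 512)
    (hn : ∀ c ∈ X.NC, ∀ y ∈ Q', c * y * c⁻¹ ∈ Q') : Q' = Q := by
  haveI : Fact (Nat.Prime 2) := ⟨Nat.prime_two⟩
  -- it acts trivially on the standard subspace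
  have htriv : ∀ y (hy : y ∈ Q'), X.res ⟨y, hle hy⟩ = 1 := by
    let W := {v : V8 // InW v}
    letI : MulAction Q' W :=
      { smul := fun y v => ⟨(ρ (y : G)).1 v.1, (X.mem_NC.1 (hle y.2)).2 _ v.2⟩
        one_smul := fun v => Subtype.ext (by
          show (ρ ((1 : Q') : G)).1 v.1 = v.1
          rw [OneMemClass.coe_one, X.T.S.rho_one]; rfl)
        mul_smul := fun a b v => Subtype.ext (by
          show (ρ ((a * b : Q') : G)).1 v.1 = (ρ (a : G)).1 ((ρ (b : G)).1 v.1)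
          rw [coe_mul, X.T.S.rho_mul _ (hle a.2).2 _ (hle b.2).2, qAut_mul_apply]) }
    have hp : IsPGroup 2 Q' := IsPGroup.of_card (n := 9) (by rw [hcard]; norm_num)
    obtain ⟨v, hv, hv0⟩ : ∃ v : W, v ∈ MulAction.fixedPoints Q' W ∧ v.1 ≠ 0 := by
      have h16 : Nat.card W = 16 := by
        rw [Nat.card_congr (⟨fun v i => v.1 (.inl i), fun a => ⟨wv a, inW_wv a⟩,
          fun v => Subtype.ext (wv_of_inW v.2), fun a => rfl⟩ : W ≃ (Fin 4 → ZMod 2))]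
        simp
      have hz : (⟨0, fun _ => rfl⟩ : W) ∈ MulAction.fixedPoints Q' W := fun y => Subtype.ext (map_zero _)
      have h := hp.card_modEq_card_fixedPoints W
      rw [h16] at h
      have h2 : 1 < Nat.card (MulAction.fixedPoints Q' W) := by
        have h0 : 0 < Nat.card (MulAction.fixedPoints Q' W) := Nat.card_pos_iff.2 ⟨⟨⟨_, hz⟩⟩, inferInstance⟩
        unfold Nat.ModEq at h
        omega
      haveI := Finite.one_lt_card_iff_nontrivial.1 h2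
      obtain ⟨⟨v, hv⟩, hne⟩ := exists_ne (⟨_, hz⟩ : MulAction.fixedPoints Q' W)
      exact ⟨v, hv, fun h => hne (Subtype.ext (Subtype.ext h))⟩
    intro y hy
    refine X.res_one.2 fun w hw => ?_
    by_cases hw0 : w = 0
    · rw [hw0, map_zero]
    obtain ⟨c, hc, e⟩ := exists_move_inW X v.2 hv0 hw hw0
    have h1 : (ρ (c⁻¹ * y * c⁻¹⁻¹)).1 v.1 = v.1 := congrArg Subtype.val (hv ⟨_, hn _ (inv_mem hc) y hy⟩)
    rw [inv_inv, X.T.S.rho_mul _ (mul_mem (inv_mem hc.2) (hle hy).2) _ hc.2,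
      X.T.S.rho_mul _ (inv_mem hc.2) _ (hle hy).2, X.T.S.rho_inv hc.2, qAut_mul_apply, qAut_mul_apply, e] at h1
    have h2 := congrArg (ρ c).1 h1
    rwa [qAut_inv_apply, e] at h2
  -- its image in the quotient of order 64
  let B : Subgroup G :=
    { carrier := {a | a ∈ X.A ∧ ∃ y ∈ Q', coord (ρ y) = coord (ρ a)}
      one_mem' := ⟨one_mem _, 1, one_mem _, rfl⟩
      mul_mem' := by
        rintro a b ⟨ha, y, hy, e⟩ ⟨hb, x, hx, e'⟩
        exact ⟨mul_mem ha hb, y * x, mul_mem hy hx, by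
          rw [coord_hom X (hle hy) (hle hx) (htriv y hy) (htriv x hx), X.cd_mul ha hb, e, e']⟩
      inv_mem' := fun {a} h => by
        show a⁻¹ ∈ {a | a ∈ X.A ∧ ∃ y ∈ Q', coord (ρ y) = coord (ρ a)}
        rw [inv_eq_of_mul_eq_one_right (X.a_sq h.1)]; exact h }
  have hlift : ∀ y ∈ Q', ∃ a ∈ X.A, ∃ q ∈ Q, y = a * q := fun y hy => X.res_ker.1 (htriv y hy)
  by_cases hB : ∃ b ∈ B, b ∉ X.U
  · exfalso
    have hUB : X.U ≤ B := fun u hu => ⟨X.u_le hu, 1, one_mem _, by rw [X.cd_U hu, X.cd_U (one_mem _)]⟩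
    have hAB := a_le_of_inv X hUB (fun a ha => ha.1) (fun c hc a ha => by
      obtain ⟨haA, y, hy, e⟩ := ha
      refine ⟨X.conj_A hc.1 haA, _, hn c hc y hy, ?_⟩
      obtain ⟨a', ha', q, hq, rfl⟩ := hlift y hy
      have e1 : coord (ρ (a' * q)) = coord (ρ a') := by
        rw [X.T.S.rho_mul _ (X.a_le ha') _ (X.T.S.le hq), X.T.S.rho_Q hq, mul_one]
      have e2 : coord (ρ (c * (a' * q) * c⁻¹)) = coord (ρ (c * a' * c⁻¹)) := by
        rw [show c * (a' * q) * c⁻¹ = (c * a' * c⁻¹) * (c * q * c⁻¹) by group,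
          X.T.S.rho_mul _ (X.a_le (X.conj_A hc.1 ha')) _ (X.T.S.le (X.T.S.conj_mem hc.2 hq)),
          X.T.S.rho_Q (X.T.S.conj_mem hc.2 hq), mul_one]
      rw [e2, X.coord_conj hc ha' haA (e1.symm.trans e)]) hB
    let φ : Q' →* Multiplicative (Fin 6 → ZMod 2) := MonoidHom.mk' (fun y => Multiplicative.ofAdd (coord (ρ (y : G))))
      fun x y => by rw [coe_mul, coord_hom X (hle x.2) (hle y.2) (htriv x x.2) (htriv y y.2), ofAdd_add]
    have hsurj : Function.Surjective φ := fun c => by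
      obtain ⟨a, ha⟩ := coord_surj X.T c
      obtain ⟨-, y, hy, e⟩ := hAB a.2
      exact ⟨⟨y, hy⟩, (congrArg Multiplicative.ofAdd e).trans ha⟩
    have hk := card_mul_index φ.ker
    rw [index_ker, MonoidHom.range_eq_top.2 hsurj, card_top, hcard,
      Nat.card_congr Multiplicative.toAdd, Nat.card_fun, Nat.card_zmod, Nat.card_fin] at hk
    have hkQ : ∀ y : Q', y ∈ φ.ker ↔ (y : G) ∈ Q := fun y => by
      obtain ⟨a, ha, q, hq, e⟩ := hlift y y.2
      have e1 : coord (ρ (y : G)) = coord (ρ a) := by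
        rw [e, X.T.S.rho_mul _ (X.a_le ha) _ (X.T.S.le hq), X.T.S.rho_Q hq, mul_one]
      rw [MonoidHom.mem_ker]
      show Multiplicative.ofAdd (coord (ρ (y : G))) = 1 ↔ _
      rw [ofAdd_eq_one, e1]
      constructor
      · intro h
        have h2 := (X.cd_eq_iff (one_mem _) ha).1 (by rw [h, X.cd_U (one_mem _)])
        rw [inv_one, one_mul] at h2
        rw [e]; exact mul_mem h2.1 hq
      · intro h
        rw [e] at h
        have h2 : a ∈ Q := by simpa using mul_mem h (inv_mem hq)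
        exact X.cd_U ⟨h2, (baseA_inf X.T.S h2).1 ha⟩
    have e8 : Nat.card ↥(Q' ⊓ Q) = 8 := by
      have : Nat.card ↥(Q' ⊓ Q) = Nat.card φ.ker := Nat.card_congr
        ⟨fun x => ⟨⟨x.1, x.2.1⟩, (hkQ _).2 x.2.2⟩, fun x => ⟨x.1.1, x.1.2, (hkQ _).1 x.2⟩, fun _ => rfl, fun _ => rfl⟩
      omega
    have hUle : X.U ≤ Q' ⊓ Q := by
      refine u_le_of_inv X inf_le_right (fun c hc y hy => ⟨hn c hc y hy.1, X.T.S.conj_mem hc.2 hy.2⟩) ?_
      by_contra hcon
      push Not at hcon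
      have hsub : ((Q' ⊓ Q : Subgroup G) : Set G) ⊆ {1, z} := fun y hy => by
        rcases (X.T.S.pi_ker y hy.2).1 (hcon y hy) with rfl | rfl <;> simp
      have := Set.ncard_le_ncard hsub
      rw [← Nat.card_coe_set_eq, show Nat.card ↥((Q' ⊓ Q : Subgroup G) : Set G) = 8 from e8,
        Set.ncard_pair X.T.S.z1.symm] at this
      omega
    have := card_dvd_of_le hUle
    rw [show Nat.card X.U = 32 from card_baseU X.T, e8] at this
    omega
  · push Not at hB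
    refine eq_of_le_of_card_ge (fun y hy => ?_) (by rw [hcard, X.T.S.card])
    obtain ⟨a, ha, q, hq, e⟩ := hlift y hy
    have h : coord (ρ y) = coord (ρ a) := by
      rw [e, X.T.S.rho_mul _ (X.a_le ha) _ (X.T.S.le hq), X.T.S.rho_Q hq, mul_one]
    rw [e]
    exact mul_mem (hB a ⟨ha, y, hy, h⟩).1 hq

end

end CfsgLib.CoOneRec
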