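import Cfsg.Agent.Lib.CoOneRec.CertSys

/-!
# The chains of the certificate
-/

set_option autoImplicit false
set_option maxRecDepth 100000

namespace CfsgLib.CoOneRec

theorem stab_ok1 : chainB (certDat.factCode 1) [] certStab1 = true := by decide +kernel

theorem stab_ok2 : chainB (certDat.factCode 2) [] certStab2 = true := by decide +kernel

theorem stab_ok3 : chainB (certDat.factCode 3) [] certStab3 = true := by decide +kernel

theorem stab_ok4 : chainB (certDat.factCode 4) [] certStab4 = true := by decide +kernel

theorem stab_ok5 : chainB (certDat.factCode 5) [] certStab5 = true := by decide +kernel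

theorem stab_ok6 : chainB (certDat.factCode 6) [] certStab6 = true := by decide +kernel

theorem stab_ok7 : chainB (certDat.factCode 7) [] certStab7 = true := by decide +kernel

theorem stab_ok8 : chainB (certDat.factCode 8) [] certStab8 = true := by decide +kernel

theorem stab_ok9 : chainB (certDat.factCode 9) [] certStab9 = true := by decide +kernel

theorem stab_ok10 : chainB (certDat.factCode 10) [] certStab10 = true := by decide +kernel

theorem top_ok : chainB certDat.nodeCode [] certTop = true := by decide +kernel

theorem sizes_ok : chainSize certTop = 89181388800 ∧
    ([certStab1, certStab2, certStab3, certStab4, certStab5, certStab6, certStab7, certStab8, certStab9, certStab10].map fun L => 89181388800 / chainSize L).sum = 46621574 ∧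
    ([certStab1, certStab2, certStab3, certStab4, certStab5, certStab6, certStab7, certStab8, certStab9, certStab10].all fun L => Nat.blt 0 (chainSize L)) = true ∧ certBase.length = 11 ∧ certReps.getD 0 0 = 0 ∧ certReps.length = 270 := by decide +kernel

end CfsgLib.CoOneRec
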