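import Cfsg.Agent.Lib.CoOneRec.CertSys

/-!
# The identities at the representatives
-/

set_option autoImplicit false
set_option maxRecDepth 100000

namespace CfsgLib.CoOneRec

theorem cover_ok0 : certDat.coverB certReps certCover0 0 = true := by decide +kernel

theorem cover_ok1 : certDat.coverB certReps certCover1 1 = true := by decide +kernel

theorem cover_ok2 : certDat.coverB certReps certCover2 2 = true := by decide +kernel

theorem cover_ok3 : certDat.coverB certReps certCover3 3 = true := by decide +kernel

theorem cover_ok4 : certDat.coverB certReps certCover4 4 = true := by decide +kernel

theorem cover_ok5 : certDat.coverB certReps certCover5 5 = true := by decide +kernel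

theorem cover_ok6 : certDat.coverB certReps certCover6 6 = true := by decide +kernel

theorem cover_ok7 : certDat.coverB certReps certCover7 7 = true := by decide +kernel

theorem cover_ok8 : certDat.coverB certReps certCover8 8 = true := by decide +kernel

theorem cover_ok9 : certDat.coverB certReps certCover9 9 = true := by decide +kernel

theorem cover_ok10 : certDat.coverB certReps certCover10 10 = true := by decide +kernel

theorem moves_ok0 : certDat.movesB certReps certMoves0 1 = true := by decide +kernel

theorem moves_ok1 : certDat.movesB certReps certMoves1 2 = true := by decide +kernel

theorem moves_ok2 : certDat.movesB certReps certMoves2 3 = true := by decide +kernel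

theorem moves_ok3 : certDat.movesB certReps certMoves3 4 = true := by decide +kernel

end CfsgLib.CoOneRec
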