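import Cfsg.Agent.Lib.CoOneRec.CertSys

/-!
# The events of the certificate
-/

set_option autoImplicit false
set_option maxRecDepth 100000

namespace CfsgLib.CoOneRec

theorem events_ok0 : rangeB certDat.evOkB 0 900 = true := by decide +kernel

theorem events_ok1 : rangeB certDat.evOkB 900 900 = true := by decide +kernel

theorem events_ok2 : rangeB certDat.evOkB 1800 900 = true := by decide +kernel

theorem events_ok3 : rangeB certDat.evOkB 2700 1044 = true := by decide +kernel

end CfsgLib.CoOneRec
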