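import Cfsg.Agent.Lib.CoOneRec.CertSys

/-!
# The elements and pairs of the certificate
-/

set_option autoImplicit false
set_option maxRecDepth 100000

namespace CfsgLib.CoOneRec

theorem nodes_ok0 : rangeB certDat.cOkB 0 1800 = true := by decide +kernel

theorem nodes_ok1 : rangeB certDat.cOkB 1800 1600 = true := by decide +kernel

theorem nodes_ok2 : rangeB certDat.cOkB 3400 1530 = true := by decide +kernel

theorem pairs_ok : rangeB certDat.pOkB 0 378 = true := by decide +kernel

end CfsgLib.CoOneRec
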