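import Cfsg.Agent.Lib.CoOneRec.Gens
import Cfsg.Agent.Lib.CoOneRec.CertCheckCover
import Cfsg.Agent.Lib.CoOneRec.CertCheckEvents

/-!
# The relators hold in the product with any group carrying the amalgam
-/

set_option autoImplicit false
set_option maxRecDepth 100000

namespace CfsgLib.CoOneRec

open Subgroup Cfsg CfsgLib.Golay CfsgLib.Leech CfsgLib.Leech.CoTwo CfsgLib.Leech.CoOne

/-- The model of the centraliser. -/
noncomputable def cmModel : Model Cm where
  code x := codeQ x
  inj := fun _ _ h => Subtype.ext (codeQ_inj h)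
  code_mul x y := codeQ_mul x y
  code_one := codeQ_one
  code_vec x y _ hv := codeQ_vec x y hv
  g i := ⟨gOne i, gOne_mem i⟩
  gen := by
    have h := closure_closure_coe_preimage (k := Set.range gOne)
    refine top_le_iff.1 ?_
    intro x _
    have hx : (x : Spor.Co1) ∈ closure (Set.range gOne) := by rw [closure_gOne]; exact x.2
    have key : ∀ y (hy : y ∈ closure (Set.range gOne)), ∀ hy' : y ∈ Cm,
        (⟨y, hy'⟩ : Cm) ∈ closure (Set.range fun i => (⟨gOne i, gOne_mem i⟩ : Cm)) := by
      have : closure (Set.range gOne) =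
          (closure (Set.range fun i => (⟨gOne i, gOne_mem i⟩ : Cm))).map Cm.subtype := by
        rw [MonoidHom.map_closure, ← Set.range_comp]
        rfl
      intro y hy hy'
      rw [this] at hy
      obtain ⟨w, hw, e⟩ := hy
      rwa [show (⟨y, hy'⟩ : Cm) = w from Subtype.ext e.symm]
    exact key x hx x.2

theorem cmModel_code (x : Cm) : cmModel.code x = codeQ x := rfl

theorem nOne_inv : nOne⁻¹ = nOne := inv_eq_of_mul_eq_one_right nOne_sq

/-- The list consists of elements built from the monomial generators. -/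
noncomputable def monoB : Bool :=
  certMono.all fun i => Nat.blt i certNC && (Nat.beq i 0 || Nat.beq i 1 || Nat.beq i 2 || Nat.beq i 4 ||
    (Nat.blt 4 i && certMono.contains (certCD.get i / 32768) && certMono.contains (certCD.get i % 32768) &&
      Nat.blt (certCD.get i / 32768) i && Nat.blt (certCD.get i % 32768) i))

theorem rels_ok : monoB = true ∧
    ((certRels.take (certLoops + 1)).all fun r => r.all fun a => certMono.contains a) = true ∧
    certRels.drop (certLoops + 1) = certPairRels.map (fun p => [p.2.1, p.2.2.2]) ∧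
    (certPairRels.all fun p => Nat.blt p.1 certNP && Nat.blt p.2.1 certNC && Nat.blt p.2.2.1 certNC &&
      Nat.blt p.2.2.2 certNC &&
      Nat.beq (certX.get p.1) (certC.get p.2.1) && Nat.beq (certY.get p.1) (certC.get p.2.2.1) &&
      Nat.beq (pmul (certY.get p.1) (certC.get p.2.2.2)) oneP &&
      Nat.beq (pmul (pmul codeN (certX.get p.1)) codeN) (certY.get p.1)) = true ∧
    certPairRels.map (fun p => p.1) = [1, 2, 3] ∧ certX.get 0 = oneP ∧ certY.get 0 = oneP ∧
    (certRels.all fun r => r.all fun a => Nat.blt a certNC) = true ∧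
    (certRels.all fun r => Nat.beq (r.foldl (fun v a => pmul (pmul v codeN) (certC.get a)) oneP) oneP) = true := by
  decide +kernel

theorem node_Cm {i : ℕ} (hi : i < certDat.nC) : ∃ x ∈ Cm, codeQ x = certDat.cT.get i :=
  node_mem Cm codes_ok.2.2.2.2.2.2.2.2.2.2.1 (fun i hi => ⟨_, gOne_mem ⟨i, hi⟩, codeQ_gOne ⟨i, hi⟩⟩) cert_cOk hi

theorem el_code {i : ℕ} (hi : i < certDat.nC) :
    codeQ ((cmModel.el (certDat.cT.get i) : Cm) : Spor.Co1) = certDat.cT.get i := by
  obtain ⟨x, hx, e⟩ := node_Cm hi
  have h := cmModel.el_code ⟨x, hx⟩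
  rw [cmModel_code] at h
  rw [← e, h]

theorem el_mono : ∀ {i : ℕ}, i ∈ certMono → ((cmModel.el (certDat.cT.get i) : Cm) : Spor.Co1) ∈ Nm := by
  intro i
  induction i using Nat.strong_induction_on with
  | _ i ih =>
    intro hi
    have h := rels_ok.1
    simp only [monoB, List.all_eq_true, Bool.and_eq_true, Bool.or_eq_true, Nat.blt_eq, Nat.beq_eq,
      List.contains_iff_mem] at h
    obtain ⟨hlt, hc⟩ := h i hi
    have hg : ∀ k : Fin 4, k ≠ 2 → i = k.val + 1 → ((cmModel.el (certDat.cT.get i) : Cm) : Spor.Co1) ∈ Nm := by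
      intro k hk e
      have e' : ((cmModel.el (certDat.cT.get i) : Cm) : Spor.Co1) = gOne k :=
        codeQ_inj (by rw [el_code hlt, codeQ_gOne, e])
      rw [e', ← closure_monoGens]
      refine subset_closure ?_
      fin_cases k <;> simp_all [monoGens]
    rcases hc with ((((h0 | h1) | h2) | h4) | ⟨⟨⟨⟨h5, ha⟩, hb⟩, ha'⟩, hb'⟩)
    · have e' : ((cmModel.el (certDat.cT.get i) : Cm) : Spor.Co1) = 1 :=
        codeQ_inj (by rw [el_code hlt, codeQ_one, h0]; exact codes_ok.2.2.2.2.2.2.2.2.2.2.1)
      rw [e']; exact one_mem _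
    · exact hg 0 (by decide) h1
    · exact hg 1 (by decide) h2
    · exact hg 3 (by decide) h4
    · have hok := cert_cOk i hlt
      simp only [Dat.cOkB, Bool.or_eq_true, Bool.and_eq_true, Nat.blt_eq, Nat.beq_eq] at hok
      rcases hok with hok | ⟨-, he⟩
      · omega
      · have e' : ((cmModel.el (certDat.cT.get i) : Cm) : Spor.Co1) =
            (cmModel.el (certDat.cT.get (certCD.get i / 32768)) : Cm) *
              (cmModel.el (certDat.cT.get (certCD.get i % 32768)) : Cm) :=
          codeQ_inj (by rw [codeQ_mul, el_code hlt, el_code (h _ ha).1, el_code (h _ hb).1, he]; rfl)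
        rw [e']
        exact mul_mem (ih _ ha' ha) (ih _ hb' hb)

theorem cert_pOk : ∀ i < certDat.nP, certDat.pOkB i = true := fun i hi =>
  rangeB_get pairs_ok (by omega) (by simpa [certDat, certNP] using hi)

theorem cert_evOk : ∀ i < certDat.nE, certDat.evOkB i = true := by
  intro i hi
  have hn : certDat.nE = 3744 := rfl
  rcases lt_or_ge i 900 with h | h
  · exact rangeB_get events_ok0 (by omega) (by omega)
  rcases lt_or_ge i 1800 with h' | h'
  · exact rangeB_get events_ok1 h (by omega)
  rcases lt_or_ge i 2700 with h'' | h''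
  · exact rangeB_get events_ok2 h' (by omega)
  · exact rangeB_get events_ok3 h'' (by omega)

theorem conj_ok : (List.range 32).any (fun b => Nat.beq (monoCode idL (dc b)) (pmul (pmul codeN codeZ) codeN) &&
    inCode (dc b)) = true ∧ (pmul (pmul codeN codeZ) codeN == codeZ) = false := by decide +kernel

theorem nOne_edge : nOne * zOne * nOne⁻¹ ∈ Qm ∧ nOne * zOne * nOne⁻¹ ≠ zOne := by
  obtain ⟨h1, h2⟩ := conj_ok
  simp only [List.any_eq_true, List.mem_range, Bool.and_eq_true, Nat.beq_eq] at h1
  obtain ⟨b, hb, hbe, hbc⟩ := h1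
  have hc : codeQ (nOne * zOne * nOne⁻¹) = pmul (pmul codeN codeZ) codeN := by
    rw [nOne_inv, codeQ_mul, codeQ_mul, codeQ_nOne, codeQ_zOne]
  refine ⟨?_, fun e => ?_⟩
  · have e : nOne * zOne * nOne⁻¹ = mkOne (kEl 0 ⟨b, hb⟩) := by
      refine codeQ_inj (hc.trans (hbe.symm.trans ?_))
      rw [← codeQ_monoEl perms_ok.1 hbc codes_ok.2.2.2.2.2.2.2.2.2.1, monoEl, kEl]
      exact congrArg (fun g => codeQ (mkOne g)) (monoAut_congr (permOf_id.trans trP_zero.symm) rfl)
    rw [e]
    exact ⟨kerMap ⟨kC 0 ⟨b, hb⟩, kC_mem_ker 0 ⟨b, hb⟩⟩, range_kerMap ▸ ⟨_, rfl⟩, rfl⟩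
  · rw [e, codeQ_zOne] at hc
    rw [← hc, beq_self_eq_true] at h2
    exact Bool.false_ne_true h2.symm

variable {G : Type*} [Group G] {z : G} (A : Amal z)

/-- The centraliser in the product. -/
noncomputable def pairHom : Cm →* Spor.Co1 × G := Cm.subtype.prod A.iC

/-- The further element in the product. -/
noncomputable def pairN : Spor.Co1 × G := (nOne, A.iN ⟨nOne, nOne_mem⟩)

theorem pairN_sq : pairN A * pairN A = 1 := by
  refine Prod.ext nOne_sq ?_
  show A.iN _ * A.iN _ = 1
  rw [← map_mul, show (⟨nOne, nOne_mem⟩ : Nm) * ⟨nOne, nOne_mem⟩ = 1 from Subtype.ext nOne_sq, map_one]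

theorem pair_spec {p : ℕ × ℕ × ℕ × ℕ} (hp : p ∈ certPairRels) :
    ∃ x y yi : Cm, codeQ x = certDat.xT.get p.1 ∧ codeQ y = certDat.yT.get p.1 ∧
      cmModel.el (certDat.cT.get p.2.1) = x ∧ cmModel.el (certDat.cT.get p.2.2.2) = yi ∧ y * yi = 1 ∧
      (pairN A)⁻¹ * pairHom A x * pairN A = pairHom A y := by
  have h := rels_ok.2.2.2.1
  simp only [List.all_eq_true, Bool.and_eq_true, Nat.blt_eq, Nat.beq_eq] at h
  obtain ⟨⟨⟨⟨⟨⟨⟨hi, hx⟩, hy⟩, hyi⟩, ex⟩, ey⟩, einv⟩, econj⟩ := h p hp
  refine ⟨cmModel.el (certDat.cT.get p.2.1), cmModel.el (certDat.cT.get p.2.2.1),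
    cmModel.el (certDat.cT.get p.2.2.2), ?_, ?_, rfl, rfl, ?_, ?_⟩
  · rw [el_code hx]; exact ex.symm
  · rw [el_code hy]; exact ey.symm
  · refine Subtype.ext (codeQ_inj ?_)
    rw [coe_mul, codeQ_mul, el_code hy, el_code hyi, OneMemClass.coe_one, codeQ_one]
    simp only [certDat] at *
    rw [← ey]
    exact einv
  · set x := cmModel.el (certDat.cT.get p.2.1)
    set y := cmModel.el (certDat.cT.get p.2.2.1)
    have e1 : nOne⁻¹ * (x : Spor.Co1) * nOne = y := by
      refine codeQ_inj ?_
      rw [nOne_inv, codeQ_mul, codeQ_mul, codeQ_nOne, el_code hx, el_code hy]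
      simp only [certDat] at *
      rw [← ex, ← ey]
      exact econj
    refine Prod.ext e1 ?_
    have hmem : nOne⁻¹ * (x : Spor.Co1) * nOne ∈ Cm := e1 ▸ y.2
    have h := A.edge ⟨nOne, nOne_mem⟩ x hmem nOne_edge.1 nOne_edge.2
    show (A.iN _)⁻¹ * A.iC x * A.iN _ = A.iC y
    rw [← h]
    exact congrArg A.iC (Subtype.ext e1)

theorem holds : certDat.Holds cmModel (pairHom A) (pairN A) where
  zero := codes_ok.2.2.2.2.2.2.2.2.2.2.1
  gens i := codeQ_gOne i
  cOk := cert_cOk
  pOk := cert_pOk
  evOk := cert_evOk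
  base := rfl
  relLt r hr a ha := by
    have h := rels_ok.2.2.2.2.2.2.2.1
    simp only [List.all_eq_true, Nat.blt_eq] at h
    exact h r hr a ha
  pair i hi hi' := by
    obtain ⟨-, -, -, -, hmap, hX, hY, -, -⟩ := rels_ok
    rcases i with _ | i
    · refine ⟨1, 1, ?_, ?_, by simp⟩
      · rw [cmModel_code, OneMemClass.coe_one, codeQ_one]; exact hX.symm
      · rw [cmModel_code, OneMemClass.coe_one, codeQ_one]; exact hY.symm
    · have hm : i + 1 ∈ certPairRels.map (fun p => p.1) := by
        rw [hmap]; have : i < 3 := by omega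
        interval_cases i <;> simp
      obtain ⟨p, hp, e⟩ := List.mem_map.1 hm
      obtain ⟨x, y, yi, hx, hy, -, -, -, h⟩ := pair_spec A hp
      exact ⟨x, y, by rw [cmModel_code, hx, ← e], by rw [cmModel_code, hy, ← e], h⟩
  rel r hr := by
    obtain ⟨-, htake, hdrop, -, -, -, -, hlt, hfold⟩ := rels_ok
    simp only [List.all_eq_true, Nat.blt_eq, List.contains_iff_mem, Nat.beq_eq] at htake hlt hfold
    rcases List.mem_append.1 ((List.take_append_drop (certLoops + 1) certDat.rels).symm ▸ hr) with hr' | hr'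
    · -- the words inside the monomial group
      have hmono := htake r hr'
      let w : List Nm := r.attach.map fun a =>
        ⟨nOne, nOne_mem⟩ * ⟨(cmModel.el (certDat.cT.get a.1) : Cm), el_mono (hmono a.1 a.2)⟩
      have e1 : (r.map fun a => nOne * ((cmModel.el (certDat.cT.get a) : Cm) : Spor.Co1)).prod = 1 := by
        refine codeQ_inj ?_
        rw [codeQ_one, ← hfold r hr]
        have key : ∀ (l : List ℕ) (v : Spor.Co1), (∀ a ∈ l, a < certNC) →
            codeQ (v * (l.map fun a => nOne * ((cmModel.el (certDat.cT.get a) : Cm) : Spor.Co1)).prod) =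
              l.foldl (fun v a => pmul (pmul v codeN) (certC.get a)) (codeQ v) := by
          intro l
          induction l with
          | nil => intro v _; simp
          | cons a l ih =>
            intro v hl
            rw [List.map_cons, List.prod_cons, List.foldl_cons, ← mul_assoc,
              ih _ fun b hb => hl b (List.mem_cons_of_mem _ hb), ← mul_assoc v, codeQ_mul, codeQ_mul, codeQ_nOne,
              el_code (hl a List.mem_cons_self)]
            rfl
        have := key r 1 (hlt r hr)
        rwa [one_mul, codeQ_one] at this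
      have e2 : (r.map fun a => A.iN ⟨nOne, nOne_mem⟩ * A.iC (cmModel.el (certDat.cT.get a))).prod = A.iN w.prod := by
        rw [map_list_prod, List.map_map]
        conv_lhs => rw [← List.attach_map_val (l := r) (f := fun a => A.iN ⟨nOne, nOne_mem⟩ * A.iC (cmModel.el (certDat.cT.get a)))]
        congr 1
        refine List.map_congr_left fun a _ => ?_
        rw [Function.comp_apply, map_mul]
        congr 1
        exact A.agree _ _ _
      have e3 : w.prod = 1 := by
        refine Subtype.ext ?_
        rw [Subgroup.val_list_prod, List.map_map, OneMemClass.coe_one, ← e1,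
          ← List.attach_map_val (l := r) (f := fun a => nOne * ((cmModel.el (certDat.cT.get a) : Cm) : Spor.Co1))]
        rfl
      refine Prod.ext ?_ ?_
      · rw [← MonoidHom.coe_fst (M := Spor.Co1) (N := G), map_list_prod, List.map_map, map_one]
        exact e1
      · rw [← MonoidHom.coe_snd (M := Spor.Co1) (N := G), map_list_prod, List.map_map, map_one]
        show (r.map fun a => A.iN ⟨nOne, nOne_mem⟩ * A.iC (cmModel.el (certDat.cT.get a))).prod = 1
        rw [e2, e3, map_one]
    · -- the relators of the pairs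
      rw [show certDat.rels = certRels from rfl, hdrop] at hr'
      obtain ⟨p, hp, rfl⟩ := List.mem_map.1 hr'
      obtain ⟨x, y, yi, -, -, ex, eyi, hinv, h⟩ := pair_spec A hp
      simp only [List.map_cons, List.map_nil, List.prod_cons, List.prod_nil, mul_one, ex, eyi]
      rw [inv_eq_of_mul_eq_one_right (pairN_sq A)] at h
      rw [← mul_assoc, h, ← map_mul, hinv, map_one]

end CfsgLib.CoOneRec
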