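import Cfsg.Agent.Lib.CoOneRec.Count
import Cfsg.Agent.Lib.CoOneRec.CertNodes
import Cfsg.Agent.Lib.CoOneRec.CertPairs
import Cfsg.Agent.Lib.CoOneRec.CertEvents
import Cfsg.Agent.Lib.CoOneRec.CertTables

/-!
# The system of the certificate
-/

set_option autoImplicit false

namespace CfsgLib.CoOneRec

/-- The certificate. -/
def certDat : Dat :=
  ⟨certC, certCD, certNC, certX, certY, certPD, certNP, certEv, certNE, certBase, certRels⟩

end CfsgLib.CoOneRec
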