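import Cfsg.Agent.Lib.CoOneRec.ModelCodeChecks
import Cfsg.Agent.Lib.Leech.Basic

/-!
Values on the octads satisfying the relations of four and of trios extend to a homomorphism of the code.
-/

set_option autoImplicit false
set_option maxRecDepth 100000

namespace CfsgLib.CoOneRec

open Cfsg CfsgLib.Golay CfsgLib.Leech
open scoped symmDiff

theorem toSet_allMask : toSet allMask = Finset.univ := by
  refine Finset.eq_univ_iff_forall.2 fun p => ?_
  rw [mem_toSet]
  revert p
  decide +kernel

theorem octOk_spec {x : ℕ} (h : octOk x = true) : toSet x ∈ octads := by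
  simp only [octOk, Bool.and_eq_true, Nat.beq_eq] at h
  exact mem_wordsOfWeight.2 ⟨x, mem_golayList_of_inCode h.1, h.2, rfl⟩

/-- Parity of the meet with a mask. -/
def codePar (i : ℕ) (c : Finset GolayPt) : ℕ := (c ∩ toSet (codeDuals.getD i 0)).card % 2

theorem codePar_symmDiff (i : ℕ) (c d : Finset GolayPt) :
    codePar i (c ∆ d) = (codePar i c + codePar i d) % 2 := by
  set D := toSet (codeDuals.getD i 0) with hD
  have h1 : ((c ∆ d) ∩ D).card + 2 * ((c ∩ D) ∩ (d ∩ D)).card = (c ∩ D).card + (d ∩ D).card := by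
    have e : (c ∆ d) ∩ D = (c ∩ D) \ (d ∩ D) ∪ (d ∩ D) \ (c ∩ D) := by
      ext p
      simp only [Finset.mem_inter, Finset.mem_union, Finset.mem_sdiff, Finset.mem_symmDiff]
      tauto
    rw [e, Finset.card_union_of_disjoint disjoint_sdiff_sdiff, Finset.card_sdiff, Finset.card_sdiff,
      Finset.inter_comm (d ∩ D) (c ∩ D)]
    have := Finset.card_le_card (Finset.inter_subset_left : (c ∩ D) ∩ (d ∩ D) ⊆ c ∩ D)
    have := Finset.card_le_card (Finset.inter_subset_right : (c ∩ D) ∩ (d ∩ D) ⊆ d ∩ D)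
    omega
  simp only [codePar, ← hD]
  omega

theorem codePar_toSet (i x : ℕ) : codePar i (toSet x) = bitCount (x &&& codeDuals.getD i 0) % 2 := by
  rw [codePar, ← toSet_and, card_toSet]

theorem pow_mod_two_mul {M : Type*} [CommGroup M] (hM : ∀ x : M, x * x = 1) (x : M) (m n : ℕ) :
    x ^ ((m + n) % 2) = x ^ m * x ^ n := by
  rw [← pow_add]
  conv_rhs => rw [← Nat.mod_add_div (m + n) 2, pow_add, pow_mul, pow_two, hM, one_pow, mul_one]

/-- Values on the octads satisfying the two relations extend to the code. -/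
theorem code_hom {M : Type*} [CommGroup M] (hM : ∀ x : M, x * x = 1) (a : Finset GolayPt → M)
    (h4 : ∀ o ∈ octads, ∀ o2 ∈ octads, (o ∩ o2).card = 4 → a (o ∆ o2) = a o * a o2)
    (h0 : ∀ o ∈ octads, ∀ o2 ∈ octads, (o ∩ o2).card = 0 →
      a (Finset.univ ∆ (o ∆ o2)) = a o * a o2) :
    ∃ L : Finset GolayPt → M, L Finset.univ = 1 ∧ (∀ o ∈ octads, L o = a o) ∧
      ∀ c c2, L (c ∆ c2) = L c * L c2 := by
  let s : ℕ → M := fun i => a (toSet (codeSeeds.getD i 0))
  let L : Finset GolayPt → M := fun c => ∏ i ∈ Finset.range 11, s i ^ codePar i c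
  have hmul : ∀ c c2, L (c ∆ c2) = L c * L c2 := by
    intro c c2
    simp only [L, codePar_symmDiff, pow_mod_two_mul hM, Finset.prod_mul_distrib]
  obtain ⟨hlen, -, hok, huniv, hdual⟩ := seed_checks
  have hu : L Finset.univ = 1 := by
    refine Finset.prod_eq_one fun i hi => ?_
    rw [← toSet_allMask, codePar_toSet, huniv i (Finset.mem_range.1 hi), pow_zero]
  have hseed : ∀ j < 11, L (toSet (codeSeeds.getD j 0)) = s j := by
    intro j hj
    refine (Finset.prod_eq_single_of_mem j (Finset.mem_range.2 hj) fun i hi hij => ?_).trans ?_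
    · rw [codePar_toSet, hdual i (Finset.mem_range.1 hi) j hj, if_neg hij, pow_zero]
    · rw [codePar_toSet, hdual j hj j hj, if_pos rfl, pow_one]
  -- the derivation
  have key : ∀ es known, derChk es known = true →
      (∀ x ∈ known, toSet x ∈ octads ∧ L (toSet x) = a (toSet x)) →
      ∀ x ∈ es.map (·.1) ++ known, L (toSet x) = a (toSet x) := by
    intro es
    induction es with
    | nil => exact fun known _ h x hx => (h x (by simpa using hx)).2
    | cons e es ih =>
      intro known hd h x hx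
      simp only [derChk, derOk, Bool.and_eq_true, Bool.or_eq_true, List.any_eq_true, Nat.beq_eq] at hd
      obtain ⟨⟨⟨⟨hox, y, hy, ey⟩, z, hz, ez⟩, hrel⟩, hrest⟩ := hd
      subst ey
      subst ez
      obtain ⟨oy, hLy⟩ := h _ hy
      obtain ⟨oz, hLz⟩ := h _ hz
      have hnew : L (toSet e.1) = a (toSet e.1) := by
        rcases hrel with ⟨h4', ex⟩ | ⟨h0', ex⟩
        · rw [ex, toSet_xor, hmul, h4 _ oy _ oz (by rw [← toSet_and, card_toSet, h4']), hLy, hLz]
        · rw [ex, toSet_xor, toSet_xor, toSet_allMask, hmul, hmul, hu, one_mul,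
            h0 _ oy _ oz (by rw [← toSet_and, card_toSet, h0']; decide), hLy, hLz]
      refine ih (e.1 :: known) hrest ?_ x ?_
      · intro w hw
        rcases List.mem_cons.1 hw with rfl | hw
        · exact ⟨octOk_spec hox, hnew⟩
        · exact h w hw
      · simp only [List.map_cons, List.cons_append, List.mem_cons, List.mem_append] at hx ⊢
        tauto
  refine ⟨L, hu, fun o ho => ?_, hmul⟩
  obtain ⟨n, hn, hw, rfl⟩ := mem_wordsOfWeight.1 ho
  have hc := forall_golayList cover_checks n hn
  simp only [Bool.or_eq_true, Bool.not_eq_true', List.any_eq_true, Nat.beq_eq] at hc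
  rcases hc with hc | ⟨w, hw', rfl⟩
  · simp [hw] at hc
  · refine key codeSteps codeSeeds step_checks (fun x hx => ⟨octOk_spec (List.all_eq_true.1 hok x hx), ?_⟩) n ?_
    · obtain ⟨j, hj, rfl⟩ := List.mem_iff_getElem.1 hx
      rw [← List.getD_eq_getElem _ 0 hj]
      exact hseed j (hlen ▸ hj)
    · simp only [codeAll, List.mem_append] at hw' ⊢
      tauto

/-- Two homomorphisms of the code agreeing on the octads are equal on it. -/
theorem code_ext {M : Type*} [Group M] {f g : Finset GolayPt → M}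
    (hf : ∀ c d, CodeSet c → CodeSet d → f (c ∆ d) = f c * f d)
    (hg : ∀ c d, CodeSet c → CodeSet d → g (c ∆ d) = g c * g d)
    (h : ∀ o ∈ octads, f o = g o) {c : Finset GolayPt} (hc : CodeSet c) : f c = g c := by
  have hz : toSet 0 = ∅ := by ext p; simp [mem_toSet]
  obtain ⟨n, hn, rfl⟩ := mem_supports.1 hc
  refine (spanList_induction (P := fun n => CodeSet (toSet n) ∧ f (toSet n) = g (toSet n)) ?_ ?_ n hn).2
  · have hf1 := hf ∅ ∅ codeSet_empty codeSet_empty
    have hg1 := hg ∅ ∅ codeSet_empty codeSet_empty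
    simp only [symmDiff_self, Finset.bot_eq_empty] at hf1 hg1
    rw [hz]
    exact ⟨codeSet_empty, by rw [mul_eq_left.1 hf1.symm, mul_eq_left.1 hg1.symm]⟩
  · intro b hb m hm
    have ho := octOk_spec (List.all_eq_true.1 basis_checks b hb)
    refine ⟨toSet_xor b m ▸ codeSet_symmDiff ho.1 hm.1, ?_⟩
    rw [toSet_xor, hf _ _ ho.1 hm.1, hg _ _ ho.1 hm.1, h _ ho, hm.2]

end CfsgLib.CoOneRec
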