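import Cfsg.Agent.Lib.CoOneRec.PMul
import Cfsg.Agent.Lib.CoOneRec.Basic
import Cfsg.Agent.Lib.Rigid.Co1Search

/-!
# The first Conway group by packed matrices on the lattice modulo twice itself
-/

set_option autoImplicit false
set_option maxRecDepth 100000

namespace CfsgLib.CoOneRec

open Cfsg CfsgLib.Golay CfsgLib.Leech CfsgLib.Leech.CoTwo
open CfsgLib.Rigid (pack img mulF img_mulF pack_lt)
open CfsgLib.Rigid.Co1 (basis tabE tabD table_ok gram)

/-- The columns of an element. -/
noncomputable def colsQ (x : Spor.Co1) : List ℕ := basis.code1Quot x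

/-- The packed matrix of an element. -/
noncomputable def codeQ (x : Spor.Co1) : ℕ := pk (colsQ x)

theorem colsQ_mk (g : Co0) : colsQ (QuotientGroup.mk g) = basis.cols1 g := rfl

theorem colsQ_length (x : Spor.Co1) : (colsQ x).length = 24 := by
  refine QuotientGroup.induction_on x fun g => ?_
  rw [colsQ_mk]
  simp [CfsgLib.Rigid.Basis.cols1]

theorem colsQ_lt (x : Spor.Co1) : ∀ a ∈ colsQ x, a < 2 ^ 24 := by
  refine QuotientGroup.induction_on x fun g => ?_
  intro a ha
  rw [colsQ_mk, CfsgLib.Rigid.Basis.cols1, List.mem_ofFn] at ha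
  obtain ⟨j, rfl⟩ := ha
  exact (pack_lt _).trans_le (by simp)

theorem colsQ_mul (x y : Spor.Co1) : colsQ (x * y) = mulF (colsQ x) (colsQ y) := by
  refine QuotientGroup.induction_on x fun a => ?_
  refine QuotientGroup.induction_on y fun b => ?_
  exact basis.cols1_mul a b

theorem codeQ_inj : Function.Injective codeQ := fun x y h =>
  basis.cod1_injective (pk_injective ((colsQ_length x).trans (colsQ_length y).symm) (colsQ_lt x) (colsQ_lt y) h)

theorem codeQ_mul (x y : Spor.Co1) : codeQ (x * y) = pmul (codeQ x) (codeQ y) := by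
  rw [codeQ, codeQ, codeQ, pmul_pk (colsQ_length x) (colsQ_lt x) (colsQ_length y) (colsQ_lt y), colsQ_mul]

theorem img_lt {A : List ℕ} (hA : ∀ a ∈ A, a < 2 ^ 24) (p : ℕ) : img A p < 2 ^ 24 := by
  rw [img_eq_part]; exact part_lt hA _ _

theorem codeQ_vec (x y : Spor.Co1) {v : ℕ} (hv : v < 2 ^ 24) :
    pmul (codeQ (x * y)) v = pmul (codeQ x) (pmul (codeQ y) v) := by
  simp only [codeQ]
  rw [pmul_vec (colsQ_length _) (colsQ_lt _) hv, pmul_vec (colsQ_length _) (colsQ_lt _) hv,
    pmul_vec (colsQ_length _) (colsQ_lt _) (img_lt (colsQ_lt _) _), colsQ_mul, img_mulF]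

theorem codeQ_one : codeQ (1 : Spor.Co1) = oneP := by
  rw [show (1 : Spor.Co1) = QuotientGroup.mk 1 from rfl, codeQ, colsQ_mk, basis.cols1_one]
  rfl

/-- The coordinates of a basis vector. -/
def rowE (j : ℕ) : List ℤ := (tabE.getD j (0, 0, [])).2.2

/-- The coordinates of a dual basis vector. -/
def rowD (j : ℕ) : List ℤ := (tabD.getD j (0, 0, [])).2.2

/-- The code of a coordinate list. -/
def codeL (l : List ℤ) : ℕ := pack ((List.range 24).map fun j => dotL (rowD j) l / 8)

theorem coe_e (j : Fin 24) : ((basis.e j : leechLattice) : GolayPt → ℤ) = toVec (rowE j.val) := by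
  have h := CfsgLib.Rigid.coe_latRow tabE (CfsgLib.Rigid.tableTest_parts table_ok).1
    (CfsgLib.Rigid.tableTest_parts table_ok).2.2.1 j
  refine h.trans ?_
  have hl := (CfsgLib.Rigid.tableTest_parts table_ok).2.2.1
  simp only [CfsgLib.Rigid.entries, rowE]
  rw [List.getD_eq_getElem _ _ (by simp [hl]), List.getD_eq_getElem _ _ (by omega), List.getElem_map]
  rfl

theorem coe_d (j : Fin 24) : ((basis.d j : leechLattice) : GolayPt → ℤ) = toVec (rowD j.val) := by
  have h := CfsgLib.Rigid.coe_latRow tabD (CfsgLib.Rigid.tableTest_parts table_ok).2.1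
    (CfsgLib.Rigid.tableTest_parts table_ok).2.2.2.1 j
  refine h.trans ?_
  have hl := (CfsgLib.Rigid.tableTest_parts table_ok).2.2.2.1
  simp only [CfsgLib.Rigid.entries, rowD]
  rw [List.getD_eq_getElem _ _ (by simp [hl]), List.getD_eq_getElem _ _ (by omega), List.getElem_map]
  rfl

theorem code1_of_list {x : leechLattice} {l : List ℤ} (h : (x : GolayPt → ℤ) = toVec l) :
    basis.code1 x = codeL l := by
  rw [CfsgLib.Rigid.Basis.code1, codeL]
  congr 1
  refine List.ext_getElem (by simp) fun n h1 h2 => ?_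
  simp only [List.getElem_ofFn, List.getElem_map, List.getElem_range]
  have e := eight_mul_inner (basis.d ⟨n, by simpa using h1⟩) x
  rw [h, coe_d, dotInt_toVec] at e
  rw [← e, Int.mul_ediv_cancel_left _ (by norm_num : (8 : ℤ) ≠ 0)]

/-- The code of an element with known images of the basis. -/
theorem codeQ_of_imgs {g : Co0} {f : List ℤ → List ℤ}
    (h : ∀ j : Fin 24, ((g • basis.e j : leechLattice) : GolayPt → ℤ) = toVec (f (rowE j.val))) :
    codeQ (QuotientGroup.mk g) = pk ((List.range 24).map fun j => codeL (f (rowE j))) := by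
  rw [codeQ, colsQ_mk]
  congr 1
  refine List.ext_getElem (by simp [CfsgLib.Rigid.Basis.cols1]) fun n h1 h2 => ?_
  simp only [CfsgLib.Rigid.Basis.cols1, List.getElem_ofFn, List.getElem_map, List.getElem_range]
  exact code1_of_list (h _)

theorem codeQ_mat {M N : List (List (ℕ × ℤ))} (h : matCheck M N = true) (h' : matCheck N M = true) :
    codeQ (QuotientGroup.mk (matAut M N h h')) = pk ((List.range 24).map fun j => codeL (imgList M (rowE j))) :=
  codeQ_of_imgs fun j => by rw [coe_matAut_smul, coe_e, applyMat_toVec]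

/-- The image of a coordinate list under a signed permutation, given by the inverse permutation and a mask. -/
def monoImg (Li : List ℕ) (c : ℕ) (l : List ℤ) : List ℤ :=
  (List.range 24).map fun i => if c.testBit i then -(l.getD (Li.getD i 0) 0) else l.getD (Li.getD i 0) 0

theorem codeQ_mono {L Li : List ℕ} {c : ℕ} (hσ : permOf ptEquiv L ∈ M24) (hc : CodeSet (toSet c))
    (hL : validL 24 L = true) (hi : ∀ i < 24, L.getD (Li.getD i 0) 0 = i ∧ Li.getD i 0 < 24) :
    codeQ (QuotientGroup.mk (monoAut (permOf ptEquiv L) hσ (toSet c) hc)) =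
      pk ((List.range 24).map fun j => codeL (monoImg Li c (rowE j))) :=
  codeQ_of_imgs fun j => by
    funext p
    rw [coe_monoAut_smul, coe_e, monoImg, toVec_range]
    have hs : (permOf ptEquiv L).symm p = pt (Li.getD (ptEquiv p).val 0) := by
      rw [Equiv.symm_apply_eq]
      refine ptEquiv.injective (Fin.ext ?_)
      obtain ⟨h1, h2⟩ := hi _ (ptEquiv p).isLt
      rw [permOf_apply _ hL, ptEquiv_pt h2, h1]
    simp only [signedPerm, hs, mem_toSet]
    rw [toVec_pt _ (hi _ (ptEquiv p).isLt).2]

end CfsgLib.CoOneRec
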