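import Cfsg.Agent.Lib.CoOneRec.Sound

/-!
# The order bound from a completed certificate

Representatives of the cosets of the group of first components cover `C`; identities at all of them close
the double cosets of the base elements under `n`; chains of elements fixing the base points bound their sizes.
-/

set_option autoImplicit false

namespace CfsgLib.CoOneRec

variable (D : Dat)

/-- The representatives times the first components are closed under left multiplication by a generator. -/
noncomputable def Dat.movesB (reps : List ℕ) (moves : List (ℕ × List ℕ)) (l : ℕ) : Bool :=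
  Nat.beq moves.length reps.length && reps.all (fun r => Nat.blt r D.nC) &&
    (List.zip reps moves).all fun p =>
      Nat.blt p.2.1 reps.length && p.2.2.all (fun i => Nat.blt i D.nP) &&
        Nat.beq (pmul (D.cT.get l) (D.cT.get p.1)) (pmul (D.cT.get (reps.getD p.2.1 0)) (D.dx p.2.2))

/-- The identities lead from the representatives at a base point to base points. -/
noncomputable def Dat.coverB (reps : List ℕ) (hops : List Hop) (k : ℕ) : Bool :=
  Nat.beq hops.length reps.length && reps.all (fun r => Nat.blt r D.nC) &&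
    (List.zip reps hops).all fun p =>
      match D.hopB D.nE p.2 (k, D.cT.get p.1) with
      | some Q => Nat.blt Q.1 D.base.length
      | none => false

/-- Strictly increasing. -/
def increasing : List ℕ → Bool
  | a :: b :: l => Nat.blt a b && increasing (b :: l)
  | _ => true

theorem increasing_pairwise : ∀ {l : List ℕ}, increasing l = true → l.Pairwise (· < ·) := by
  intro l
  induction l with
  | nil => intro _; exact List.Pairwise.nil
  | cons a l ih =>
    cases l with
    | nil => intro _; exact List.pairwise_singleton _ a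
    | cons b l =>
      intro h
      simp only [increasing, Bool.and_eq_true, Nat.blt_eq] at h
      have ih' := ih h.2
      refine List.pairwise_cons.2 ⟨fun x hx => ?_, ih'⟩
      rcases List.mem_cons.1 hx with rfl | hx
      · exact h.1
      · exact h.1.trans ((List.pairwise_cons.1 ih').1 x hx)

/-- The matrix of a fact at an index, zero otherwise. -/
noncomputable def Dat.factCode (k s : ℕ) : ℕ :=
  match (if Nat.blt s D.nE then D.factOf (D.evT.get s) else none) with
  | some (j, c) => if Nat.beq j k then c else 0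
  | none => 0

/-- The number of elements from the levels. -/
def chainSize (L : List (ℕ × List ℕ)) : ℕ := (L.map fun p => p.2.length).prod

/-- A level: facts fixing the earlier points and moving the next one to different places. -/
noncomputable def levelB (cd : ℕ → ℕ) (fixed : List ℕ) (p : ℕ × List ℕ) : Bool :=
  Nat.blt p.1 16777216 && fixed.all (fun v => Nat.blt v 16777216) &&
    p.2.all (fun s => !(Nat.beq (cd s) 0) && fixed.all fun v => Nat.beq (pmul (cd s) v) v) &&
      increasing (p.2.map fun s => pmul (cd s) p.1)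

/-- All levels. -/
noncomputable def chainB (cd : ℕ → ℕ) : List ℕ → List (ℕ × List ℕ) → Bool
  | _, [] => true
  | fixed, p :: L => levelB cd fixed p && chainB cd (fixed ++ [p.1]) L

/-- The matrix of an element, zero outside the table. -/
noncomputable def Dat.nodeCode (i : ℕ) : ℕ := if Nat.blt i D.nC then D.cT.get i else 0

section Sound

variable {C M : Type*} [Group C] [Group M] {𝓜 : Model C} {ι : C →* M} {n : M} {D}

variable (𝓜) in
/-- The subgroup of the first components. -/
def Dat.dGrp (D : Dat) : Subgroup C :=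
  Subgroup.closure {x | ∃ i < D.nP, 𝓜.code x = D.xT.get i}

variable (𝓜 ι n) in
/-- The double coset of a base element. -/
def Dat.dbl (D : Dat) (k : ℕ) : Set M :=
  {m | ∃ p c : C, m = ι p * D.baseVal 𝓜 ι n (D.base.getD k []) * ι c}

variable (𝓜 ι n) in
/-- The elements fixing a base point. -/
def Dat.baseStab (D : Dat) (k : ℕ) : Subgroup C where
  carrier := {s | SameCoset ι (D.baseVal 𝓜 ι n (D.base.getD k []) * ι s) (D.baseVal 𝓜 ι n (D.base.getD k []))}
  one_mem' := by simpa using SameCoset.refl (ι := ι) (D.baseVal 𝓜 ι n (D.base.getD k []))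
  mul_mem' := fun {a b} ha hb => by
    show SameCoset ι _ _
    rw [map_mul, ← mul_assoc]
    exact (ha.mul_right _).trans hb
  inv_mem' := fun {a} ha => by
    have h := (ha.mul_right (ι a)⁻¹).symm
    show SameCoset ι _ _
    rw [map_inv]
    simpa using h

variable (H : D.Holds 𝓜 ι n)

include H

theorem Dat.Holds.dGrp_conj {d : C} (hd : d ∈ D.dGrp 𝓜) : ∃ d' : C, n⁻¹ * ι d * n = ι d' := by
  induction hd using Subgroup.closure_induction with
  | mem x hx =>
    obtain ⟨i, hi, hxc⟩ := hx
    obtain ⟨c, c', hc, -, h⟩ := H.pairs 𝓜 hi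
    exact ⟨c', by rw [show x = c from 𝓜.inj (hxc.trans hc.symm), h]⟩
  | one => exact ⟨1, by simp⟩
  | mul a b _ _ ha hb =>
    obtain ⟨a', ea⟩ := ha
    obtain ⟨b', eb⟩ := hb
    exact ⟨a' * b', by rw [map_mul, map_mul, ← ea, ← eb]; group⟩
  | inv a _ ha =>
    obtain ⟨a', ea⟩ := ha
    exact ⟨a'⁻¹, by rw [map_inv, map_inv, ← ea]; group⟩

theorem Dat.Holds.dx_mem {d : List ℕ} (hd : ∀ i ∈ d, i < D.nP) :
    ∃ x ∈ D.dGrp 𝓜, 𝓜.code x = D.dx d := by
  suffices ∀ a ∈ D.dGrp 𝓜, ∃ x ∈ D.dGrp 𝓜,
      𝓜.code x = d.foldl (fun r i => pmul r (D.xT.get i)) (𝓜.code a) by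
    have := this 1 (one_mem _)
    rwa [𝓜.code_one] at this
  induction d with
  | nil => intro a ha; exact ⟨a, ha, rfl⟩
  | cons i d ih =>
    intro a ha
    obtain ⟨x, x', hx, -, -⟩ := H.pairs 𝓜 (hd i List.mem_cons_self)
    simp only [List.foldl_cons]
    rw [← hx, ← 𝓜.code_mul]
    exact ih (fun b hb => hd b (List.mem_cons_of_mem _ hb)) _
      (mul_mem ha (Subgroup.subset_closure ⟨i, hd i List.mem_cons_self, hx⟩))

/-- What the tables say. -/
structure Dat.Complete (D : Dat) (reps : List ℕ) : Prop where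
  lt : 5 ≤ D.nC
  first : reps.getD 0 0 = 0
  nonempty : 0 < reps.length
  moves : ∀ l : Fin 4, ∃ mv, D.movesB reps mv (l.val + 1) = true
  cover : ∀ k, k < D.base.length → ∃ hs, D.coverB reps hs k = true

theorem Dat.Holds.mem_reps [Finite C] {reps : List ℕ} (T : D.Complete reps) (c : C) :
    ∃ r < reps.length, ∃ d ∈ D.dGrp 𝓜, c = 𝓜.el (D.cT.get (reps.getD r 0)) * d := by
  let S : Set C := {c | ∃ r < reps.length, ∃ d ∈ D.dGrp 𝓜, c = 𝓜.el (D.cT.get (reps.getD r 0)) * d}
  have h1 : (1 : C) ∈ S := ⟨0, T.nonempty, 1, one_mem _, by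
    rw [T.first, H.zero, ← 𝓜.code_one, 𝓜.el_code, mul_one]⟩
  have hl : ∀ l : Fin 4, ∀ s ∈ S, 𝓜.g l * s ∈ S := by
    rintro l _ ⟨r, hr, d, hd, rfl⟩
    obtain ⟨mv, hmv⟩ := T.moves l
    simp only [Dat.movesB, List.all_eq_true, Bool.and_eq_true, Nat.blt_eq, Nat.beq_eq] at hmv
    obtain ⟨⟨hlen, hlt⟩, hz⟩ := hmv
    have hmem : (reps[r], mv[r]'(hlen ▸ hr)) ∈ List.zip reps mv :=
      List.mem_iff_getElem.2 ⟨r, by simp [hlen, hr], List.getElem_zip⟩
    obtain ⟨⟨hm, hu⟩, he⟩ := hz _ hmem
    obtain ⟨x, hx, hxe⟩ := H.dx_mem hu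
    refine ⟨(mv[r]'(hlen ▸ hr)).1, hm, x * d, mul_mem hx hd, ?_⟩
    rw [← mul_assoc, ← mul_assoc]
    congr 1
    refine 𝓜.inj ?_
    have h1 : reps.getD r 0 < D.nC := by rw [List.getD_eq_getElem _ _ hr]; exact hlt _ (List.getElem_mem _)
    have h2 : reps.getD (mv[r]'(hlen ▸ hr)).1 0 < D.nC := by
      rw [List.getD_eq_getElem _ _ hm]; exact hlt _ (List.getElem_mem _)
    rw [𝓜.code_mul, 𝓜.code_mul, H.code_el 𝓜 h1, H.code_el 𝓜 h2, H.gens, hxe, List.getD_eq_getElem _ _ hr]
    exact he
  have key : ∀ x : C, (∀ s ∈ S, x * s ∈ S) := by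
    intro x
    have hx : x ∈ Subgroup.closure (Set.range 𝓜.g) := by rw [𝓜.gen]; exact Subgroup.mem_top x
    induction hx using Subgroup.closure_induction with
    | mem g hg => obtain ⟨l, rfl⟩ := hg; exact hl l
    | one => intro s hs; simpa using hs
    | mul a b _ _ ha hb => intro s hs; rw [mul_assoc]; exact ha _ (hb s hs)
    | inv a _ ha =>
      intro s hs
      have hfin : S.Finite := Set.toFinite _
      obtain ⟨u, hu, rfl⟩ := ((hfin.injOn_iff_bijOn_of_mapsTo (f := fun y => a * y) fun y hy => ha y hy).1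
        (mul_right_injective a).injOn).surjOn hs
      simpa using hu
  have h := key c 1 h1
  rwa [mul_one] at h

/-- The group generated by the image and `n` lies in the double cosets of the base points. -/
theorem Dat.Holds.closure_le [Finite C] [Finite M] {reps : List ℕ} (T : D.Complete reps)
    (h0 : 0 < D.base.length) :
    ((Subgroup.closure (Set.range ι ∪ {n}) : Subgroup M) : Set M) ⊆
      ⋃ k ∈ Finset.range D.base.length, D.dbl 𝓜 ι n k := by
  set S : Set M := ⋃ k ∈ Finset.range D.base.length, D.dbl 𝓜 ι n k with hS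
  have hgen : ∀ g ∈ Set.range ι ∪ {n}, ∀ s ∈ S, s * g ∈ S := by
    intro g hg s hs
    simp only [hS, Set.mem_iUnion] at hs
    obtain ⟨k, hk, p, c, rfl⟩ := hs
    replace hk : k < D.base.length := Finset.mem_range.1 hk
    rcases hg with ⟨c', rfl⟩ | hg
    · exact Set.mem_biUnion (Finset.mem_range.2 hk) ⟨p, c * c', by rw [map_mul, mul_assoc]⟩
    · rw [Set.mem_singleton_iff] at hg
      rw [hg]
      obtain ⟨r, hr, d, hd, rfl⟩ := H.mem_reps T c
      obtain ⟨hs', hcov⟩ := T.cover k hk
      simp only [Dat.coverB, List.all_eq_true, Bool.and_eq_true, Nat.blt_eq, Nat.beq_eq] at hcov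
      obtain ⟨⟨hlen, hlt⟩, hz⟩ := hcov
      have hr' := hz (reps[r], hs'[r]'(hlen ▸ hr))
        (List.mem_iff_getElem.2 ⟨r, by simp [hlen, hr], List.getElem_zip⟩)
      split at hr'
      · rename_i Q hQ
        rw [Nat.blt_eq] at hr'
        rw [List.getD_eq_getElem _ _ hr]
        rw [← H.code_el 𝓜 (hlt _ (List.getElem_mem hr))] at hQ
        obtain ⟨v, -, q, hq⟩ := H.hop_spec (H.below _ le_rfl) hQ
        obtain ⟨d', hd'⟩ := H.dGrp_conj hd
        refine Set.mem_biUnion (Finset.mem_range.2 hr') ⟨p * q, v * d', ?_⟩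
        simp only [Dat.pt] at hq
        rw [map_mul, map_mul, map_mul, ← hd']
        calc ι p * D.baseVal 𝓜 ι n (D.base.getD k []) * (ι (𝓜.el (D.cT.get reps[r])) * ι d) * n
            = ι p * (D.baseVal 𝓜 ι n (D.base.getD k []) * ι (𝓜.el (D.cT.get reps[r])) * n) *
                (n⁻¹ * ι d * n) := by group
          _ = ι p * (ι q * (D.baseVal 𝓜 ι n (D.base.getD Q.1 []) * ι v)) * (n⁻¹ * ι d * n) := by rw [hq]
          _ = _ := by group
      · exact absurd hr' (by simp)
  have h1 : (1 : M) ∈ S :=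
    Set.mem_biUnion (Finset.mem_range.2 h0) ⟨1, 1, by rw [H.base]; simp [Dat.baseVal]⟩
  intro x hx
  suffices (∀ s ∈ S, s * x ∈ S) from by simpa using this 1 h1
  induction hx using Subgroup.closure_induction with
  | mem g hg => exact hgen g hg
  | one => intro s hs; simpa using hs
  | mul a b _ _ ha hb => intro s hs; rw [← mul_assoc]; exact hb _ (ha s hs)
  | inv a _ ha =>
    intro s hs
    have hfin : S.Finite := Set.toFinite _
    obtain ⟨u, hu, rfl⟩ := ((hfin.injOn_iff_bijOn_of_mapsTo (f := fun y => y * a) fun y hy => ha y hy).1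
      (mul_left_injective a).injOn).surjOn hs
    simpa using hu

theorem Dat.Holds.fact_mem {k s : ℕ} (hne : D.factCode k s ≠ 0) :
    ∃ c ∈ D.baseStab 𝓜 ι n k, 𝓜.code c = D.factCode k s := by
  revert hne
  unfold Dat.factCode
  intro hne
  split at hne
  · rename_i j c hf
    split at hne
    · rename_i hj
      rw [Nat.beq_eq] at hj
      subst hj
      split at hf
      · rename_i hs
        rw [Nat.blt_eq] at hs
        obtain ⟨x, hx, h⟩ := (H.below _ le_rfl s hs).2 _ hf
        refine ⟨x, ?_, by simp [hs, hf, hx]⟩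
        simp only [Dat.pt, map_one, mul_one] at h
        exact h
      · exact absurd hf (by simp)
    · exact absurd rfl hne
  · exact absurd rfl hne

omit H in
/-- A chain gives as many elements in a subgroup as the product of its lengths. -/
theorem Model.chain_ge {S₀ : Subgroup C} {cd : ℕ → ℕ}
    (hcd : ∀ s, cd s ≠ 0 → ∃ c ∈ S₀, 𝓜.code c = cd s) : ∀ {L : List (ℕ × List ℕ)} {fixed : List ℕ},
    chainB cd fixed L = true → (∀ v ∈ fixed, v < 2 ^ 24) → ∃ S : Finset C, S.card = chainSize L ∧
      ∀ c ∈ S, c ∈ S₀ ∧ ∀ v ∈ fixed, pmul (𝓜.code c) v = v := by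
  classical
  intro L
  induction L with
  | nil =>
    intro fixed _ hf
    refine ⟨{1}, by simp [chainSize], fun c hc => ?_⟩
    obtain rfl := Finset.mem_singleton.1 hc
    exact ⟨one_mem _, fun v hv => by rw [𝓜.code_one]; exact pmul_oneP (hf v hv)⟩
  | cons p L ih =>
    intro fixed h _
    simp only [chainB, levelB, Bool.and_eq_true, List.all_eq_true, Nat.blt_eq, Nat.beq_eq,
      Bool.not_eq_true'] at h
    obtain ⟨⟨⟨⟨hp, hf⟩, hall⟩, hinc⟩, hL⟩ := h
    obtain ⟨S, hS, hSm⟩ := ih hL fun v hv => by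
      rcases List.mem_append.1 hv with hv | hv
      · exact hf v hv
      · rw [List.mem_singleton.1 hv]; exact hp
    have hne : ∀ i : Fin p.2.length, cd p.2[i] ≠ 0 := fun i e => by
      have := (hall p.2[i.val] (List.getElem_mem i.2)).1
      simp only [Fin.getElem_fin] at e
      rw [e] at this
      exact absurd this (by simp)
    choose t ht htc using fun i => hcd _ (hne i)
    refine ⟨(Finset.univ ×ˢ S).image fun a => t a.1 * a.2, ?_, ?_⟩
    · rw [Finset.card_image_of_injOn, Finset.card_product, hS, Finset.card_univ, Fintype.card_fin]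
      · simp [chainSize]
      rintro ⟨i, a⟩ ha ⟨j, b⟩ hb e
      simp only [Finset.coe_product, Finset.coe_univ, Set.mem_prod, Set.mem_univ, true_and,
        Finset.mem_coe] at ha hb
      try simp only at e
      have fa := (hSm a ha).2 p.1 (List.mem_append_right _ (List.mem_singleton_self _))
      have fb := (hSm b hb).2 p.1 (List.mem_append_right _ (List.mem_singleton_self _))
      have e1 : pmul (cd p.2[i]) p.1 = pmul (cd p.2[j]) p.1 := by
        have := congrArg (fun c => pmul (𝓜.code c) p.1) e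
        try simp only at this
        rw [𝓜.code_vec _ _ _ hp, 𝓜.code_vec _ _ _ hp, fa, fb, htc, htc] at this
        exact this
      have hij : i = j := by
        have hnd : (p.2.map fun s => pmul (cd s) p.1).Nodup :=
          (increasing_pairwise hinc).imp fun h => Nat.ne_of_lt h
        refine Fin.ext (hnd.getElem_inj_iff (hi := by simp) (hj := by simp) |>.1 ?_)
        simpa using e1
      subst hij
      rw [mul_left_cancel e]
    · intro c hc
      obtain ⟨⟨i, a⟩, ha, rfl⟩ := Finset.mem_image.1 hc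
      rw [Finset.mem_product] at ha
      refine ⟨mul_mem (ht i) (hSm a ha.2).1, fun v hv => ?_⟩
      rw [𝓜.code_vec _ _ _ (hf v hv), (hSm a ha.2).2 v (List.mem_append_left _ hv), htc]
      exact (hall _ (List.getElem_mem i.2)).2 v hv

/-- A double coset is small when many elements fix the base point. -/
theorem Dat.Holds.card_dbl_le [Finite C] [Finite M] {k : ℕ} {L : List (ℕ × List ℕ)}
    (h : chainB (D.factCode k) [] L = true) (hN : 0 < chainSize L) :
    (D.dbl 𝓜 ι n k).ncard ≤ Nat.card C * (Nat.card C / chainSize L) := by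
  set W := D.baseVal 𝓜 ι n (D.base.getD k [])
  obtain ⟨S, hS, hSm⟩ := Model.chain_ge (S₀ := D.baseStab 𝓜 ι n k) (fun _ hs => H.fact_mem hs) h (by simp)
  have hle : chainSize L ≤ Nat.card (D.baseStab 𝓜 ι n k) := by
    rw [← hS, ← Nat.card_eq_finsetCard]
    exact Nat.card_le_card_of_injective (fun a : S => (⟨a.1, (hSm a.1 a.2).1⟩ : D.baseStab 𝓜 ι n k))
      fun a b e => Subtype.ext (congrArg (fun x : D.baseStab 𝓜 ι n k => (x : C)) e)
  have hidx : Nat.card (C ⧸ D.baseStab 𝓜 ι n k) ≤ Nat.card C / chainSize L := by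
    rw [Nat.le_div_iff_mul_le hN]
    calc Nat.card (C ⧸ D.baseStab 𝓜 ι n k) * chainSize L
        ≤ Nat.card (C ⧸ D.baseStab 𝓜 ι n k) * Nat.card (D.baseStab 𝓜 ι n k) := Nat.mul_le_mul_left _ hle
      _ = Nat.card C := (Subgroup.card_eq_card_quotient_mul_card_subgroup _).symm
  rw [← Nat.card_coe_set_eq]
  refine le_trans ?_ (Nat.mul_le_mul le_rfl hidx)
  rw [← Nat.card_prod]
  refine Nat.card_le_card_of_surjective
    (fun a : C × (C ⧸ D.baseStab 𝓜 ι n k) => (⟨_, a.1, a.2.out⁻¹, rfl⟩ : D.dbl 𝓜 ι n k)) ?_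
  rintro ⟨_, p, c, rfl⟩
  obtain ⟨s, hs⟩ := QuotientGroup.mk_out_eq_mul (D.baseStab 𝓜 ι n k) c⁻¹
  obtain ⟨u, hu⟩ := (s.2 : SameCoset ι _ _)
  refine ⟨(p * u, QuotientGroup.mk c⁻¹), Subtype.ext ?_⟩
  simp only [hs, mul_inv_rev, inv_inv, map_mul, map_inv]
  calc ι p * ι u * W * ((ι (s : C))⁻¹ * ι c) = ι p * (ι u * W) * (ι (s : C))⁻¹ * ι c := by group
    _ = ι p * (W * ι (s : C)) * (ι (s : C))⁻¹ * ι c := by rw [hu]
    _ = ι p * W * ι c := by group
    _ = _ := rfl

end Sound

end CfsgLib.CoOneRec
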