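import Cfsg.Agent.Lib.CoOne.End
import Cfsg.Agent.Lib.CoOneRec.Basic

/-!
# The endgame for an amalgam
-/

set_option autoImplicit false

namespace CfsgLib.CoOneRec

open Subgroup Cfsg CfsgLib.Leech CfsgLib.Leech.CoOne

variable {G : Type*} [Group G] [Finite G] {t : G} {Q R : Subgroup G} {π π' : G → CoType.V8}
  {ρ ρ' : G → Classical.qAut CoType.qm}

/-- A group of Conway type with a copy of the first Conway group extending the amalgam is that group. -/
theorem isoCo1_of_hom {z : G} (A : Amal z) (C : CoType.Config z t Q R π π' ρ ρ') (f : Spor.Co1 →* G)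
    (hf : Function.Injective f) (hc : ∀ c : Cm, f c = A.iC c) : Spor.IsoCo1 G := by
  have hm : zOne ∈ Cm := mem_centralizer_singleton_iff.2 rfl
  have hz : f zOne = z := (hc ⟨zOne, hm⟩).trans (A.mapC hm)
  have hC : centralizer ({z} : Set G) ≤ f.range := by
    rw [← A.rangeC]
    rintro _ ⟨c, rfl⟩
    exact ⟨c, hc c⟩
  exact ⟨(MulEquiv.ofBijective f ⟨hf, MonoidHom.range_eq_top.1 (CfsgLib.CoOne.range_eq_top f hf C hz hC)⟩).symm⟩

end CfsgLib.CoOneRec
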