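import Cfsg.Agent.Lib.CoOneRec.PMul

/-!
# Certificates for double cosets of a known matrix group

`ι` maps a known group `C`, given by packed matrices, into a group with a further element `n`. A point
`(k, u)` is the coset of the image of `C` that contains the product of the `k`-th base element and `u`.
An event is an identity, saying where `n` sends a point, or an element fixing a base point; it only refers
to earlier events.
-/

set_option autoImplicit false

namespace CfsgLib.CoOneRec

/-- A binary trie. -/
inductive Trie (α : Type) where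
  | leaf (v : α)
  | node (l r : Trie α)

/-- The entry with a given index, lowest bit first. -/
noncomputable def Trie.get {α : Type} : Trie α → ℕ → α :=
  fun t => Trie.rec (fun v _ => v)
    (fun _ _ f g i => bif Nat.beq (Nat.mod i 2) 0 then f (Nat.div i 2) else g (Nat.div i 2)) t

/-- The use of an identity: its number, an element fixing the base point, and numbers of pairs. -/
structure Hop where
  /-- The number of the identity. -/
  id : ℕ
  /-- The number of the fact, or of the element at the base point zero. -/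
  s : ℕ
  /-- The numbers of the pairs. -/
  d : List ℕ

/-- An event. -/
inductive Ev where
  | none
  | link (j c k : ℕ)
  | ident (r rot k e : ℕ) (hs : List Hop) (j c : ℕ)
  | stab (r rot k u : ℕ) (hs : List Hop) (last : Hop) (s : ℕ)
  | one (k : ℕ)
  | mul (k a b code : ℕ)

/-- The data of a certificate. -/
structure Dat where
  /-- The codes of the elements. -/
  cT : Trie ℕ
  /-- The definitions of the elements. -/
  cD : Trie ℕ
  /-- The number of the elements. -/
  nC : ℕ
  /-- The first components of the pairs. -/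
  xT : Trie ℕ
  /-- The second components of the pairs. -/
  yT : Trie ℕ
  /-- The definitions of the pairs. -/
  pD : Trie ℕ
  /-- The number of the pairs. -/
  nP : ℕ
  /-- The events. -/
  evT : Trie Ev
  /-- The number of the events. -/
  nE : ℕ
  /-- The base elements, as numbers of elements standing before each occurrence of `n`. -/
  base : List (List ℕ)
  /-- The relators, as numbers of elements standing after each occurrence of `n`. -/
  rels : List (List ℕ)

variable (D : Dat)

/-- An element is one of the given ones or a product of two earlier ones. -/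
noncomputable def Dat.cOkB (i : ℕ) : Bool :=
  Nat.blt i 5 || (let d := D.cD.get i
    Nat.blt (d / 32768) i && Nat.blt (d % 32768) i &&
      Nat.beq (D.cT.get i) (pmul (D.cT.get (d / 32768)) (D.cT.get (d % 32768))))

/-- A pair is one of the given ones or a product of two earlier ones. -/
noncomputable def Dat.pOkB (i : ℕ) : Bool :=
  Nat.blt i 4 || (let d := D.pD.get i
    Nat.blt (d / 32768) i && Nat.blt (d % 32768) i &&
      Nat.beq (D.xT.get i) (pmul (D.xT.get (d / 32768)) (D.xT.get (d % 32768))) &&
      Nat.beq (D.yT.get i) (pmul (D.yT.get (d / 32768)) (D.yT.get (d % 32768))))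

/-- The identity of an event. -/
noncomputable def Dat.idOf : Ev → Option (ℕ × ℕ × ℕ × ℕ)
  | .link j c k => some (j, D.cT.get c, k, oneP)
  | .ident _ _ k e _ j c => some (j, D.cT.get c, k, D.cT.get e)
  | _ => none

/-- The fact of an event. -/
noncomputable def Dat.factOf : Ev → Option (ℕ × ℕ)
  | .stab _ _ k _ _ _ s => some (k, D.cT.get s)
  | .one k => some (k, oneP)
  | .mul k _ _ c => some (k, c)
  | _ => none

/-- A left factor at an index, from the events below a bound. -/
noncomputable def Dat.leftAt (m j s : ℕ) : Option ℕ :=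
  if Nat.beq j 0 then (if Nat.blt s D.nC then some (D.cT.get s) else none)
  else match (if Nat.blt s m then D.factOf (D.evT.get s) else none) with
    | some (k, c) => if Nat.beq k j then some c else none
    | none => none

/-- The product of the first components of some pairs. -/
noncomputable def Dat.dx (d : List ℕ) : ℕ := d.foldl (fun r i => pmul r (D.xT.get i)) oneP

/-- The product of the second components of some pairs. -/
noncomputable def Dat.dy (d : List ℕ) : ℕ := d.foldl (fun r i => pmul r (D.yT.get i)) oneP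

/-- An identity used at a point. -/
noncomputable def Dat.hopB (m : ℕ) (h : Hop) (P : ℕ × ℕ) : Option (ℕ × ℕ) :=
  match (if Nat.blt h.id m then D.idOf (D.evT.get h.id) else none), D.leftAt m P.1 h.s with
  | some (j, c, k, e), some S =>
    if Nat.beq j P.1 && h.d.all (fun i => Nat.blt i D.nP) && Nat.beq P.2 (pmul (pmul S c) (D.dx h.d)) then
      some (k, pmul e (D.dy h.d))
    else none
  | _, _ => none

/-- Elements with `n` between them, followed from a point. -/
noncomputable def Dat.walkB (m : ℕ) : List ℕ → List Hop → ℕ × ℕ → Option (ℕ × ℕ)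
  | [], [], P => some P
  | a :: w, h :: hs, P =>
    match D.hopB m h P with
    | some Q => Dat.walkB m w hs (Q.1, pmul Q.2 (D.cT.get a))
    | none => none
  | _, _, _ => none

/-- A relator followed from a point. -/
noncomputable def Dat.relB (m r rot : ℕ) (P : ℕ × ℕ) (hs : List Hop) : Option (ℕ × ℕ) :=
  match (D.rels.getD r []).rotate rot with
  | a :: w => if Nat.blt r D.rels.length then D.walkB m w hs (P.1, pmul P.2 (D.cT.get a)) else none
  | [] => none

/-- An event is justified by the earlier ones. -/
noncomputable def Dat.evOkB (i : ℕ) : Bool :=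
  match D.evT.get i with
  | .none => true
  | .link j c k => Nat.blt c D.nC && decide (D.base.getD k [] = D.base.getD j [] ++ [c])
  | .ident r rot k e hs j c => Nat.blt e D.nC && Nat.blt c D.nC &&
      match D.relB i r rot (k, D.cT.get e) hs with
      | some Q => Nat.beq Q.1 j && Nat.beq Q.2 (D.cT.get c)
      | none => false
  | .stab r rot k u hs last s => Nat.blt u D.nC && Nat.blt s D.nC &&
      match D.relB i r rot (k, D.cT.get u) hs with
      | some Q =>
        match D.hopB i last Q with
        | some R => Nat.beq R.1 k && Nat.beq R.2 (pmul (D.cT.get s) (D.cT.get u))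
        | none => false
      | none => false
  | .one _ => true
  | .mul k a b c => Nat.blt a i && Nat.blt b i &&
      match D.factOf (D.evT.get a), D.factOf (D.evT.get b) with
      | some (ka, x), some (kb, y) => Nat.beq ka k && Nat.beq kb k && Nat.beq c (pmul x y)
      | _, _ => false

/-- A check on an interval. -/
noncomputable def rangeB (f : ℕ → Bool) (lo len : ℕ) : Bool := (List.range len).all fun i => f (lo + i)

theorem rangeB_get {f : ℕ → Bool} {lo len : ℕ} (h : rangeB f lo len = true) {i : ℕ} (h1 : lo ≤ i)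
    (h2 : i < lo + len) : f i = true := by
  have := List.all_eq_true.1 h (i - lo) (List.mem_range.2 (by omega))
  rwa [show lo + (i - lo) = i by omega] at this

section Sound

/-- A group known by packed matrices and four generators. -/
structure Model (C : Type*) [Group C] where
  /-- The packed matrix. -/
  code : C → ℕ
  inj : Function.Injective code
  code_mul : ∀ a b, code (a * b) = pmul (code a) (code b)
  code_one : code 1 = oneP
  code_vec : ∀ a b, ∀ v < 2 ^ 24, pmul (code (a * b)) v = pmul (code a) (pmul (code b) v)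
  /-- The generators. -/
  g : Fin 4 → C
  gen : Subgroup.closure (Set.range g) = ⊤

variable {C M : Type*} [Group C] [Group M] (𝓜 : Model C) (ι : C →* M) (n : M)

/-- The two are in the same coset of the image. -/
def SameCoset (a b : M) : Prop := ∃ p : C, a = ι p * b

variable {ι n}

theorem SameCoset.refl (a : M) : SameCoset ι a a := ⟨1, by rw [map_one, one_mul]⟩

theorem SameCoset.symm {a b : M} (h : SameCoset ι a b) : SameCoset ι b a := by
  obtain ⟨p, rfl⟩ := h
  exact ⟨p⁻¹, by rw [map_inv, inv_mul_cancel_left]⟩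

theorem SameCoset.trans {a b c : M} (h : SameCoset ι a b) (h' : SameCoset ι b c) : SameCoset ι a c := by
  obtain ⟨p, rfl⟩ := h
  obtain ⟨q, rfl⟩ := h'
  exact ⟨p * q, by rw [map_mul, mul_assoc]⟩

theorem SameCoset.mul_right {a b : M} (h : SameCoset ι a b) (g : M) : SameCoset ι (a * g) (b * g) := by
  obtain ⟨p, rfl⟩ := h
  exact ⟨p, mul_assoc _ _ _⟩

/-- Some element has the given matrix. -/
def Dat.HasC (x : ℕ) : Prop := ∃ c : C, 𝓜.code c = x

open scoped Classical in
/-- The element with a given matrix. -/
noncomputable def Model.el (x : ℕ) : C := if h : ∃ c : C, 𝓜.code c = x then h.choose else 1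

theorem Model.el_code (c : C) : 𝓜.el (𝓜.code c) = c := by
  have h : ∃ c' : C, 𝓜.code c' = 𝓜.code c := ⟨c, rfl⟩
  rw [Model.el, dif_pos h]
  exact 𝓜.inj h.choose_spec

theorem Model.el_mul {x y : ℕ} {a b : C} (ha : 𝓜.code a = x) (hb : 𝓜.code b = y) : 𝓜.el (pmul x y) = a * b := by
  rw [← ha, ← hb, ← 𝓜.code_mul, 𝓜.el_code]

variable (ι n)

/-- The value of a base element. -/
noncomputable def Dat.baseVal (b : List ℕ) : M := (b.map fun a => ι (𝓜.el (D.cT.get a)) * n).prod

/-- The point with a given element. -/
noncomputable def Dat.pt (k : ℕ) (u : C) : M := D.baseVal 𝓜 ι n (D.base.getD k []) * ι u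

/-- The checks of the elements and the given facts. -/
structure Dat.Holds : Prop where
  zero : D.cT.get 0 = oneP
  gens : ∀ i : Fin 4, 𝓜.code (𝓜.g i) = D.cT.get (i.val + 1)
  cOk : ∀ i < D.nC, D.cOkB i = true
  pOk : ∀ i < D.nP, D.pOkB i = true
  pair : ∀ i < 4, i < D.nP → ∃ c c' : C, 𝓜.code c = D.xT.get i ∧ 𝓜.code c' = D.yT.get i ∧ n⁻¹ * ι c * n = ι c'
  relLt : ∀ r ∈ D.rels, ∀ a ∈ r, a < D.nC
  rel : ∀ r ∈ D.rels, (r.map fun a => n * ι (𝓜.el (D.cT.get a))).prod = 1
  evOk : ∀ i < D.nE, D.evOkB i = true
  base : D.base.getD 0 [] = []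

/-- The identity of an event holds. -/
def Dat.IdentOK (f : ℕ × ℕ × ℕ × ℕ) : Prop :=
  ∃ c e : C, 𝓜.code c = f.2.1 ∧ 𝓜.code e = f.2.2.2 ∧
    SameCoset ι (D.pt 𝓜 ι n f.1 c * n) (D.pt 𝓜 ι n f.2.2.1 e)

/-- The fact of an event holds. -/
def Dat.FactOK (f : ℕ × ℕ) : Prop :=
  ∃ s : C, 𝓜.code s = f.2 ∧ SameCoset ι (D.pt 𝓜 ι n f.1 s) (D.pt 𝓜 ι n f.1 1)

variable {ι n} {D} (H : D.Holds 𝓜 ι n)

include H

theorem Dat.Holds.has : ∀ {i : ℕ}, i < D.nC → ∃ c : C, 𝓜.code c = D.cT.get i := by
  intro i
  induction i using Nat.strong_induction_on with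
  | _ i ih =>
    intro hi
    have h := H.cOk i hi
    by_cases h5 : i < 5
    · rcases i with _ | i
      · exact ⟨1, by rw [𝓜.code_one, H.zero]⟩
      · exact ⟨_, H.gens ⟨i, by omega⟩⟩
    · simp only [Dat.cOkB, Bool.or_eq_true, Bool.and_eq_true, Nat.blt_eq, Nat.beq_eq] at h
      rcases h with h | ⟨⟨ha, hb⟩, he⟩
      · omega
      · obtain ⟨a, ea⟩ := ih _ ha (by omega)
        obtain ⟨b, eb⟩ := ih _ hb (by omega)
        exact ⟨a * b, by rw [𝓜.code_mul, ea, eb, he]⟩

theorem Dat.Holds.code_el {i : ℕ} (hi : i < D.nC) : 𝓜.code (𝓜.el (D.cT.get i)) = D.cT.get i := by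
  obtain ⟨c, hc⟩ := H.has 𝓜 hi
  rw [← hc, 𝓜.el_code]

theorem Dat.Holds.pairs : ∀ {i : ℕ}, i < D.nP →
    ∃ c c' : C, 𝓜.code c = D.xT.get i ∧ 𝓜.code c' = D.yT.get i ∧ n⁻¹ * ι c * n = ι c' := by
  intro i
  induction i using Nat.strong_induction_on with
  | _ i ih =>
    intro hi
    by_cases h3 : i < 4
    · exact H.pair i h3 hi
    · have h := H.pOk i hi
      simp only [Dat.pOkB, Bool.or_eq_true, Bool.and_eq_true, Nat.blt_eq, Nat.beq_eq] at h
      rcases h with h | ⟨⟨⟨ha, hb⟩, hx⟩, hy⟩
      · omega
      · obtain ⟨a, a', ea, ea', ha'⟩ := ih _ ha (by omega)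
        obtain ⟨b, b', eb, eb', hb'⟩ := ih _ hb (by omega)
        refine ⟨a * b, a' * b', by rw [𝓜.code_mul, ea, eb, hx], by rw [𝓜.code_mul, ea', eb', hy], ?_⟩
        rw [map_mul, map_mul, ← ha', ← hb']
        group

theorem Dat.Holds.dxy {d : List ℕ} (hd : ∀ i ∈ d, i < D.nP) :
    ∃ c c' : C, 𝓜.code c = D.dx d ∧ 𝓜.code c' = D.dy d ∧ n⁻¹ * ι c * n = ι c' := by
  suffices ∀ (a a' : C), n⁻¹ * ι a * n = ι a' → ∃ c c' : C,
      𝓜.code c = d.foldl (fun r i => pmul r (D.xT.get i)) (𝓜.code a) ∧
      𝓜.code c' = d.foldl (fun r i => pmul r (D.yT.get i)) (𝓜.code a') ∧ n⁻¹ * ι c * n = ι c' by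
    have := this 1 1 (by simp)
    rwa [𝓜.code_one] at this
  induction d with
  | nil => intro a a' h; exact ⟨a, a', rfl, rfl, h⟩
  | cons i d ih =>
    intro a a' h
    obtain ⟨x, x', ex, ex', hx⟩ := H.pairs 𝓜 (hd i List.mem_cons_self)
    simp only [List.foldl_cons]
    rw [← ex, ← ex', ← 𝓜.code_mul, ← 𝓜.code_mul]
    exact ih (fun b hb => hd b (List.mem_cons_of_mem _ hb)) _ _ (by rw [map_mul, map_mul, ← h, ← hx]; group)

end Sound

end CfsgLib.CoOneRec
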