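import Cfsg.Agent.Lib.CoOneRec.CodeModel
import Cfsg.Agent.Lib.CoOneRec.CertSys
import Cfsg.Agent.Lib.CoOneRec.CertMono
import Cfsg.Agent.Lib.CoOneRec.CertCheckNodes
import Cfsg.Agent.Lib.CoOneRec.CertCheckChains
import Cfsg.Agent.Lib.CoType.Hyp
import Cfsg.Agent.Lib.Leech.CrossMax
import Cfsg.Agent.Lib.Golay.M24

/-!
# The generators of the model: the centraliser, the monomial group and the whole group
-/

set_option autoImplicit false
set_option maxRecDepth 100000

namespace CfsgLib.CoOneRec

open Subgroup Cfsg CfsgLib.Golay CfsgLib.Leech CfsgLib.Leech.CoTwo CfsgLib.Leech.CoOne CfsgLib.Classical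
open scoped Pointwise symmDiff

/-- The identity permutation. -/
def idL : List ℕ := List.range 24

theorem perms_ok : m24Test idL = true ∧ m24Test perm1L = true ∧ m24Test perm2L = true ∧ m24Test permNL = true ∧
    m24Test transL = true ∧ m24Test projL = true ∧ m24Test twistL = true ∧ inCode signMask = true ∧
    inCode 0 = true ∧ inCode outMask = true := by decide +kernel

theorem valid_of_m24 {L : List ℕ} (h : m24Test L = true) : validL 24 L = true := by
  simp only [m24Test, Bool.and_eq_true] at h; exact h.1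

theorem codeSet_of_inCode {c : ℕ} (h : inCode c = true) : CodeSet (toSet c) :=
  mem_supports.2 ⟨c, mem_golayList_of_inCode h, rfl⟩

/-- A monomial element. -/
noncomputable def monoEl (L : List ℕ) (c : ℕ) (hL : m24Test L = true) (hc : inCode c = true) : Spor.Co1 :=
  mkOne (monoAut (permOf ptEquiv L) (mem_M24_of_test hL) (toSet c) (codeSet_of_inCode hc))

/-- The code of a monomial element, from the inverse permutation. -/
noncomputable def monoCode (Li : List ℕ) (c : ℕ) : ℕ :=
  pk ((List.range 24).map fun j => codeL (monoImg Li c (rowE j)))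

/-- The lists are inverse to each other. -/
def invB (L Li : List ℕ) : Bool :=
  (List.range 24).all fun i => Nat.beq (L.getD (Li.getD i 0) 0) i && Nat.blt (Li.getD i 0) 24

theorem codeQ_monoEl {L Li : List ℕ} {c : ℕ} (hL : m24Test L = true) (hc : inCode c = true)
    (hi : invB L Li = true) : codeQ (monoEl L c hL hc) = monoCode Li c := by
  simp only [invB, List.all_eq_true, List.mem_range, Bool.and_eq_true, Nat.beq_eq, Nat.blt_eq] at hi
  exact codeQ_mono _ _ (valid_of_m24 hL) hi

theorem monoEl_mem {L : List ℕ} {c : ℕ} (hL : m24Test L = true) (hc : inCode c = true) :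
    monoEl L c hL hc ∈ Nm :=
  mem_map_of_mem _ (monoAut_mem _ _ _ _)

theorem sext_ok : matCheck sextM (trMat sextM) = true ∧ matCheck (trMat sextM) sextM = true := by decide +kernel

/-- The automorphism of a sextet. -/
def sextAut : Co0 := matAut sextM (trMat sextM) sext_ok.1 sext_ok.2

/-- The generators. -/
noncomputable def gOne : Fin 4 → Spor.Co1 :=
  ![monoEl perm1L 0 perms_ok.2.1 perms_ok.2.2.2.2.2.2.2.2.1, monoEl perm2L 0 perms_ok.2.2.1 perms_ok.2.2.2.2.2.2.2.2.1,
    mkOne sextAut, monoEl idL signMask perms_ok.1 perms_ok.2.2.2.2.2.2.2.1]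

/-- The further element. -/
noncomputable def nOne : Spor.Co1 := monoEl permNL 0 perms_ok.2.2.2.1 perms_ok.2.2.2.2.2.2.2.2.1

theorem permOf_id : permOf ptEquiv idL = 1 := by
  refine Equiv.ext fun p => ptEquiv.injective (Fin.ext ?_)
  rw [permOf_apply _ (valid_of_m24 perms_ok.1), Equiv.Perm.one_apply]
  simp [idL]

theorem zOne_eq : zOne = monoEl idL outMask perms_ok.1 perms_ok.2.2.2.2.2.2.2.2.2 := by
  rw [zOne, tAut_eq_mono, monoEl]
  exact congrArg mkOne (monoAut_congr permOf_id.symm rfl)

theorem codes_ok : monoCode perm1LI 0 = certC.get 1 ∧ monoCode perm2LI 0 = certC.get 2 ∧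
    pk ((List.range 24).map fun j => codeL (imgList sextM (rowE j))) = certC.get 3 ∧
    monoCode idL signMask = certC.get 4 ∧ monoCode permNLI 0 = codeN ∧ monoCode idL outMask = codeZ ∧
    invB perm1L perm1LI = true ∧ invB perm2L perm2LI = true ∧ invB permNL permNLI = true ∧
    invB idL idL = true ∧ certC.get 0 = oneP ∧ certM.get 0 = oneP ∧ certM.get 1 = certC.get 1 ∧
    certM.get 2 = certC.get 2 ∧ certM.get 3 = certC.get 4 ∧ certM.get 4 = codeN := by decide +kernel

theorem codeQ_gOne : ∀ i : Fin 4, codeQ (gOne i) = certDat.cT.get (i.val + 1) := by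
  obtain ⟨h1, h2, h3, h4, -, -, v1, v2, -, v4, -⟩ := codes_ok
  intro i
  fin_cases i
  · exact (codeQ_monoEl perms_ok.2.1 perms_ok.2.2.2.2.2.2.2.2.1 v1).trans h1
  · exact (codeQ_monoEl perms_ok.2.2.1 perms_ok.2.2.2.2.2.2.2.2.1 v2).trans h2
  · exact (codeQ_mat sext_ok.1 sext_ok.2).trans h3
  · exact (codeQ_monoEl perms_ok.1 perms_ok.2.2.2.2.2.2.2.1 v4).trans h4

theorem codeQ_nOne : codeQ nOne = codeN :=
  (codeQ_monoEl _ _ codes_ok.2.2.2.2.2.2.2.2.1).trans codes_ok.2.2.2.2.1

theorem codeQ_zOne : codeQ zOne = codeZ := by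
  rw [zOne_eq]
  exact (codeQ_monoEl _ _ codes_ok.2.2.2.2.2.2.2.2.2.1).trans codes_ok.2.2.2.2.2.1

theorem comm_ok : ([1, 2, 3, 4].all fun i => Nat.beq (pmul (certC.get i) codeZ) (pmul codeZ (certC.get i))) = true ∧
    pmul codeN codeN = oneP := by decide +kernel

theorem gOne_mem (i : Fin 4) : gOne i ∈ Cm := by
  refine mem_centralizer_singleton_iff.2 (codeQ_inj ?_)
  have h := List.all_eq_true.1 comm_ok.1 (i.val + 1) (by fin_cases i <;> simp)
  rw [codeQ_mul, codeQ_mul, codeQ_gOne, codeQ_zOne]
  exact Nat.eq_of_beq_eq_true h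

theorem nOne_sq : nOne * nOne = 1 := codeQ_inj (by rw [codeQ_mul, codeQ_nOne, codeQ_one]; exact comm_ok.2)

theorem nOne_mem : nOne ∈ Nm := monoEl_mem perms_ok.2.2.2.1 perms_ok.2.2.2.2.2.2.2.2.1

/-- Every entry of a table is the code of an element of a subgroup with the generators. -/
theorem node_mem {D : Dat} (S : Subgroup Spor.Co1) (h0 : D.cT.get 0 = oneP)
    (hg : ∀ i, i < 4 → ∃ x ∈ S, codeQ x = D.cT.get (i + 1)) (hok : ∀ i < D.nC, D.cOkB i = true) :
    ∀ {i : ℕ}, i < D.nC → ∃ x ∈ S, codeQ x = D.cT.get i := by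
  intro i
  induction i using Nat.strong_induction_on with
  | _ i ih =>
    intro hi
    have h := hok i hi
    by_cases h5 : i < 5
    · rcases i with _ | i
      · exact ⟨1, one_mem _, by rw [codeQ_one, h0]⟩
      · exact hg i (by omega)
    · simp only [Dat.cOkB, Bool.or_eq_true, Bool.and_eq_true, Nat.blt_eq, Nat.beq_eq] at h
      rcases h with h | ⟨⟨ha, hb⟩, he⟩
      · omega
      · obtain ⟨a, ha', ea⟩ := ih _ ha (by omega)
        obtain ⟨b, hb', eb⟩ := ih _ hb (by omega)
        exact ⟨a * b, mul_mem ha' hb', by rw [codeQ_mul, ea, eb, he]⟩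

theorem cert_cOk : ∀ i < certDat.nC, certDat.cOkB i = true := by
  intro i hi
  have hn : certDat.nC = 4930 := rfl
  rcases lt_or_ge i 1800 with h | h
  · exact rangeB_get nodes_ok0 (by omega) (by omega)
  rcases lt_or_ge i 3400 with h' | h'
  · exact rangeB_get nodes_ok1 h (by omega)
  · exact rangeB_get nodes_ok2 h' (by omega)

theorem card_Cm : Nat.card Cm = 89181388800 := by
  rw [card_eq_card_quotient_mul_card_subgroup actOne.ker, card_actKer,
    Nat.card_congr (QuotientGroup.quotientKerEquivRange actOne).toEquiv, range_actOne,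
    show (⇑Q8 : _ → ZMod 2) = Cfsg.quadFormPlus 4 (ZMod 2) from coe_qPlus 4, CfsgLib.CoType.card_omega]
  norm_num

theorem finite_one : Finite Spor.Co1 := CfsgLib.Leech.ConwaySimple.finite_co1

theorem closure_gOne : closure (Set.range gOne) = Cm := by
  haveI := finite_one
  set K := closure (Set.range gOne) with hK
  have hle : K ≤ Cm := (closure_le _).2 (Set.range_subset_iff.2 gOne_mem)
  let gK : Fin 4 → K := fun i => ⟨gOne i, subset_closure ⟨i, rfl⟩⟩
  let MK : Model K :=
    { code := fun x => codeQ x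
      inj := fun x y h => Subtype.ext (codeQ_inj h)
      code_mul := fun x y => codeQ_mul x y
      code_one := codeQ_one
      code_vec := fun x y v hv => codeQ_vec x y hv
      g := gK
      gen := by
        rw [show Set.range gK = (K.subtype) ⁻¹' Set.range gOne from Set.ext fun x =>
          ⟨fun ⟨i, e⟩ => ⟨i, congrArg Subtype.val e⟩, fun ⟨i, e⟩ => ⟨i, Subtype.ext e⟩⟩]
        exact closure_closure_coe_preimage }
  have hcd : ∀ s, certDat.nodeCode s ≠ 0 → ∃ c ∈ (⊤ : Subgroup K), MK.code c = certDat.nodeCode s := by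
    intro s hs
    rw [Dat.nodeCode] at hs ⊢
    split at hs
    · rename_i hlt
      rw [Nat.blt_eq] at hlt
      obtain ⟨x, hx, e⟩ := node_mem K codes_ok.2.2.2.2.2.2.2.2.2.2.1
        (fun i hi => ⟨_, subset_closure ⟨⟨i, hi⟩, rfl⟩, codeQ_gOne ⟨i, hi⟩⟩) cert_cOk hlt
      exact ⟨⟨x, hx⟩, mem_top _, by simpa [Nat.blt_eq, hlt] using e⟩
    · exact absurd rfl hs
  obtain ⟨S, hS, -⟩ := Model.chain_ge (𝓜 := MK) hcd top_ok (by simp)
  refine eq_of_le_of_card_ge hle ?_
  rw [card_Cm, ← sizes_ok.1, ← hS, ← Nat.card_eq_finsetCard]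
  exact Nat.card_le_card_of_injective _ Subtype.val_injective

/-- The generators of the monomial group. -/
noncomputable def monoGens : Set Spor.Co1 := {gOne 0, gOne 1, gOne 3, nOne}

theorem mono_nodes_ok : rangeB (Dat.cOkB ⟨certM, certMD, certNM, certM, certM, certMD, 0, .leaf .none, 0, [], []⟩) 0 458 = true ∧
    certTargets.length = 15 ∧ certTargets.all (fun i => Nat.blt i certNM) = true ∧
    ((List.range 3).all fun k => Nat.beq (certM.get (certTargets.getD k 0))
      (monoCode (([transL, projL, twistL].map fun L => (List.range 24).map fun i => L.idxOf i).getD k []) 0)) = true ∧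
    ([transL, projL, twistL].all fun L => invB L ((List.range 24).map fun i => L.idxOf i)) = true ∧
    ((List.range 12).all fun k => Nat.beq (certM.get (certTargets.getD (k + 3) 0))
      (monoCode idL (golayBasis.getD k 0))) = true ∧
    (golayBasis.all fun b => inCode b) = true ∧ golayBasis.length = 12 := by decide +kernel

theorem target_mem {k : ℕ} (hk : k < 15) :
    ∃ x ∈ closure monoGens, codeQ x = certM.get (certTargets.getD k 0) := by
  obtain ⟨hr, hlen, hall, -⟩ := mono_nodes_ok
  obtain ⟨-, -, -, -, -, -, -, -, -, -, -, m0, m1, m2, m3, m4⟩ := codes_ok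
  have hmem : certTargets.getD k 0 ∈ certTargets := by
    rw [List.getD_eq_getElem _ _ (by omega)]; exact List.getElem_mem _
  refine node_mem (D := ⟨certM, certMD, certNM, certM, certM, certMD, 0, .leaf .none, 0, [], []⟩) _ m0 ?_
    (fun i hi => rangeB_get hr (by omega) (by simp [certNM] at hi ⊢; omega)) (by simpa [Nat.blt_eq] using List.all_eq_true.1 hall _ hmem)
  intro i hi
  interval_cases i
  · exact ⟨gOne 0, subset_closure (by simp [monoGens]), (codeQ_gOne 0).trans m1.symm⟩
  · exact ⟨gOne 1, subset_closure (by simp [monoGens]), (codeQ_gOne 1).trans m2.symm⟩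
  · exact ⟨gOne 3, subset_closure (by simp [monoGens]), (codeQ_gOne 3).trans m3.symm⟩
  · exact ⟨nOne, subset_closure (by simp [monoGens]), codeQ_nOne.trans m4.symm⟩

theorem gensList_mem : ∀ L ∈ [transL, projL, twistL], ∀ h : m24Test L = true,
    monoEl L 0 h perms_ok.2.2.2.2.2.2.2.2.1 ∈ closure monoGens := by
  intro L hL h
  obtain ⟨k, hk, rfl⟩ := List.getElem_of_mem hL
  obtain ⟨-, -, -, hc, hi, -⟩ := mono_nodes_ok
  simp only [List.all_eq_true, List.mem_range, Nat.beq_eq] at hc hi
  have hk3 : k < 3 := by simpa using hk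
  obtain ⟨x, hx, e⟩ := target_mem (k := k) (by omega)
  have e2 := codeQ_monoEl h perms_ok.2.2.2.2.2.2.2.2.1 (hi _ (List.getElem_mem hk))
  rw [hc k hk3] at e
  rw [List.getD_eq_getElem _ _ (by simpa using hk3), List.getElem_map] at e
  rwa [← codeQ_inj (e.trans e2.symm)]

theorem permAut_mem {σ : Equiv.Perm GolayPt} (hσ : σ ∈ M24) :
    mkOne (monoAut σ hσ ∅ codeSet_empty) ∈ closure monoGens := by
  let ψ : M24 →* Spor.Co1 :=
    MonoidHom.mk' (fun τ => mkOne (monoAut τ.1 τ.2 ∅ codeSet_empty)) fun a b => by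
      rw [← map_mul, monoAut_mul]
      exact congrArg mkOne (monoAut_congr rfl (by simp))
  let M' : Subgroup (Equiv.Perm GolayPt) := ((closure monoGens).comap ψ).map (M24).subtype
  have hM : M24 ≤ M' := by
    refine M24_le_of_gens fun L hL => ?_
    have hL' : L ∈ [transL, projL, twistL] := by
      rw [show m24ChainGens = [transL, projL, twistL] by decide +kernel] at hL; exact hL
    have ht : m24Test L = true := by
      obtain ⟨-, -, -, -, t1, t2, t3, -⟩ := perms_ok
      simp only [List.mem_cons, List.not_mem_nil, or_false] at hL'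
      rcases hL' with rfl | rfl | rfl <;> assumption
    refine ⟨⟨_, mem_M24_of_test ht⟩, ?_, rfl⟩
    have key := gensList_mem L hL' ht
    rw [monoEl, monoAut_congr (hσ' := mem_M24_of_test ht) (hc' := codeSet_empty) rfl
      (show toSet 0 = ∅ by ext p; simp [mem_toSet])] at key
    exact key
  obtain ⟨⟨τ, hτ⟩, h, e⟩ := hM hσ
  cases e
  exact h

theorem signAut_mem : ∀ {n : ℕ}, n ∈ golayList → ∀ hc : CodeSet (toSet n),
    mkOne (monoAut 1 (one_mem M24) (toSet n) hc) ∈ closure monoGens := by
  intro n hn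
  refine (spanList_induction (P := fun n => n ∈ golayList ∧ ∀ hc : CodeSet (toSet n),
    mkOne (monoAut 1 (one_mem M24) (toSet n) hc) ∈ closure monoGens) ⟨zero_mem_spanList _, fun hc => ?_⟩
    (fun b hb m hm => ⟨xor_mem_spanList (mem_spanList_self hb) hm.1, fun hc => ?_⟩) n hn).2
  · rw [monoAut_congr (hσ' := one_mem M24) (hc' := codeSet_empty) rfl (show toSet 0 = ∅ by ext p; simp [mem_toSet]),
      monoAut_one, map_one]
    exact one_mem _
  · obtain ⟨-, -, -, -, -, hs, hcode, hlen⟩ := mono_nodes_ok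
    simp only [List.all_eq_true, List.mem_range, Nat.beq_eq] at hs hcode
    obtain ⟨k, hk, rfl⟩ := List.getElem_of_mem hb
    obtain ⟨x, hx, e⟩ := target_mem (k := k + 3) (by omega)
    rw [hs k (by omega), List.getD_eq_getElem _ _ hk] at e
    have hbm : mkOne (monoAut 1 (one_mem M24) (toSet golayBasis[k]) (codeSet_of_inCode (hcode _ hb))) ∈
        closure monoGens := by
      have e2 := codeQ_monoEl perms_ok.1 (hcode _ hb) codes_ok.2.2.2.2.2.2.2.2.2.1
      have := codeQ_inj (e.trans e2.symm)
      rw [monoEl, monoAut_congr (hσ' := one_mem M24) (hc' := codeSet_of_inCode (hcode _ hb)) permOf_id rfl] at this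
      rwa [← this]
    have hcm : CodeSet (toSet m) := mem_supports.2 ⟨m, hm.1, rfl⟩
    have key := mul_mem hbm (hm.2 hcm)
    rw [← map_mul, monoAut_mul, monoAut_congr (hσ' := one_mem M24) (hc' := hc) (one_mul 1)
      (by rw [one_smul, toSet_xor])] at key
    exact key

theorem closure_monoGens : closure monoGens = Nm := by
  refine le_antisymm ((closure_le _).2 ?_) ?_
  · intro x hx
    simp only [monoGens, Set.mem_insert_iff, Set.mem_singleton_iff] at hx
    rcases hx with rfl | rfl | rfl | rfl
    · exact monoEl_mem (L := perm1L) perms_ok.2.1 perms_ok.2.2.2.2.2.2.2.2.1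
    · exact monoEl_mem (L := perm2L) perms_ok.2.2.1 perms_ok.2.2.2.2.2.2.2.2.1
    · exact monoEl_mem perms_ok.1 perms_ok.2.2.2.2.2.2.2.1
    · exact nOne_mem
  · rintro _ ⟨g, hg, rfl⟩
    obtain ⟨σ, hσ, c, hc, rfl⟩ := exists_monoAut_of_mem hg
    obtain ⟨n, hn, rfl⟩ := mem_supports.1 hc
    have key := mul_mem (signAut_mem hn hc) (permAut_mem hσ)
    rw [← map_mul, monoAut_mul, monoAut_congr (hσ' := hσ) (hc' := hc) (one_mul σ)
      (by rw [one_smul, ← Finset.bot_eq_empty, symmDiff_bot])] at key
    exact key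

theorem sext_entries : (imgList sextM ((List.range 24).map fun i => if i = 23 then 8 else 0)).getD 23 0 ≠ 0 ∧
    (imgList sextM ((List.range 24).map fun i => if i = 23 then 8 else 0)).getD 0 0 ≠ 0 := by decide +kernel

theorem sextAut_not_mono : sextAut ∉ crossStab := by
  intro h
  have hv : ((axisPt 23 : leechLattice) : GolayPt → ℤ) = toVec ((List.range 24).map fun i => if i = 23 then 8 else 0) :=
    by
      rw [axisPt, coe_axisVec]
      funext p
      rw [toVec_range]
      by_cases e : p = pt 23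
      · subst e; rw [Pi.single_eq_same, ptEquiv_pt (by norm_num)]; simp
      · rw [Pi.single_eq_of_ne e, if_neg]
        exact fun e' => e (by rw [← e', pt_ptEquiv])
  obtain ⟨p, t, -, he⟩ := (mem_crossStab_iff _).1 h (axisPt 23) ⟨pt 23, 8, Or.inl rfl, by rw [axisPt, coe_axisVec]⟩
  rw [sextAut, coe_matAut_smul, hv, applyMat_toVec] at he
  have key : ∀ q, q < 24 → (imgList sextM ((List.range 24).map fun i => if i = 23 then 8 else 0)).getD q 0 ≠ 0 →
      p = pt q := by
    intro q hq hne
    by_contra hp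
    have := congrFun he (pt q)
    rw [toVec_pt _ hq, Pi.single_eq_of_ne (Ne.symm hp)] at this
    exact hne this
  have e := (key 23 (by norm_num) sext_entries.1).symm.trans (key 0 (by norm_num) sext_entries.2)
  have := congrArg (fun q => (ptEquiv q).val) e
  simp only [ptEquiv_pt (show 23 < 24 by norm_num), ptEquiv_pt (show 0 < 24 by norm_num)] at this
  omega

/-- The centraliser and the further element generate the whole group. -/
theorem closure_all : closure ((Cm : Set Spor.Co1) ∪ {nOne}) = ⊤ := by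
  set Y := closure ((Cm : Set Spor.Co1) ∪ {nOne})
  have hN : Nm ≤ Y := by
    rw [← closure_monoGens]
    refine (closure_le _).2 fun x hx => ?_
    simp only [monoGens, Set.mem_insert_iff, Set.mem_singleton_iff] at hx
    rcases hx with rfl | rfl | rfl | rfl
    · exact subset_closure (Or.inl (gOne_mem 0))
    · exact subset_closure (Or.inl (gOne_mem 1))
    · exact subset_closure (Or.inl (gOne_mem 3))
    · exact subset_closure (Or.inr rfl)
  have hlt : crossStab < Y.comap mkOne := by
    refine lt_of_le_of_ne (fun g hg => hN (mem_map_of_mem _ hg)) fun e => sextAut_not_mono ?_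
    rw [e]
    exact subset_closure (Or.inl (gOne_mem 2))
  have h := crossStab_isCoatom.2 _ hlt
  rw [← map_comap_eq_self_of_surjective (QuotientGroup.mk'_surjective _) Y]
  rw [show Y.comap (QuotientGroup.mk' (center Co0)) = ⊤ from h, map_top_of_surjective _ (QuotientGroup.mk'_surjective _)]

end CfsgLib.CoOneRec
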