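import Cfsg.Agent.Lib.CoOneRec.CertHolds

/-!
# A group with the amalgam receives the first Conway group
-/

set_option autoImplicit false
set_option maxRecDepth 100000

namespace CfsgLib.CoOneRec

open Subgroup Cfsg CfsgLib.Leech.CoOne

variable {G : Type*} [Group G] [Finite G] {z : G} (A : Amal z)

/-- The group generated in the product. -/
noncomputable def pairGrp : Subgroup (Spor.Co1 × G) := closure (Set.range (pairHom A) ∪ {pairN A})

theorem complete : certDat.Complete certReps where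
  lt := by decide +kernel
  first := sizes_ok.2.2.2.2.1
  nonempty := by rw [sizes_ok.2.2.2.2.2]; norm_num
  moves l := by
    fin_cases l
    · exact ⟨_, moves_ok0⟩
    · exact ⟨_, moves_ok1⟩
    · exact ⟨_, moves_ok2⟩
    · exact ⟨_, moves_ok3⟩
  cover k hk := by
    have hk' : k < 11 := hk
    interval_cases k
    · exact ⟨_, cover_ok0⟩
    · exact ⟨_, cover_ok1⟩
    · exact ⟨_, cover_ok2⟩
    · exact ⟨_, cover_ok3⟩
    · exact ⟨_, cover_ok4⟩
    · exact ⟨_, cover_ok5⟩
    · exact ⟨_, cover_ok6⟩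
    · exact ⟨_, cover_ok7⟩
    · exact ⟨_, cover_ok8⟩
    · exact ⟨_, cover_ok9⟩
    · exact ⟨_, cover_ok10⟩

theorem card_pairGrp : Nat.card (pairGrp A) ≤ 4157776806543360000 := by
  classical
  haveI := finite_one
  haveI : Finite (Cm : Subgroup Spor.Co1) := inferInstance
  have H := holds A
  have hlen : certDat.base.length = 11 := sizes_ok.2.2.2.1
  have hsub := H.closure_le complete (by rw [hlen]; norm_num)
  have h1 : Nat.card (pairGrp A) ≤ ∑ k ∈ Finset.range 11, (certDat.dbl cmModel (pairHom A) (pairN A) k).ncard := by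
    rw [← hlen]
    exact (le_of_eq (Nat.card_coe_set_eq _)).trans
      ((Set.ncard_le_ncard hsub (Set.toFinite _)).trans (Finset.set_ncard_biUnion_le _ _))
  have h0 : (certDat.dbl cmModel (pairHom A) (pairN A) 0).ncard ≤ 89181388800 := by
    have hs : certDat.dbl cmModel (pairHom A) (pairN A) 0 ⊆ Set.range (pairHom A) := by
      rintro _ ⟨p, c, rfl⟩
      exact ⟨p * c, by rw [H.base]; simp [Dat.baseVal]⟩
    refine (Set.ncard_le_ncard hs (Set.toFinite _)).trans ?_
    rw [← Nat.card_coe_set_eq, ← card_Cm]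
    exact Finite.card_range_le _
  have hp := sizes_ok.2.2.1
  simp only [List.all_eq_true, Nat.blt_eq] at hp
  have hb : ∀ (k : ℕ) (L : List (ℕ × List ℕ)), chainB (certDat.factCode k) [] L = true → 0 < chainSize L →
      (certDat.dbl cmModel (pairHom A) (pairN A) k).ncard ≤ 89181388800 * (89181388800 / chainSize L) := by
    intro k L h hN
    have := H.card_dbl_le (k := k) h hN
    rwa [card_Cm] at this
  have b1 := hb 1 _ stab_ok1 (hp _ (by simp))
  have b2 := hb 2 _ stab_ok2 (hp _ (by simp))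
  have b3 := hb 3 _ stab_ok3 (hp _ (by simp))
  have b4 := hb 4 _ stab_ok4 (hp _ (by simp))
  have b5 := hb 5 _ stab_ok5 (hp _ (by simp))
  have b6 := hb 6 _ stab_ok6 (hp _ (by simp))
  have b7 := hb 7 _ stab_ok7 (hp _ (by simp))
  have b8 := hb 8 _ stab_ok8 (hp _ (by simp))
  have b9 := hb 9 _ stab_ok9 (hp _ (by simp))
  have b10 := hb 10 _ stab_ok10 (hp _ (by simp))
  have hs := sizes_ok.2.1
  simp only [List.map_cons, List.map_nil, List.sum_cons, List.sum_nil, add_zero] at hs
  simp only [Finset.sum_range_succ, Finset.sum_range_zero, zero_add] at h1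
  nlinarith

theorem mem_pairGrp_C (c : Cm) : pairHom A c ∈ pairGrp A := subset_closure (Or.inl ⟨c, rfl⟩)

theorem mem_pairGrp_N (n : Nm) : ((n : Spor.Co1), A.iN n) ∈ pairGrp A := by
  let φ : Nm →* Spor.Co1 × G := Nm.subtype.prod A.iN
  have key : ∀ x (hx : x ∈ Nm), x ∈ ((pairGrp A).comap φ).map Nm.subtype := by
    intro x hx
    rw [← closure_monoGens] at hx
    refine (closure_le _).2 ?_ hx
    intro y hy
    simp only [monoGens, Set.mem_insert_iff, Set.mem_singleton_iff] at hy
    have hC : ∀ i : Fin 4, ∀ hN : gOne i ∈ Nm, φ ⟨gOne i, hN⟩ ∈ pairGrp A := fun i hN => by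
      have := mem_pairGrp_C A ⟨gOne i, gOne_mem i⟩
      rwa [pairHom, MonoidHom.prod_apply, A.agree _ (gOne_mem i) hN] at this
    have hN : ∀ x ∈ monoGens, x ∈ Nm := fun x hx => closure_monoGens ▸ subset_closure hx
    rcases hy with rfl | rfl | rfl | rfl
    · exact ⟨⟨_, hN _ (by simp [monoGens])⟩, hC 0 _, rfl⟩
    · exact ⟨⟨_, hN _ (by simp [monoGens])⟩, hC 1 _, rfl⟩
    · exact ⟨⟨_, hN _ (by simp [monoGens])⟩, hC 3 _, rfl⟩
    · exact ⟨⟨_, nOne_mem⟩, subset_closure (Or.inr rfl), rfl⟩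
  obtain ⟨m, hm, e⟩ := key n n.2
  obtain rfl : m = n := Subtype.ext e
  exact hm

/-- A group with the amalgam contains the first Conway group, compatibly. -/
theorem exists_hom : ∃ f : Spor.Co1 →* G, Function.Injective f ∧ (∀ c : Cm, f c = A.iC c) ∧
    ∀ n : Nm, f n = A.iN n := by
  haveI := finite_one
  set p : pairGrp A →* Spor.Co1 := (MonoidHom.fst Spor.Co1 G).comp (pairGrp A).subtype with hp
  have hsurj : Function.Surjective p := by
    rw [← MonoidHom.range_eq_top, eq_top_iff, ← closure_all, closure_le]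
    rintro x (hx | hx)
    · exact ⟨⟨_, mem_pairGrp_C A ⟨x, hx⟩⟩, rfl⟩
    · rw [Set.mem_singleton_iff] at hx
      exact ⟨⟨_, subset_closure (Or.inr rfl)⟩, hx.symm⟩
  have hcard : Nat.card (pairGrp A) ≤ Nat.card Spor.Co1 :=
    (card_pairGrp A).trans (le_of_eq CfsgLib.Leech.ConwaySimple.card_co1.symm)
  have hbij : Function.Bijective p := by
    have := Nat.card_le_card_of_surjective p hsurj
    exact hsurj.bijective_of_nat_card_le hcard
  let e := MulEquiv.ofBijective p hbij
  let f : Spor.Co1 →* G := ((MonoidHom.snd Spor.Co1 G).comp (pairGrp A).subtype).comp e.symm.toMonoidHom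
  have hf : ∀ w : pairGrp A, f (w : Spor.Co1 × G).1 = (w : Spor.Co1 × G).2 := fun w => by
    show ((e.symm (p w) : pairGrp A) : Spor.Co1 × G).2 = _
    rw [show e.symm (p w) = w from e.symm_apply_apply w]
  have hC : ∀ c : Cm, f c = A.iC c := fun c => hf ⟨_, mem_pairGrp_C A c⟩
  refine ⟨f, ?_, hC, fun n => hf ⟨_, mem_pairGrp_N A n⟩⟩
  haveI : IsSimpleGroup Spor.Co1 := CfsgLib.Leech.ConwaySimple.isCo1.1
  rw [← MonoidHom.ker_eq_bot_iff]
  rcases (inferInstance : f.ker.Normal).eq_bot_or_eq_top with h | h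
  · exact h
  · exfalso
    have h1 : A.iC ⟨zOne, mem_centralizer_singleton_iff.2 rfl⟩ = 1 :=
      (hC ⟨zOne, mem_centralizer_singleton_iff.2 rfl⟩).symm.trans (MonoidHom.mem_ker.1 (h ▸ mem_top _))
    have := A.injC (h1.trans (map_one _).symm)
    exact zOne_ne_one (congrArg Subtype.val this)

end CfsgLib.CoOneRec
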