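import Cfsg.Agent.Lib.CoOneRec.MinScanDefs
import Cfsg.Agent.Lib.Leech.Orbits
import Cfsg.Agent.Lib.Leech.CoTwo.LatMat

/-!
The scan of the minimal vectors is complete.
-/

set_option autoImplicit false
set_option maxRecDepth 100000

namespace CfsgLib.CoOneRec.MinScan

open Cfsg CfsgLib.Golay CfsgLib.Leech CfsgLib.Leech.CoTwo

theorem eqZ_spec : ∀ {a b : ℤ}, eqZ a b = true ↔ a = b
  | .ofNat a, .ofNat b => by simp [eqZ]
  | .negSucc a, .negSucc b => by simp [eqZ]
  | .ofNat _, .negSucc _ => by simp [eqZ]
  | .negSucc _, .ofNat _ => by simp [eqZ]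

theorem eqZL_spec : ∀ {a b : List ℤ}, eqZL a b = true → a = b
  | [], [], _ => rfl
  | [], _ :: _, h => Bool.noConfusion h
  | _ :: _, [], h => Bool.noConfusion h
  | x :: a, y :: b, h => by
    have h' : (eqZ x y && eqZL a b) = true := h
    rw [Bool.and_eq_true] at h'
    rw [eqZ_spec.1 h'.1, eqZL_spec h'.2]

theorem allL_spec {α : Type} {f : α → Bool} : ∀ {l : List α}, allL f l = true → ∀ a ∈ l, f a = true
  | [], _, a, ha => by simp at ha
  | b :: l, h, a, ha => by
    have h' : (f b && allL f l) = true := h
    rw [Bool.and_eq_true] at h'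
    rcases List.mem_cons.1 ha with rfl | ha
    · exact h'.1
    · exact allL_spec h'.2 a ha

theorem any_spec {sol : List (List ℤ)} {a : List ℤ} (h : sol.any (eqZL a) = true) : a ∈ sol := by
  obtain ⟨l, hl, e⟩ := List.any_eq_true.1 h
  exact eqZL_spec e ▸ hl

/-- The value of the functional on a vector given by its coordinates. -/
theorem dot_toVec_fun (w : List ℤ) (f : ℕ → ℤ) :
    dotInt (toVec w) (toVec ((List.range 24).map f)) = ∑ p ∈ Finset.range 24, w.getD p 0 * f p := by
  rw [dotInt_toVec, dotL, ← List.toFinset_range, List.sum_toFinset _ List.nodup_range]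
  refine congrArg List.sum (List.map_congr_left fun i hi => ?_)
  rw [List.getD_eq_getElem ((List.range 24).map f) 0 (by simpa using List.mem_range.1 hi)]
  simp

theorem maskSum_eq (c : ℕ) : ∀ (w : List ℤ) (k : ℕ),
    maskSum c w k = ∑ j ∈ Finset.range w.length, if c.testBit (k + j) then w.getD j 0 else 0
  | [], k => by rfl
  | x :: w, k => by
    show cond (c.testBit k) (x + maskSum c w (k + 1)) (maskSum c w (k + 1)) = _
    rw [List.length_cons, Finset.sum_range_succ', maskSum_eq c w (k + 1)]
    simp only [List.getD_cons_succ, List.getD_cons_zero, add_zero]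
    have e : (∑ j ∈ Finset.range w.length, if c.testBit (k + 1 + j) = true then w.getD j 0 else 0) =
        ∑ j ∈ Finset.range w.length, if c.testBit (k + (j + 1)) = true then w.getD j 0 else 0 :=
      Finset.sum_congr rfl fun j _ => by rw [Nat.add_assoc, Nat.add_comm 1 j]
    rw [e]
    cases c.testBit k <;> simp [add_comm]

theorem oddScan_spec {target base : ℤ} {c : ℕ} {sol : List (List ℤ)} : ∀ (w : List ℤ) (k : ℕ),
    oddScan w target base c sol k = true → ∀ j < w.length,
      (if c.testBit (k + j) then base + 4 * w.getD j 0 else base - 4 * w.getD j 0) = target →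
        oddVec c (k + j) ∈ sol
  | [], k, _, j, hj, _ => by simp at hj
  | x :: w, k, h, j, hj, e => by
    have h' : ((!eqZ (cond (c.testBit k) (base + 4 * x) (base - 4 * x)) target ||
        sol.any (eqZL (oddVec c k))) && oddScan w target base c sol (k + 1)) = true := h
    simp only [Bool.and_eq_true, Bool.or_eq_true, Bool.not_eq_true'] at h'
    rcases j with _ | j
    · simp only [add_zero, List.getD_cons_zero] at e ⊢
      refine any_spec (h'.1.resolve_left fun h0 => ?_)
      rw [Bool.cond_eq_ite, eqZ_spec.2 e] at h0
      exact Bool.noConfusion h0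
    · rw [show k + (j + 1) = k + 1 + j by omega] at e ⊢
      rw [List.getD_cons_succ] at e
      exact oddScan_spec w (k + 1) h'.2 j (by simpa using hj) e

/-- The mask of the positions with a negative entry. -/
def negMask (f : ℕ → Bool) : List ℕ → ℕ → ℕ :=
  fun l n => l.foldl (fun n p => if f p then n ||| 2 ^ p else n) n

theorem testBit_negMask (f : ℕ → Bool) : ∀ (l : List ℕ) (n p : ℕ),
    (negMask f l n).testBit p = true ↔ n.testBit p = true ∨ p ∈ l ∧ f p = true
  | [], n, p => by simp [negMask]
  | q :: l, n, p => by
    show (negMask f l _).testBit p = true ↔ _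
    rw [testBit_negMask f l]
    by_cases hq : f q = true
    · simp only [hq, if_true, Nat.testBit_lor, Nat.testBit_two_pow, Bool.or_eq_true, decide_eq_true_eq,
        List.mem_cons]
      constructor
      · rintro ((h | rfl) | h)
        exacts [Or.inl h, Or.inr ⟨Or.inl rfl, hq⟩, Or.inr ⟨Or.inr h.1, h.2⟩]
      · rintro (h | ⟨rfl | h, h'⟩)
        exacts [Or.inl (Or.inl h), Or.inl (Or.inr rfl), Or.inr ⟨h, h'⟩]
    · simp only [hq, if_false, List.mem_cons]
      constructor
      · rintro (h | h)
        exacts [Or.inl h, Or.inr ⟨Or.inr h.1, h.2⟩]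
      · rintro (h | ⟨rfl | h, h'⟩)
        exacts [Or.inl h, absurd h' hq, Or.inr ⟨h, h'⟩]

theorem octScan_spec {target : ℤ} {c : ℕ} {sol : List (List ℤ)} (f : ℕ → Bool) :
    ∀ (ps : List (ℕ × ℤ)) (acc : ℤ) (n : ℕ) (odd : Bool), octScan target c sol ps acc n odd = true →
      (odd.toNat + (ps.filter fun p => f p.1).length) % 2 = 0 →
      acc + (ps.map fun p => if f p.1 then -(2 * p.2) else 2 * p.2).sum = target →
      octVec c (negMask f (ps.map (·.1)) n) ∈ sol
  | [], acc, n, odd, h, hpar, e => by
    have h' : (odd || (!eqZ acc target || sol.any (eqZL (octVec c n)))) = true := h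
    have ho : odd = false := by cases odd <;> simp_all
    subst ho
    simp only [List.map_nil, List.sum_nil, add_zero] at e
    simp only [Bool.false_or, eqZ_spec.2 e, Bool.not_true] at h'
    exact any_spec h'
  | p :: ps, acc, n, odd, h, hpar, e => by
    have h' : (octScan target c sol ps (acc + 2 * p.2) n odd &&
        octScan target c sol ps (acc - 2 * p.2) (n ||| 2 ^ p.1) (!odd)) = true := h
    rw [Bool.and_eq_true] at h'
    simp only [List.map_cons, List.sum_cons] at e ⊢
    show octVec c (negMask f (ps.map (·.1)) (if f p.1 then n ||| 2 ^ p.1 else n)) ∈ sol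
    by_cases hf : f p.1 = true
    · rw [if_pos hf] at e ⊢
      rw [List.filter_cons_of_pos (p := fun p : ℕ × ℤ => f p.1) hf, List.length_cons] at hpar
      refine octScan_spec f ps _ _ _ h'.2 ?_ (by rw [← e]; ring)
      cases odd <;> simp at hpar ⊢ <;> omega
    · rw [if_neg hf] at e ⊢
      rw [List.filter_cons_of_neg (p := fun p : ℕ × ℤ => f p.1) hf] at hpar
      exact octScan_spec f ps _ _ _ h'.1 hpar (by rw [← e]; ring)

/-- An odd minimal vector is `1 - 4` at one point with signs changed on a code word. -/
theorem odd_form {v : GolayPt → ℤ} (hv : v ∈ leechLattice) (hn : sqNorm v = 32) (hodd : v none % 2 = 1) :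
    ∃ c ∈ golayList, ∃ i < 24, v = toVec (oddVec c i) := by
  obtain ⟨D, hD, h1⟩ := exists_normal_odd hv hodd
  obtain ⟨c, hc, rfl⟩ := mem_supports.1 hD
  set u := signFlip (toSet c) v with hu
  have hs : ∑ p, (u p ^ 2 - 1) = 8 := by
    have h2 : sqNorm u = 32 := by
      rw [← hn]
      exact Finset.sum_congr rfl fun p _ => by simp only [hu, signFlip_apply]; split <;> ring
    rw [sum_sq_sub_one, h2]; norm_num
  have hnn : ∀ p, 0 ≤ u p ^ 2 - 1 := fun p => by
    have := h1 p
    have : u p ≠ 0 := by omega
    have := pow_two_pos_of_ne_zero this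
    omega
  have hval : ∀ p, u p = 1 ∨ u p = -3 := fun p => by
    have h2 := Finset.single_le_sum (fun q _ => hnn q) (Finset.mem_univ p)
    rw [hs] at h2
    have hle : -3 ≤ u p ∧ u p ≤ 3 := ⟨by nlinarith, by nlinarith⟩
    have := h1 p
    omega
  have hcnt : (Finset.univ.filter fun p => u p = -3).card = 1 := by
    have h8 : ∑ p, (u p ^ 2 - 1) = ∑ p, if u p = -3 then (8 : ℤ) else 0 :=
      Finset.sum_congr rfl fun p _ => by rcases hval p with h | h <;> rw [h] <;> norm_num
    rw [h8, ← Finset.sum_filter, Finset.sum_const, nsmul_eq_mul] at hs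
    omega
  obtain ⟨q, hq⟩ := Finset.card_eq_one.1 hcnt
  refine ⟨c, hc, (ptEquiv q).val, (ptEquiv q).isLt, ?_⟩
  funext p
  rw [oddVec, toVec_range]
  have hv' : v p = if p ∈ toSet c then -u p else u p := by
    simp only [hu, signFlip_apply]; split <;> simp
  have hp : u p = if (ptEquiv p).val = (ptEquiv q).val then -3 else 1 := by
    have hiff : u p = -3 ↔ p = q := by
      have := congrArg (fun s : Finset GolayPt => p ∈ s) hq
      simpa using this
    split
    · next h => exact hiff.2 (ptEquiv.injective (Fin.ext h))
    · next h =>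
      refine (hval p).resolve_right fun e => h ?_
      rw [hiff.1 e]
  rw [hv', hp]
  simp only [mem_toSet]
  split <;> split <;> simp

/-- An even minimal vector is `2` up to an even number of signs on an octad, or has two entries four. -/
theorem even_form {v : GolayPt → ℤ} (hv : v ∈ leechLattice) (hn : sqNorm v = 32) (hev : ¬ v none % 2 = 1) :
    (∃ c ∈ golayList, bitCount c = 8 ∧ (∀ p, p ∉ toSet c → v p = 0) ∧
      (∀ p ∈ toSet c, v p = 2 ∨ v p = -2) ∧
      Even ((toSet c).filter fun p => v p = -2).card) ∨
    (∃ j < 24, ∃ i < j, ∃ si sj, v = toVec (twoVec i j si sj)) := by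
  obtain ⟨C, hC, h2, h0⟩ := even_cases hv hev
  have hsplit := sqNorm_split v C
  rw [hn] at hsplit
  have hin : (4 : ℤ) * C.card ≤ ∑ p ∈ C, v p ^ 2 := by
    calc (4 : ℤ) * C.card = ∑ _p ∈ C, (4 : ℤ) := by simp [mul_comm]
      _ ≤ _ := Finset.sum_le_sum fun p hp => by
        have := h2 p hp
        rcases le_or_gt (v p) 0 with h | h
        · have : v p ≤ -2 := by omega
          nlinarith
        · have : 2 ≤ v p := by omega
          nlinarith
  have hout0 : 0 ≤ ∑ p ∈ Cᶜ, v p ^ 2 := Finset.sum_nonneg fun p _ => sq_nonneg _
  rcases codeSet_card hC with h | h | h | h | h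
  · -- two entries of absolute value four
    right
    rw [Finset.card_eq_zero.1 h] at h0
    have hd : ∀ p, ∃ k : ℤ, v p = 4 * k := fun p => ⟨v p / 4, by have := h0 p (by simp); omega⟩
    choose k hk using hd
    have hsum : ∑ p, k p ^ 2 = 2 := by
      have : sqNorm v = 16 * ∑ p, k p ^ 2 := by
        rw [Finset.mul_sum]; exact Finset.sum_congr rfl fun p _ => by rw [hk p]; ring
      omega
    have hk1 : ∀ p, k p = 0 ∨ k p = 1 ∨ k p = -1 := fun p => by
      have h2 := Finset.single_le_sum (fun q _ => sq_nonneg (k q)) (Finset.mem_univ p)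
      rw [hsum] at h2
      have : -1 ≤ k p ∧ k p ≤ 1 := ⟨by nlinarith, by nlinarith⟩
      omega
    have hcnt : (Finset.univ.filter fun p => k p ≠ 0).card = 2 := by
      have h8 : ∑ p, k p ^ 2 = ∑ p, if k p ≠ 0 then (1 : ℤ) else 0 :=
        Finset.sum_congr rfl fun p _ => by rcases hk1 p with h | h | h <;> rw [h] <;> norm_num
      rw [h8, ← Finset.sum_filter, Finset.sum_const, nsmul_eq_mul] at hsum
      omega
    obtain ⟨q, r, hqr, he⟩ := Finset.card_eq_two.1 hcnt
    obtain ⟨q, r, hlt, he⟩ : ∃ q r, (ptEquiv q).val < (ptEquiv r).val ∧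
        (Finset.univ.filter fun p => k p ≠ 0) = {q, r} := by
      rcases lt_trichotomy (ptEquiv q).val (ptEquiv r).val with h | h | h
      · exact ⟨q, r, h, he⟩
      · exact absurd (ptEquiv.injective (Fin.ext h)) hqr
      · exact ⟨r, q, h, by rw [he, Finset.pair_comm]⟩
    refine ⟨_, (ptEquiv r).isLt, _, hlt, decide (k q = -1), decide (k r = -1), funext fun p => ?_⟩
    rw [twoVec, toVec_range]
    have hmem : k p ≠ 0 ↔ p = q ∨ p = r := by
      have := congrArg (fun s : Finset GolayPt => p ∈ s) he
      simpa using this
    by_cases hp : p = q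
    · subst hp
      rw [if_pos rfl]
      have := hmem.2 (Or.inl rfl)
      rcases hk1 p with h | h | h
      · exact absurd h this
      · simp [hk p, h]
      · simp [hk p, h]
    · rw [if_neg fun h => hp (ptEquiv.injective (Fin.ext h))]
      by_cases hp' : p = r
      · subst hp'
        rw [if_pos rfl]
        have := hmem.2 (Or.inr rfl)
        rcases hk1 p with h | h | h
        · exact absurd h this
        · simp [hk p, h]
        · simp [hk p, h]
      · rw [if_neg fun h => hp' (ptEquiv.injective (Fin.ext h)), hk p]
        have : k p = 0 := by_contra fun h => (hmem.1 h).elim hp hp'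
        omega
  · left
    obtain ⟨c, hc, rfl⟩ := mem_supports.1 hC
    have hone : ∀ p ∈ toSet c, v p = 2 ∨ v p = -2 := by
      intro p hp
      have h4 : ∀ q ∈ toSet c, 0 ≤ v q ^ 2 - 4 := fun q hq => by
        have := h2 q hq
        rcases le_or_gt (v q) 0 with h | h
        · have : v q ≤ -2 := by omega
          nlinarith
        · have : 2 ≤ v q := by omega
          nlinarith
      have hle : v p ^ 2 - 4 ≤ ∑ q ∈ toSet c, (v q ^ 2 - 4) := Finset.single_le_sum h4 hp
      rw [Finset.sum_sub_distrib, Finset.sum_const, nsmul_eq_mul, h] at hle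
      have : v p ^ 2 ≤ 4 := by push_cast at hle; omega
      have hb : -2 ≤ v p ∧ v p ≤ 2 := ⟨by nlinarith, by nlinarith⟩
      have := h2 p hp
      omega
    have hzero : ∀ p, p ∉ toSet c → v p = 0 := by
      intro p hp
      have hle : v p ^ 2 ≤ ∑ q ∈ (toSet c)ᶜ, v q ^ 2 :=
        Finset.single_le_sum (fun q _ => sq_nonneg (v q)) (Finset.mem_compl.2 hp)
      rw [h] at hin
      have h0' : v p ^ 2 ≤ 0 := by push_cast at hin; omega
      exact pow_eq_zero_iff (two_ne_zero) |>.1 (le_antisymm h0' (sq_nonneg _))
    refine ⟨c, hc, by rw [← card_toSet, h], hzero, hone, ?_⟩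
    obtain ⟨m, hpar, hsum, -⟩ := mem_leechLattice_iff.1 hv
    have hm : m % 2 = 0 := by
      have := hpar none
      simp only [Int.ModEq] at this
      omega
    have hsum' : ∑ p, v p = 16 - 4 * ((toSet c).filter fun p => v p = -2).card := by
      rw [← Finset.sum_subset (Finset.subset_univ (toSet c)) fun p _ hp => hzero p hp]
      have : ∀ p ∈ toSet c, v p = 2 - if v p = -2 then 4 else 0 := fun p hp => by
        rcases hone p hp with h | h <;> rw [h] <;> norm_num
      rw [Finset.sum_congr rfl this, Finset.sum_sub_distrib, Finset.sum_const, ← Finset.sum_filter,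
        Finset.sum_const, nsmul_eq_mul, nsmul_eq_mul, h]
      ring
    rw [hsum'] at hsum
    simp only [Int.ModEq] at hsum
    rw [Nat.even_iff]
    omega
  all_goals (exfalso; rw [h] at hin; push_cast at hin; omega)

/-- The scan over the code in sixteen parts. -/
noncomputable def scanOk (w : List ℤ) (target : ℤ) (sol : List (List ℤ)) : Bool :=
  allL (fun acc => partScan w target sol acc) (spanList (golayBasis.take 4)) && twoScan w target sol

theorem word_of_parts {w : List ℤ} {target : ℤ} {sol : List (List ℤ)}
    (h : ∀ acc ∈ spanList (golayBasis.take 4), partScan w target sol acc = true) {c : ℕ} (hc : c ∈ golayList) :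
    wordScan w w.sum target sol c = true := by
  have hd : ∀ m ∈ golayList, ∃ a ∈ spanList (golayBasis.take 4), ∃ b ∈ spanList (golayBasis.drop 4), m = a ^^^ b := by
    intro m hm
    refine spanList_induction (P := fun m => ∃ a ∈ spanList (golayBasis.take 4),
      ∃ b ∈ spanList (golayBasis.drop 4), m = a ^^^ b)
      ⟨0, zero_mem_spanList _, 0, zero_mem_spanList _, rfl⟩ ?_ m hm
    rintro b hb m ⟨x, hx, y, hy, rfl⟩
    have hb' : b ∈ golayBasis.take 4 ∨ b ∈ golayBasis.drop 4 := by
      rw [← List.mem_append, List.take_append_drop]; exact hb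
    rcases hb' with hb' | hb'
    · exact ⟨b ^^^ x, xor_mem_spanList (mem_spanList_self hb') hx, y, hy, (Nat.xor_assoc _ _ _).symm⟩
    · exact ⟨x, hx, b ^^^ y, xor_mem_spanList (mem_spanList_self hb') hy, by
        rw [← Nat.xor_assoc, Nat.xor_comm b x, Nat.xor_assoc]⟩
  obtain ⟨x, hx, y, hy, rfl⟩ := hd c hc
  rw [Nat.xor_comm]
  exact allSpan_spec (h x hx) y hy

/-- The scan finds every minimal vector with the given value of the functional. -/
theorem scan_complete_parts {w : List ℤ} {target : ℤ} {sol : List (List ℤ)} (hl : w.length = 24)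
    (hp : ∀ acc ∈ spanList (golayBasis.take 4), partScan w target sol acc = true)
    (ht : twoScan w target sol = true) {v : GolayPt → ℤ} (hv : v ∈ leechLattice) (hn : sqNorm v = 32)
    (hd : dotInt (toVec w) v = target) : ∃ l ∈ sol, v = toVec l := by
  have hS : w.sum = ∑ p ∈ Finset.range 24, w.getD p 0 := by
    rw [← List.toFinset_range, List.sum_toFinset _ List.nodup_range]
    refine congrArg List.sum (List.ext_getElem (by simp [hl]) fun n h1 h2 => ?_)
    rw [List.getElem_map, List.getElem_range, List.getD_eq_getElem _ _ h1]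
  by_cases hodd : v none % 2 = 1
  · obtain ⟨c, hc, i, hi, rfl⟩ := odd_form hv hn hodd
    refine ⟨_, ?_, rfl⟩
    have h := word_of_parts hp hc
    simp only [wordScan, Bool.and_eq_true] at h
    have h' := oddScan_spec w 0 h.1 i (hl ▸ hi)
    rw [zero_add] at h'
    refine h' ?_
    rw [oddVec, dot_toVec_fun] at hd
    rw [← hd, maskSum_eq, hl, hS, Finset.mul_sum, ← Finset.sum_sub_distrib]
    simp only [zero_add]
    have hi' : i ∈ Finset.range 24 := Finset.mem_range.2 hi
    rw [← Finset.add_sum_erase _ _ hi', ← Finset.add_sum_erase _ _ hi',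
      Finset.sum_congr rfl (s₁ := (Finset.range 24).erase i)
        (f := fun p => w.getD p 0 * if c.testBit p then (if p = i then 3 else -1) else (if p = i then -3 else 1))
        (g := fun p => w.getD p 0 - 2 * if c.testBit p then w.getD p 0 else 0) ?_]
    · cases c.testBit i <;> simp <;> ring
    · intro p hp
      rw [if_neg (Finset.ne_of_mem_erase hp), if_neg (Finset.ne_of_mem_erase hp)]
      split <;> ring
  · rcases even_form hv hn hodd with ⟨c, hc, hw, hzero, hone, heven⟩ | ⟨j, hj, i, hij, si, sj, rfl⟩
    · have h := word_of_parts hp hc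
      simp only [wordScan, Bool.and_eq_true, hw, Nat.beq_refl, Bool.not_true, Bool.false_or] at h
      set f : ℕ → Bool := fun p => decide (v (pt p) = -2) with hf
      have hnd : (maskPos c).Nodup := List.nodup_range.filter _
      have hmp : ∀ p, p ∈ maskPos c ↔ p < 24 ∧ c.testBit p = true := by simp [maskPos]
      have hpos : (maskPos c).toFinset = (Finset.range 24).filter fun p => c.testBit p = true := by
        ext p; simp [hmp]
      have h' := octScan_spec f _ _ _ _ h.2 ?_ ?_
      · refine ⟨_, h', funext fun p => ?_⟩
        rw [octVec, toVec_range]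
        have hp24 := (ptEquiv p).isLt
        split
        · next hb =>
          have hbit : (negMask f (((maskPos c).map fun q => (q, w.getD q 0)).map (·.1)) 0).testBit
              (ptEquiv p).val = true ↔ v p = -2 := by
            rw [testBit_negMask, List.map_map]
            simp [Function.comp_def, hmp, hb, hf, pt_ptEquiv, hp24]
          split
          · next hn' => exact hbit.1 hn'
          · next hn' =>
            exact (hone p (mem_toSet.2 hb)).resolve_right fun e => hn' (hbit.2 e)
        · next hb => exact hzero p fun hm => hb (mem_toSet.1 hm)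
      · rw [List.filter_map, List.length_map]
        simp only [Function.comp_def, Bool.toNat_false, zero_add]
        have hcard : ((maskPos c).filter fun p => f p).length = ((toSet c).filter fun p => v p = -2).card := by
          rw [← List.toFinset_card_of_nodup (hnd.filter _)]
          refine Finset.card_bij (fun q _ => pt q) ?_ ?_ ?_
          · intro q hq
            simp only [List.mem_toFinset, List.mem_filter, hmp, hf, decide_eq_true_eq] at hq
            exact Finset.mem_filter.2 ⟨(pt_mem_toSet hq.1.1).2 hq.1.2, hq.2⟩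
          · intro a ha b hb e
            simp only [List.mem_toFinset, List.mem_filter, hmp] at ha hb
            rw [← ptEquiv_pt ha.1.1, ← ptEquiv_pt hb.1.1, e]
          · intro p hp
            rw [Finset.mem_filter] at hp
            refine ⟨(ptEquiv p).val, ?_, pt_ptEquiv p⟩
            simp only [List.mem_toFinset, List.mem_filter, hmp, hf, decide_eq_true_eq, pt_ptEquiv]
            exact ⟨⟨(ptEquiv p).isLt, mem_toSet.1 hp.1⟩, hp.2⟩
        rw [hcard]
        exact Nat.even_iff.1 heven
      · have hvl : v = toVec ((List.range 24).map fun p => v (pt p)) := by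
          funext p; rw [toVec_range, pt_ptEquiv]
        rw [hvl, dot_toVec_fun] at hd
        rw [← hd, List.map_map, ← List.sum_toFinset _ hnd, hpos, Finset.sum_filter, zero_add]
        refine Finset.sum_congr rfl fun p hp => ?_
        have hp24 := Finset.mem_range.1 hp
        show (if c.testBit p = true then (if f p = true then -(2 * w.getD p 0) else 2 * w.getD p 0) else 0) = _
        split
        · next hb =>
          rcases hone _ ((pt_mem_toSet hp24).2 hb) with h2 | h2 <;> simp [hf, h2] <;> ring
        · next hb => rw [hzero _ fun hm => hb ((pt_mem_toSet hp24).1 hm), mul_zero]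
    · have h := allL_spec (allL_spec (allL_spec (allL_spec ht j (List.mem_range.2 hj)) i
        (List.mem_range.2 hij)) si (by cases si <;> simp)) sj (by cases sj <;> simp)
      simp only [Bool.or_eq_true, Bool.not_eq_true'] at h
      refine ⟨_, any_spec (h.resolve_left fun h0 => ?_), rfl⟩
      rw [twoVec, dot_toVec_fun] at hd
      have hi24 : i < 24 := by omega
      rw [← Finset.sum_subset (s₁ := {i, j})
        (by simp [Finset.insert_subset_iff, hj, hi24]) fun p _ hp => by
          simp only [Finset.mem_insert, Finset.mem_singleton, not_or] at hp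
          simp [hp.1, hp.2], Finset.sum_pair (by omega)] at hd
      have e : cond si (-4) 4 * w.getD i 0 + cond sj (-4) 4 * w.getD j 0 = target := by
        rw [← hd]
        cases si <;> cases sj <;> simp [show j ≠ i by omega] <;> ring
      rw [eqZ_spec.2 e] at h0
      exact Bool.noConfusion h0

/-- The scan finds every minimal vector with the given value of the functional. -/
theorem scan_complete {w : List ℤ} {target : ℤ} {sol : List (List ℤ)} (hl : w.length = 24)
    (h : scanOk w target sol = true) {v : GolayPt → ℤ} (hv : v ∈ leechLattice) (hn : sqNorm v = 32)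
    (hd : dotInt (toVec w) v = target) : ∃ l ∈ sol, v = toVec l := by
  simp only [scanOk, Bool.and_eq_true] at h
  exact scan_complete_parts hl (allL_spec h.1) h.2 hv hn hd

/-- Several functionals folded into one. -/
def combine (R : ℤ) : List (List ℤ) → List ℤ
  | [] => (List.range 24).map fun _ => 0
  | w :: ws => (List.range 24).map fun p => w.getD p 0 + R * (combine R ws).getD p 0

/-- The folded value. -/
def combineT (R : ℤ) : List ℤ → ℤ
  | [] => 0
  | t :: ts => t + R * combineT R ts

theorem combine_length (R : ℤ) (ws : List (List ℤ)) : (combine R ws).length = 24 := by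
  cases ws <;> simp [combine]

theorem dotInt_combine (R : ℤ) {v : GolayPt → ℤ} : ∀ {ws : List (List ℤ)} {ts : List ℤ},
    List.Forall₂ (fun w t => dotInt (toVec w) v = t) ws ts → dotInt (toVec (combine R ws)) v = combineT R ts
  | [], [], _ => Finset.sum_eq_zero fun p _ => by
      rw [combine, toVec_range, zero_mul]
  | w :: ws, t :: ts, .cons h hs => by
    have ih := dotInt_combine R hs
    have e : ∀ p, toVec (combine R (w :: ws)) p = toVec w p + R * toVec (combine R ws) p := fun p => by
      rw [combine, toVec_range]; rfl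
    show ∑ p, toVec (combine R (w :: ws)) p * v p = t + R * combineT R ts
    rw [← h, ← ih, dotInt, dotInt, Finset.mul_sum, ← Finset.sum_add_distrib]
    exact Finset.sum_congr rfl fun p _ => by rw [e]; ring

end CfsgLib.CoOneRec.MinScan
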