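import Cfsg.Agent.Lib.Golay.Code

/-!
A scan of the minimal vectors for those with a given value of an integer functional.
-/

set_option autoImplicit false

namespace CfsgLib.CoOneRec.MinScan

open CfsgLib.Golay

/-- Conjunction over a list. -/
noncomputable def allL {α : Type} (f : α → Bool) (l : List α) : Bool :=
  List.rec true (fun a _ r => f a && r) l

/-- Equality of integers. -/
def eqZ : ℤ → ℤ → Bool
  | .ofNat a, .ofNat b => Nat.beq a b
  | .negSucc a, .negSucc b => Nat.beq a b
  | _, _ => false

/-- Equality of integer lists. -/
noncomputable def eqZL (a : List ℤ) : List ℤ → Bool :=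
  List.rec (fun b => b.isEmpty)
    (fun x _ r b => List.rec false (fun y b' _ => eqZ x y && r b') b) a

/-- The sum of the weights on a mask, from position `i` on. -/
noncomputable def maskSum (c : ℕ) (w : List ℤ) : ℕ → ℤ :=
  List.rec (fun _ => 0) (fun x _ r i => cond (c.testBit i) (x + r (i + 1)) (r (i + 1))) w

/-- An odd minimal vector: `1 - 4` at `i`, signs changed on the mask. -/
def oddVec (c i : ℕ) : List ℤ :=
  (List.range 24).map fun p =>
    if c.testBit p then (if p = i then 3 else -1) else (if p = i then -3 else 1)

/-- The positions of a mask. -/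
def maskPos (c : ℕ) : List ℕ := (List.range 24).filter fun p => c.testBit p

/-- An even vector on eight points: `-2` where `n` has a bit, else `2` on the mask. -/
def octVec (c n : ℕ) : List ℤ :=
  (List.range 24).map fun p => if c.testBit p then (if n.testBit p then -2 else 2) else 0

/-- A vector with two entries of absolute value four. -/
def twoVec (i j : ℕ) (si sj : Bool) : List ℤ :=
  (List.range 24).map fun p =>
    if p = i then (if si then -4 else 4) else if p = j then (if sj then -4 else 4) else 0

/-- The odd vectors of one mask: `S - 4 wᵢ` before the change, `-2 T` for the change. -/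
noncomputable def oddScan (w : List ℤ) (target base : ℤ) (c : ℕ) (sol : List (List ℤ)) : ℕ → Bool :=
  List.rec (fun _ => true)
    (fun x _ r i =>
      (!eqZ (cond (c.testBit i) (base + 4 * x) (base - 4 * x)) target ||
        sol.any (eqZL (oddVec c i))) && r (i + 1)) w

/-- All sign patterns of even weight on eight points. -/
noncomputable def octScan (target : ℤ) (c : ℕ) (sol : List (List ℤ)) (ps : List (ℕ × ℤ)) :
    ℤ → ℕ → Bool → Bool :=
  List.rec (fun acc n odd => odd || (!eqZ acc target || sol.any (eqZL (octVec c n))))
    (fun p _ r acc n odd =>
      r (acc + 2 * p.2) n odd && r (acc - 2 * p.2) (n ||| 2 ^ p.1) (!odd)) ps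

/-- The check at one code word. -/
noncomputable def wordScan (w : List ℤ) (S target : ℤ) (sol : List (List ℤ)) (c : ℕ) : Bool :=
  oddScan w target (S - 2 * maskSum c w 0) c sol 0 &&
    (!Nat.beq (bitCount c) 8 ||
      octScan target c sol ((maskPos c).map fun p => (p, w.getD p 0)) 0 0 false)

/-- The check at the vectors with two nonzero entries. -/
noncomputable def twoScan (w : List ℤ) (target : ℤ) (sol : List (List ℤ)) : Bool :=
  allL (fun j => allL (fun i => allL (fun si => allL (fun sj =>
    !eqZ ((cond si (-4) 4) * w.getD i 0 + (cond sj (-4) 4) * w.getD j 0) target ||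
      sol.any (eqZL (twoVec i j si sj))) [false, true]) [false, true]) (List.range j)) (List.range 24)

/-- The whole scan, in sixteen parts of the code. -/
noncomputable def partScan (w : List ℤ) (target : ℤ) (sol : List (List ℤ)) (acc : ℕ) : Bool :=
  allSpan (wordScan w w.sum target sol) (golayBasis.drop 4) acc

end CfsgLib.CoOneRec.MinScan
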