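import Cfsg.Agent.Lib.CoOneRec.ModelCodeData
import Cfsg.Agent.Lib.Golay.Code

/-!
The checks on the derivation of the octads from eleven of them.
-/

set_option autoImplicit false
set_option maxRecDepth 100000

namespace CfsgLib.CoOneRec

open CfsgLib.Golay

/-- The mask of the union of all points. -/
def allMask : ℕ := 16777215

/-- A word of weight eight. -/
def octOk (x : ℕ) : Bool := inCode x && Nat.beq (bitCount x) 8

/-- One derived octad. -/
def derOk (known : List ℕ) (e : ℕ × ℕ × ℕ) : Bool :=
  octOk e.1 && known.any (Nat.beq e.2.1) && known.any (Nat.beq e.2.2) &&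
    (Nat.beq (bitCount (e.2.1 &&& e.2.2)) 4 && Nat.beq e.1 (e.2.1 ^^^ e.2.2) ||
      Nat.beq (e.2.1 &&& e.2.2) 0 && Nat.beq e.1 (allMask ^^^ (e.2.1 ^^^ e.2.2)))

/-- The derived octads. -/
def derChk : List (ℕ × ℕ × ℕ) → List ℕ → Bool
  | [], _ => true
  | e :: es, known => derOk known e && derChk es (e.1 :: known)

/-- All octads reached. -/
def codeAll : List ℕ := codeSeeds ++ codeSteps.map (·.1)

theorem seed_checks : codeSeeds.length = 11 ∧ codeDuals.length = 11 ∧ codeSeeds.all octOk = true ∧
    (∀ i < 11, bitCount (allMask &&& codeDuals.getD i 0) % 2 = 0) ∧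
    (∀ i < 11, ∀ j < 11, bitCount (codeSeeds.getD j 0 &&& codeDuals.getD i 0) % 2 = if i = j then 1 else 0) := by
  decide +kernel

theorem step_checks : derChk codeSteps codeSeeds = true := by decide +kernel

theorem cover_checks :
    allSpan (fun n => !Nat.beq (bitCount n) 8 || codeAll.any (Nat.beq n)) golayBasis 0 = true := by
  decide +kernel

theorem basis_checks : golayBasis.all octOk = true := by decide +kernel

end CfsgLib.CoOneRec
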