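import Cfsg.Agent.Lib.CoOneRec.OctFactsData
import Cfsg.Agent.Lib.CoOneRec.ModelCodeChecks
import Cfsg.Agent.Lib.Leech.CoTwo.Data

/-!
The checks on the classes of octads under the stabiliser of the base octad.
-/

set_option autoImplicit false
set_option maxRecDepth 100000

namespace CfsgLib.CoOneRec

open CfsgLib.Golay CfsgLib.Leech.CoTwo

/-- An element of the group fixing the base octad. -/
def octGenOk (L : List ℕ) : Bool := m24Test L && Nat.beq (imgMask L octMask) octMask

/-- The steps reach only images of known members. -/
def orbChk : List (ℕ × ℕ × ℕ) → List ℕ → Bool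
  | [], _ => true
  | e :: es, known =>
    Nat.blt e.2.2 octGens.length && known.any (Nat.beq e.2.1) &&
      Nat.beq (imgMask (octGens.getD e.2.2 []) e.2.1) e.1 && orbChk es (e.1 :: known)

/-- An octad meeting the base octad in a given number of points. -/
def meetOk (k n : ℕ) : Bool := Nat.beq (bitCount n) 8 && Nat.beq (bitCount (octMask &&& n)) k

/-- A class is reached from its representative. -/
def classOk (r : ℕ) (steps : List (ℕ × ℕ × ℕ)) (k : ℕ) : Bool :=
  octOk r && Nat.beq (bitCount (octMask &&& r)) k && orbChk steps [r] &&
    allSpan (fun n => !meetOk k n || (r :: steps.map (·.1)).any (Nat.beq n)) golayBasis 0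

/-- The third octad of a representative. -/
def thirdMask (k r : ℕ) : ℕ := if k = 0 then allMask ^^^ (octMask ^^^ r) else octMask ^^^ r

/-- Only two members of the class are fixed with the representative. -/
def thirdOk (r : ℕ) (fx : List (List ℕ)) (k : ℕ) : Bool :=
  fx.all (fun L => octGenOk L && Nat.beq (imgMask L r) r) &&
    allSpan (fun n => !meetOk k n || Nat.beq n r || Nat.beq n (thirdMask k r) ||
      fx.any fun L => !Nat.beq (imgMask L n) n) golayBasis 0

theorem oct_gens_checks : octGens.all octGenOk = true := by decide +kernel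

theorem class_checks : classOk octRepZero octStepsZero 0 = true ∧
    classOk octRepFour octStepsFour 4 = true ∧ classOk octRepTwo octStepsTwo 2 = true := by
  refine ⟨?_, ?_, ?_⟩ <;> decide +kernel

theorem third_checks : thirdOk octRepZero octFixZero 0 = true ∧ thirdOk octRepFour octFixFour 4 = true := by
  refine ⟨?_, ?_⟩ <;> decide +kernel

theorem meet_checks :
    allSpan (fun n => !Nat.beq (bitCount n) 8 || Nat.beq n octMask || meetOk 0 n || meetOk 2 n || meetOk 4 n)
      golayBasis 0 = true ∧
    countSpan (meetOk 0) golayBasis 0 = 30 ∧ countSpan (meetOk 4) golayBasis 0 = 280 ∧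
      countSpan (meetOk 2) golayBasis 0 = 448 := by
  refine ⟨?_, ?_, ?_, ?_⟩ <;> decide +kernel

end CfsgLib.CoOneRec
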