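import Cfsg.Agent.Lib.CoOneRec.CodeHom
import Cfsg.Agent.Lib.CoOneRec.OctFactsChecks
import Cfsg.Agent.Lib.M24Cert.OctadAction

/-!
The classes of octads under the stabiliser of the base octad.
-/

set_option autoImplicit false
set_option maxRecDepth 100000

namespace CfsgLib.CoOneRec

open Cfsg CfsgLib.Golay CfsgLib.M24Cert CfsgLib.Leech CfsgLib.Leech.CoTwo
open scoped symmDiff Pointwise

/-- The base octad. -/
abbrev O0 : Finset GolayPt := toSet octMask

theorem octGen_spec {L : List ℕ} (h : octGenOk L = true) :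
    validL 24 L = true ∧ permOf ptEquiv L ∈ octStab O0 := by
  simp only [octGenOk, Bool.and_eq_true, Nat.beq_eq] at h
  have hv : validL 24 L = true := by
    have := h.1; simp only [m24Test, Bool.and_eq_true] at this; exact this.1
  exact ⟨hv, mem_octStab.2 ⟨mem_M24_of_test h.1, by rw [smul_toSet hv, h.2]⟩⟩

theorem meetOk_iff {k n : ℕ} (hw : bitCount n = 8) :
    meetOk k n = true ↔ (O0 ∩ toSet n).card = k := by
  rw [← toSet_and, card_toSet, meetOk, hw, Nat.beq_refl, Bool.true_and, Nat.beq_eq]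

theorem orb_reach (r : ℕ) : ∀ (es : List (ℕ × ℕ × ℕ)) (known : List ℕ), orbChk es known = true →
    (∀ x ∈ known, ∃ s ∈ octStab O0, s • toSet r = toSet x) →
    ∀ x ∈ es.map (·.1) ++ known, ∃ s ∈ octStab O0, s • toSet r = toSet x := by
  intro es
  induction es with
  | nil => exact fun known _ h x hx => h x (by simpa using hx)
  | cons e es ih =>
    intro known hd h x hx
    simp only [orbChk, Bool.and_eq_true, List.any_eq_true, Nat.beq_eq, Nat.blt_eq] at hd
    obtain ⟨⟨⟨hj, y, hy, ey⟩, hx'⟩, hrest⟩ := hd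
    subst ey
    have hg : octGenOk (octGens.getD e.2.2 []) = true := by
      refine List.all_eq_true.1 oct_gens_checks _ ?_
      rw [List.getD_eq_getElem _ _ hj]
      exact List.getElem_mem hj
    obtain ⟨hv, hm⟩ := octGen_spec hg
    have hnew : ∃ s ∈ octStab O0, s • toSet r = toSet e.1 := by
      obtain ⟨s, hs, es'⟩ := h _ hy
      exact ⟨_, mul_mem hm hs, by rw [mul_smul, es', smul_toSet hv, hx']⟩
    refine ih (e.1 :: known) hrest ?_ x ?_
    · intro w hw
      rcases List.mem_cons.1 hw with rfl | hw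
      · exact hnew
      · exact h w hw
    · simp only [List.map_cons, List.cons_append, List.mem_cons, List.mem_append] at hx ⊢
      tauto

theorem class_reach {r : ℕ} {steps : List (ℕ × ℕ × ℕ)} {k : ℕ} (h : classOk r steps k = true)
    {o : Finset GolayPt} (ho : o ∈ octads) (hk : (O0 ∩ o).card = k) :
    ∃ s ∈ octStab O0, s • toSet r = o := by
  simp only [classOk, Bool.and_eq_true] at h
  obtain ⟨⟨⟨-, -⟩, horb⟩, hall⟩ := h
  obtain ⟨n, hn, hw, rfl⟩ := mem_wordsOfWeight.1 ho
  have hc := forall_golayList hall n hn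
  simp only [Bool.or_eq_true, Bool.not_eq_true', List.any_eq_true, Nat.beq_eq] at hc
  rcases hc with hc | ⟨w, hw', rfl⟩
  · rw [(meetOk_iff hw).2 hk] at hc; exact absurd hc (by decide)
  · refine orb_reach r steps [r] horb ?_ n ?_
    · intro x hx
      rw [List.mem_singleton] at hx
      exact ⟨1, one_mem _, by rw [one_smul, hx]⟩
    · simp only [List.mem_cons, List.mem_append, List.not_mem_nil, or_false] at hw' ⊢
      tauto

/-- The representative and its steps for a class. -/
theorem class_data {k : ℕ} (hk : k = 0 ∨ k = 4 ∨ k = 2) :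
    ∃ r steps, classOk r steps k = true := by
  obtain ⟨c0, c4, c2⟩ := class_checks
  rcases hk with rfl | rfl | rfl
  exacts [⟨_, _, c0⟩, ⟨_, _, c4⟩, ⟨_, _, c2⟩]

/-- The base octad is an octad meeting every other octad in none, two or four points. -/
theorem meet_cases {o : Finset GolayPt} (ho : o ∈ octads) :
    o = O0 ∨ (O0 ∩ o).card = 0 ∨ (O0 ∩ o).card = 2 ∨ (O0 ∩ o).card = 4 := by
  obtain ⟨n, hn, hw, rfl⟩ := mem_wordsOfWeight.1 ho
  have hc := forall_golayList meet_checks.1 n hn
  simp only [Bool.or_eq_true, Bool.not_eq_true', meetOk_iff hw, Nat.beq_eq] at hc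
  rcases hc with (((hc | rfl) | h) | h) | h
  · simp [hw] at hc
  · exact Or.inl rfl
  · exact Or.inr (Or.inl h)
  · exact Or.inr (Or.inr (Or.inl h))
  · exact Or.inr (Or.inr (Or.inr h))

theorem class_count (k : ℕ) :
    Nat.card {o : Finset GolayPt // o ∈ octads ∧ (O0 ∩ o).card = k} = countSpan (meetOk k) golayBasis 0 := by
  classical
  have e : {o : Finset GolayPt | o ∈ octads ∧ (O0 ∩ o).card = k} =
      toSet '' (↑(golayList.filter (meetOk k)).toFinset : Set ℕ) := by
    ext s
    simp only [Set.mem_setOf_eq, Set.mem_image, List.coe_toFinset, List.mem_filter]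
    constructor
    · rintro ⟨hs, hk⟩
      obtain ⟨n, hn, hw, rfl⟩ := mem_wordsOfWeight.1 hs
      exact ⟨n, ⟨hn, (meetOk_iff hw).2 hk⟩, rfl⟩
    · rintro ⟨n, ⟨hn, hm⟩, rfl⟩
      have hw : bitCount n = 8 := by
        simp only [meetOk, Bool.and_eq_true, Nat.beq_eq] at hm; exact hm.1
      exact ⟨mem_wordsOfWeight.2 ⟨n, hn, hw, rfl⟩, (meetOk_iff hw).1 hm⟩
  rw [← countP_golayList, List.countP_eq_length_filter]
  rw [show Nat.card {o : Finset GolayPt // o ∈ octads ∧ (O0 ∩ o).card = k} =
    {o : Finset GolayPt | o ∈ octads ∧ (O0 ∩ o).card = k}.ncard from (Nat.card_coe_set_eq _)]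
  rw [e, Set.InjOn.ncard_image, Set.ncard_coe_finset, List.toFinset_card_of_nodup (golayList_nodup.filter _)]
  intro a ha b hb hab
  simp only [List.coe_toFinset, List.mem_filter, Set.mem_setOf_eq] at ha hb
  exact toSet_injOn a ha.1 b hb.1 hab

/-- The sizes of the three classes. -/
theorem class_card : Nat.card {o : Finset GolayPt // o ∈ octads ∧ (O0 ∩ o).card = 0} = 30 ∧
    Nat.card {o : Finset GolayPt // o ∈ octads ∧ (O0 ∩ o).card = 2} = 448 ∧
    Nat.card {o : Finset GolayPt // o ∈ octads ∧ (O0 ∩ o).card = 4} = 280 := by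
  simp only [class_count]
  exact ⟨meet_checks.2.1, meet_checks.2.2.2, meet_checks.2.2.1⟩

theorem octMask_octad : O0 ∈ octads :=
  mem_wordsOfWeight.2 ⟨octMask, mem_golayList_of_inCode (by decide +kernel), by decide +kernel, rfl⟩

/-- Octads meeting the base octad equally are conjugate under its stabiliser. -/
theorem class_trans {o o2 : Finset GolayPt} (ho : o ∈ octads) (ho2 : o2 ∈ octads)
    (h : (O0 ∩ o).card = (O0 ∩ o2).card) : ∃ s ∈ octStab O0, s • o = o2 := by
  rcases meet_cases ho with rfl | hk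
  · rcases meet_cases ho2 with rfl | hk2
    · exact ⟨1, one_mem _, one_smul _ _⟩
    · rw [Finset.inter_self, card_toSet, show bitCount octMask = 8 by decide +kernel] at h
      omega
  · obtain ⟨r, steps, hc⟩ := class_data (k := (O0 ∩ o).card) (by omega)
    obtain ⟨s, hs, e⟩ := class_reach hc ho rfl
    obtain ⟨s2, hs2, e2⟩ := class_reach hc ho2 h.symm
    exact ⟨s2 * s⁻¹, mul_mem hs2 (inv_mem hs), by rw [mul_smul, ← e, inv_smul_smul, e2]⟩

theorem smul_univ_eq (s : Equiv.Perm GolayPt) : s • (Finset.univ : Finset GolayPt) = Finset.univ := by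
  refine Finset.eq_univ_of_card _ ?_
  rw [Finset.card_smul_finset, Finset.card_univ]

/-- The third octad on the base octad and a given one. -/
def third (o : Finset GolayPt) : Finset GolayPt :=
  if (O0 ∩ o).card = 0 then Finset.univ ∆ (O0 ∆ o) else O0 ∆ o

theorem smul_third {s : Equiv.Perm GolayPt} (hs : s ∈ octStab O0) (o : Finset GolayPt) :
    s • third o = third (s • o) := by
  have h0 : s • O0 = O0 := (mem_octStab.1 hs).2
  have hc : (O0 ∩ (s • o)).card = (O0 ∩ o).card := by
    conv_lhs => rw [← h0]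
    exact inter_card_smul s O0 o
  unfold third
  rw [hc]
  split
  · rw [Finset.smul_finset_symmDiff, Finset.smul_finset_symmDiff, smul_univ_eq, h0]
  · rw [Finset.smul_finset_symmDiff, h0]

theorem toSet_thirdMask {r k : ℕ} (hk : (O0 ∩ toSet r).card = k) : toSet (thirdMask k r) = third (toSet r) := by
  subst hk
  unfold thirdMask third
  split
  · rw [toSet_xor, toSet_xor, toSet_allMask]
  · rw [toSet_xor]

/-- Only an octad and the third one on it are fixed with the base octad and that octad. -/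
theorem third_unique {o o3 : Finset GolayPt} (ho : o ∈ octads) (h : (O0 ∩ o).card = 0 ∨ (O0 ∩ o).card = 4)
    (ho3 : o3 ∈ octads) (h3 : (O0 ∩ o3).card = (O0 ∩ o).card) (hne : o3 ≠ o)
    (hfix : ∀ s ∈ octStab O0, s • o = o → s • o3 = o3) :
    o3 = if (O0 ∩ o).card = 0 then Finset.univ ∆ (O0 ∆ o) else O0 ∆ o := by
  show o3 = third o
  obtain ⟨r, steps, fx, hc, ht⟩ : ∃ r steps fx, classOk r steps (O0 ∩ o).card = true ∧
      thirdOk r fx (O0 ∩ o).card = true := by
    rcases h with h | h <;> rw [h]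
    exacts [⟨_, _, _, class_checks.1, third_checks.1⟩, ⟨_, _, _, class_checks.2.1, third_checks.2⟩]
  obtain ⟨g, hg, hgr⟩ := class_reach hc ho rfl
  obtain ⟨n, hn, hw, e3⟩ := mem_wordsOfWeight.1 (octads_smul (inv_mem (mem_octStab.1 hg).1) ho3)
  have hkr : (O0 ∩ toSet r).card = (O0 ∩ o).card := by
    simp only [classOk, Bool.and_eq_true, Nat.beq_eq] at hc
    rw [← toSet_and, card_toSet, hc.1.1.2]
  have hkn : (O0 ∩ toSet n).card = (O0 ∩ o).card := by
    have h0 : g • O0 = O0 := (mem_octStab.1 hg).2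
    have e0 : g⁻¹ • O0 = O0 := inv_smul_eq_iff.2 h0.symm
    rw [e3, ← h3]
    conv_lhs => rw [← e0]
    exact inter_card_smul g⁻¹ O0 o3
  simp only [thirdOk, Bool.and_eq_true] at ht
  obtain ⟨hfx, hall⟩ := ht
  have hc' := forall_golayList hall n hn
  simp only [Bool.or_eq_true, Bool.not_eq_true', List.any_eq_true, Nat.beq_eq] at hc'
  rcases hc' with ((hc' | rfl) | rfl) | ⟨L, hL, hmove⟩
  · rw [(meetOk_iff hw).2 hkn] at hc'; exact absurd hc' (by decide)
  · refine absurd ?_ hne
    rw [← smul_inv_smul g o3, ← e3, hgr]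
  · rw [← smul_inv_smul g o3, ← e3, toSet_thirdMask hkr, smul_third hg, hgr]
  · exfalso
    have hL' := List.all_eq_true.1 hfx L hL
    simp only [Bool.and_eq_true, Nat.beq_eq] at hL'
    obtain ⟨hv, hm⟩ := octGen_spec hL'.1
    have hs : g * permOf ptEquiv L * g⁻¹ ∈ octStab O0 := mul_mem (mul_mem hg hm) (inv_mem hg)
    have ho' : (g * permOf ptEquiv L * g⁻¹) • o = o := by
      rw [← hgr, mul_smul, inv_smul_smul, mul_smul, smul_toSet hv, hL'.2]
    have := hfix _ hs ho'
    rw [mul_smul, ← e3, mul_smul, smul_eq_iff_eq_inv_smul, ← e3, smul_toSet hv] at this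
    have hne' : imgMask L n ≠ n := fun e => by rw [e, Nat.beq_refl] at hmove; exact Bool.noConfusion hmove
    refine hne' (toSet_inj ?_ (golayList_lt n hn) this)
    refine Nat.lt_pow_two_of_testBit _ fun i hi => ?_
    by_contra hb
    rw [Bool.not_eq_false, testBit_imgMask] at hb
    obtain ⟨j, hj, -, rfl⟩ := hb
    exact absurd (validL_getD_lt hv hj) (by omega)

end CfsgLib.CoOneRec
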