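import Cfsg.Agent.Lib.CoOneRec.NOrbit
import Cfsg.Agent.Lib.CoOneRec.OctFacts

/-!
The conjugates of the involution labelled by octads, and the relations of pairs meeting in none or four
points.
-/

set_option autoImplicit false
set_option linter.style.haveILetI false
set_option linter.unusedSectionVars false

namespace CfsgLib.CoOneRec

open Subgroup Cfsg CfsgLib.Golay CfsgLib.M24Cert

open scoped Pointwise symmDiff

variable {G : Type*} [Group G] [Finite G] {z : G} {Q : Subgroup G}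
  {π : G → CfsgLib.CoType.V8} {ρ : G → CfsgLib.Classical.qAut CfsgLib.CoType.qm}

/-- A labelling of the orbit by octads. -/
structure OctLabel (X : CfsgLib.CoType.Ctx z Q π ρ) (φ : X.N →* Equiv.Perm GolayPt) (a : Finset GolayPt → G) :
    Prop where
  orb : ∀ o ∈ octads, X.Orb (a o)
  base : a O0 = z
  equiv : ∀ n : X.N, ∀ o ∈ octads, a (φ n • o) = (n : G) * a o * (n : G)⁻¹
  inj : ∀ o ∈ octads, ∀ o2 ∈ octads, a o = a o2 → o = o2
  surj : ∀ u, X.Orb u → ∃ o ∈ octads, a o = u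

section

variable (X : CfsgLib.CoType.Ctx z Q π ρ) (φ : X.N →* Equiv.Perm GolayPt) (hr : φ.range = M24)
  (hc : ∀ n : X.N, φ n • O0 = O0 ↔ (n : G) ∈ centralizer ({z} : Set G))

include hr hc

theorem exists_oct_label : ∃ a, OctLabel X φ a := by
  classical
  have hex : ∀ o ∈ octads, ∃ n : X.N, φ n • O0 = o := fun o ho => by
    obtain ⟨g, hg, rfl⟩ := octads_transitive ho
    obtain ⟨g', hg', e'⟩ := octads_transitive octMask_octad
    obtain ⟨n, hn⟩ : g * g'⁻¹ ∈ φ.range := hr ▸ mul_mem hg (inv_mem hg')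
    exact ⟨n, by rw [hn, ← e', mul_smul, inv_smul_smul]⟩
  let a : Finset GolayPt → G := fun o =>
    if h : o ∈ octads then ((hex o h).choose : G) * z * ((hex o h).choose : G)⁻¹ else 1
  have key : ∀ (n : X.N) (o : Finset GolayPt), o ∈ octads → φ n • O0 = o → a o = (n : G) * z * (n : G)⁻¹ := by
    intro n o ho e
    set m := (hex o ho).choose with hm
    have hmo : φ m • O0 = o := (hex o ho).choose_spec
    have h : φ (n⁻¹ * m) • O0 = O0 := by rw [map_mul, map_inv, mul_smul, hmo, ← e, inv_smul_smul]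
    have h2 := mem_centralizer_singleton_iff.1 ((hc _).1 h)
    rw [coe_mul, coe_inv] at h2
    simp only [a, dif_pos ho, ← hm]
    calc (m : G) * z * (m : G)⁻¹ = (n : G) * (((n : G)⁻¹ * m) * z) * (m : G)⁻¹ := by group
      _ = (n : G) * z * (n : G)⁻¹ := by rw [h2]; group
  refine ⟨a, ⟨fun o ho => ?_, ?_, fun n o ho => ?_, fun o ho o2 ho2 e => ?_, ?_⟩⟩
  · obtain ⟨n, hn⟩ := hex o ho
    exact ⟨n, n.2, (key n o ho hn).symm⟩
  · rw [key 1 O0 octMask_octad (by rw [map_one, one_smul]), coe_one, one_mul, inv_one, mul_one]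
  · obtain ⟨m, hm⟩ := hex o ho
    have hM : φ n ∈ M24 := hr ▸ ⟨n, rfl⟩
    rw [key m o ho hm, key (n * m) _ (octads_smul hM ho) (by rw [map_mul, mul_smul, hm]), coe_mul]
    group
  · obtain ⟨n, hn⟩ := hex o ho
    obtain ⟨n2, hn2⟩ := hex o2 ho2
    rw [key n o ho hn, key n2 o2 ho2 hn2] at e
    have h : ((n⁻¹ * n2 : X.N) : G) ∈ centralizer ({z} : Set G) := by
      rw [mem_centralizer_singleton_iff, coe_mul, coe_inv]
      calc (n : G)⁻¹ * n2 * z = (n : G)⁻¹ * ((n2 : G) * z * (n2 : G)⁻¹) * n2 := by group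
        _ = z * ((n : G)⁻¹ * n2) := by rw [← e]; group
    have h2 := (hc _).2 h
    rw [map_mul, map_inv, mul_smul, hn2, inv_smul_eq_iff, hn] at h2
    exact h2.symm
  · rintro u ⟨n, hn, rfl⟩
    have hM : φ ⟨n, hn⟩ ∈ M24 := hr ▸ ⟨⟨n, hn⟩, rfl⟩
    exact ⟨_, octads_smul hM octMask_octad, key ⟨n, hn⟩ _ (octads_smul hM octMask_octad) rfl⟩

variable {a : Finset GolayPt → G} (L : OctLabel X φ a)

include L

/-- The conjugates with a given meet. -/
theorem meet_class_card (k : ℕ) : Nat.card {u : G // ∃ o ∈ octads, (O0 ∩ o).card = k ∧ a o = u} =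
    Nat.card {o : Finset GolayPt // o ∈ octads ∧ (O0 ∩ o).card = k} :=
  (Nat.card_congr (Equiv.ofBijective
    (fun o => (⟨a o.1, o.1, o.2.1, o.2.2, rfl⟩ : {u : G // ∃ o ∈ octads, (O0 ∩ o).card = k ∧ a o = u}))
    ⟨fun o o2 e => Subtype.ext (L.inj o.1 o.2.1 o2.1 o2.2.1 (congrArg Subtype.val e)),
      fun v => by
        obtain ⟨u, o, ho, hk, e⟩ := v
        exact ⟨⟨o, ho, hk⟩, Subtype.ext e⟩⟩)).symm

/-- The conjugates with a given meet are one class under the centraliser. -/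
theorem meet_class_move {o o2 : Finset GolayPt} (ho : o ∈ octads) (ho2 : o2 ∈ octads)
    (h : (O0 ∩ o).card = (O0 ∩ o2).card) : ∃ c ∈ X.NC, c * a o * c⁻¹ = a o2 := by
  obtain ⟨s, hs, rfl⟩ := class_trans ho ho2 h
  obtain ⟨n, hn⟩ : s ∈ φ.range := hr ▸ (mem_octStab.1 hs).1
  have hn' : (n : G) ∈ centralizer ({z} : Set G) := (hc n).1 (hn ▸ (mem_octStab.1 hs).2)
  exact ⟨n, ⟨n.2, hn'⟩, by rw [← L.equiv n o ho, hn]⟩

theorem meet_class_inv {o : Finset GolayPt} (ho : o ∈ octads) {c : G} (hcN : c ∈ X.NC) :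
    ∃ o2 ∈ octads, (O0 ∩ o2).card = (O0 ∩ o).card ∧ a o2 = c * a o * c⁻¹ := by
  have h0 : φ ⟨c, hcN.1⟩ • O0 = O0 := (hc _).2 hcN.2
  refine ⟨φ ⟨c, hcN.1⟩ • o, octads_smul (hr ▸ ⟨⟨c, hcN.1⟩, rfl⟩ : φ ⟨c, hcN.1⟩ ∈ M24) ho, ?_, L.equiv _ o ho⟩
  conv_lhs => rw [← h0]
  exact inter_card_smul _ O0 o

/-- The two families. -/
theorem class_sets :
    (∀ u, u ∈ X.OU ↔ ∃ o ∈ octads, (O0 ∩ o).card = 0 ∧ a o = u) ∧
      (∀ u, u ∈ X.OT ↔ ∃ o ∈ octads, (O0 ∩ o).card = 4 ∧ a o = u) := by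
  classical
  obtain ⟨c0, c2, c4⟩ := class_card
  let F : ℕ → Set G := fun k => {u | ∃ o ∈ octads, (O0 ∩ o).card = k ∧ a o = u}
  have hF : ∀ k, Nat.card (F k) = Nat.card {o : Finset GolayPt // o ∈ octads ∧ (O0 ∩ o).card = k} :=
    meet_class_card X φ hr hc L
  -- the family through one element lies in an invariant set
  have sub : ∀ (S : Set G) (u : G), u ≠ z → X.Orb u → (∀ c ∈ X.NC, c * u * c⁻¹ ∈ S) →
      ∃ k, (k = 0 ∨ k = 2 ∨ k = 4) ∧ u ∈ F k ∧ F k ⊆ S := by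
    intro S u huz hu hS
    obtain ⟨o, ho, rfl⟩ := L.surj u hu
    refine ⟨(O0 ∩ o).card, ?_, ⟨o, ho, rfl, rfl⟩, ?_⟩
    · rcases meet_cases ho with rfl | h
      · exact absurd L.base huz
      · exact h
    · rintro v ⟨o2, ho2, h2, rfl⟩
      obtain ⟨c, hcN, e⟩ := meet_class_move X φ hr hc L ho ho2 h2.symm
      exact e ▸ hS c hcN
  have hU : F 0 = X.OU := by
    obtain ⟨⟨u, hu⟩⟩ : Nonempty X.OU := by
      by_contra h
      rw [not_nonempty_iff] at h
      have := X.card_OU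
      rw [Nat.card_of_isEmpty] at this
      omega
    obtain ⟨k, hk, -, hsub⟩ := sub X.OU u hu.2.2 (X.ou_mem hu).1 fun c hcN => X.ou_conj hcN hu
    have h := Nat.card_mono (Set.toFinite _) hsub
    rw [X.card_OU, hF] at h
    rcases hk with rfl | rfl | rfl
    · refine Set.eq_of_subset_of_ncard_le hsub ?_ (Set.toFinite _)
      rw [← Nat.card_coe_set_eq, ← Nat.card_coe_set_eq, hF, c0, X.card_OU]
    all_goals omega
  have hT : F 4 = X.OT := by
    obtain ⟨b, hb, -, hbc⟩ := X.exists_line_pair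
    have hbU : b ∉ X.U := X.ot_outside hb
    obtain ⟨k, hk, hbk, hsub⟩ := sub X.OT b (fun h => hbU (h ▸ X.zU)) hb.2.2 hbc
    have h := Nat.card_mono (Set.toFinite _) hsub
    rw [X.card_OT, hF] at h
    rcases hk with rfl | rfl | rfl
    · exact absurd (hU ▸ hbk).1 hbU
    · omega
    · refine Set.eq_of_subset_of_ncard_le hsub ?_ (Set.toFinite _)
      rw [← Nat.card_coe_set_eq, ← Nat.card_coe_set_eq, hF, c4, X.card_OT]
  exact ⟨fun u => by rw [← hU]; rfl, fun u => by rw [← hT]; rfl⟩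

/-- The relation at the base octad. -/
theorem third_label {o : Finset GolayPt} (ho : o ∈ octads)
    (h : (O0 ∩ o).card = 0 ∨ (O0 ∩ o).card = 4) :
    third o ∈ octads ∧ a (third o) = z * a o := by
  obtain ⟨hU, hT⟩ := class_sets X φ hr hc L
  have hz1 : z ≠ 1 := X.T.S.z1
  have hzc : ∀ c ∈ X.NC, c * z * c⁻¹ = z := fun c hcN => by
    rw [mem_centralizer_singleton_iff.1 hcN.2, mul_inv_cancel_right]
  obtain ⟨o3, ho3, hk3, e3⟩ : ∃ o3 ∈ octads, (O0 ∩ o3).card = (O0 ∩ o).card ∧ a o3 = z * a o := by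
    rcases h with h | h
    · rw [h]
      exact (hU _).1 (X.ou_mem ((hU _).2 ⟨o, ho, h, rfl⟩)).2.2
    · obtain ⟨b, hb, hzb, -⟩ := X.exists_line_pair
      obtain ⟨ob, hob, hkb, eb⟩ := (hT b).1 hb
      obtain ⟨c, hcN, ec⟩ := meet_class_move X φ hr hc L hob ho (hkb.trans h.symm)
      obtain ⟨oz, hoz, hkz, ez⟩ := (hT (z * b)).1 hzb
      obtain ⟨o2, ho2, hk2, e2⟩ := meet_class_inv X φ hr hc L hoz hcN
      refine ⟨o2, ho2, by rw [hk2, hkz, h], ?_⟩
      rw [e2, ez, ← ec, eb]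
      calc c * (z * b) * c⁻¹ = (c * z * c⁻¹) * (c * b * c⁻¹) := by group
        _ = z * (c * b * c⁻¹) := by rw [hzc c hcN]
  have hne : o3 ≠ o := fun e => hz1 (mul_eq_right.1 ((e ▸ e3 : a o = z * a o)).symm)
  have hfix : ∀ s ∈ octStab O0, s • o = o → s • o3 = o3 := fun s hs hso => by
    obtain ⟨n, hn⟩ : s ∈ φ.range := hr ▸ (mem_octStab.1 hs).1
    have hnz : (n : G) ∈ centralizer ({z} : Set G) := (hc n).1 (hn ▸ (mem_octStab.1 hs).2)
    refine L.inj _ (octads_smul (mem_octStab.1 hs).1 ho3) _ ho3 ?_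
    have h1 := L.equiv n o ho
    rw [hn, hso] at h1
    rw [← hn, L.equiv n o3 ho3, e3,
      show (n : G) * (z * a o) * (n : G)⁻¹ = ((n : G) * z * (n : G)⁻¹) * ((n : G) * a o * (n : G)⁻¹) by group,
      hzc _ ⟨n.2, hnz⟩, ← h1]
  rw [show third o = o3 from (third_unique ho h ho3 hk3 hne hfix).symm]
  exact ⟨ho3, e3⟩

/-- The two relations everywhere. -/
theorem label_relations :
    (∀ o ∈ octads, ∀ o2 ∈ octads, (o ∩ o2).card = 4 → a (o ∆ o2) = a o * a o2) ∧
      (∀ o ∈ octads, ∀ o2 ∈ octads, (o ∩ o2).card = 0 →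
        a (Finset.univ ∆ (o ∆ o2)) = a o * a o2) := by
  have main : ∀ o ∈ octads, ∀ o2 ∈ octads, (o ∩ o2).card = 0 ∨ (o ∩ o2).card = 4 →
      a (if (o ∩ o2).card = 0 then Finset.univ ∆ (o ∆ o2) else o ∆ o2) = a o * a o2 := by
    intro o ho o2 ho2 h
    obtain ⟨g, hg, hgo⟩ := octads_transitive ho
    obtain ⟨g', hg', hg'o⟩ := octads_transitive octMask_octad
    obtain ⟨n, hn⟩ : g * g'⁻¹ ∈ φ.range := hr ▸ mul_mem hg (inv_mem hg')
    set s := φ n with hs
    have hsM : s ∈ M24 := hr ▸ ⟨n, rfl⟩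
    have es : s • O0 = o := by rw [hn, ← hgo, ← hg'o, mul_smul, inv_smul_smul]
    set p := s⁻¹ • o2 with hp
    have ep : s • p = o2 := smul_inv_smul s o2
    have hpo : p ∈ octads := octads_smul (inv_mem hsM) ho2
    have hk : (O0 ∩ p).card = (o ∩ o2).card := by
      rw [← inter_card_smul s, es, ep]
    obtain ⟨hmem, ht⟩ := third_label X φ hr hc L hpo (by rwa [hk])
    have e : s • third p = if (o ∩ o2).card = 0 then Finset.univ ∆ (o ∆ o2) else o ∆ o2 := by
      unfold third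
      rw [hk]
      split
      · rw [Finset.smul_finset_symmDiff, Finset.smul_finset_symmDiff, smul_univ_eq, es, ep]
      · rw [Finset.smul_finset_symmDiff, es, ep]
    rw [← e, L.equiv n _ hmem, ht]
    calc (n : G) * (z * a p) * (n : G)⁻¹ = ((n : G) * z * (n : G)⁻¹) * ((n : G) * a p * (n : G)⁻¹) := by group
      _ = a o * a o2 := by
        have h1 : (n : G) * z * (n : G)⁻¹ = a o := by
          rw [← es]
          exact ((L.equiv n O0 octMask_octad).trans (congrArg (fun v => (n : G) * v * (n : G)⁻¹) L.base)).symm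
        rw [h1, ← L.equiv n p hpo, ep]
  refine ⟨fun o ho o2 ho2 h => ?_, fun o ho o2 ho2 h => ?_⟩
  · have := main o ho o2 ho2 (Or.inr h)
    rwa [if_neg (by omega)] at this
  · have := main o ho o2 ho2 (Or.inl h)
    rwa [if_pos h] at this

end

end CfsgLib.CoOneRec
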