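import Cfsg.Agent.Lib.CoType.TwoM24
import Cfsg.Agent.Lib.M24Cert.OctadAction
import Cfsg.Agent.Lib.Leech.CoTwo.Data

/-!
The action of the normalizer of the group of order 2048 on octads: the centraliser of the involution
becomes the stabiliser of the standard octad.
-/

set_option autoImplicit false
set_option linter.style.haveILetI false
set_option linter.unusedSectionVars false

namespace CfsgLib.CoOneRec

open Subgroup Cfsg CfsgLib.Golay CfsgLib.M24Cert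

open scoped Pointwise MatrixGroups

/-- The characterisation of the octad stabilisers. -/
def StabUnique : Prop :=
  ∀ (P : Subgroup (Equiv.Perm GolayPt)), P ≤ M24 → Nat.card P = 322560 →
    ∀ ψ : P →* GL (Fin 4) (ZMod 2), Function.Surjective ψ →
      (∀ x ∈ ψ.ker, ∀ y ∈ ψ.ker, x * y = y * x ∧ x * x = 1) → ∃ o ∈ octads, P = octStab o

variable {G : Type*} [Group G] [Finite G] {z : G} {Q : Subgroup G}
  {π : G → CfsgLib.CoType.V8} {ρ : G → CfsgLib.Classical.qAut CfsgLib.CoType.qm}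

theorem exists_phi (X : CfsgLib.CoType.Ctx z Q π ρ) (hSU : StabUnique) (o₀ : Finset GolayPt)
    (ho₀ : o₀ ∈ octads) :
    ∃ φ : X.N →* Equiv.Perm GolayPt, φ.range = M24 ∧ φ.ker = X.AN ∧
      ∀ n : X.N, φ n • o₀ = o₀ ↔ (n : G) ∈ centralizer ({z} : Set G) := by
  classical
  haveI := X.an_normal
  obtain ⟨e⟩ := X.quot_M24
  let φ₀ : X.N →* Equiv.Perm GolayPt := M24.subtype.comp (e.toMonoidHom.comp (QuotientGroup.mk' X.AN))
  have hr₀ : φ₀.range = M24 := by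
    ext x
    constructor
    · rintro ⟨n, rfl⟩; exact (e (QuotientGroup.mk' X.AN n)).2
    · intro hx
      obtain ⟨n, hn⟩ := QuotientGroup.mk'_surjective X.AN (e.symm ⟨x, hx⟩)
      exact ⟨n, by
        show ((e (QuotientGroup.mk' X.AN n) : M24) : Equiv.Perm GolayPt) = x
        rw [hn, MulEquiv.apply_symm_apply]⟩
  have hk₀ : φ₀.ker = X.AN := by
    ext n
    rw [MonoidHom.mem_ker]
    show ((e (QuotientGroup.mk' X.AN n) : M24) : Equiv.Perm GolayPt) = 1 ↔ _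
    rw [OneMemClass.coe_eq_one, MulEquiv.map_eq_one_iff, QuotientGroup.mk'_apply, QuotientGroup.eq_one_iff]
  let i : X.NC →* X.N := inclusion inf_le_left
  let f : X.NC →* (φ₀.comp i).range := (φ₀.comp i).rangeRestrict
  have hf : Function.Surjective f := (φ₀.comp i).rangeRestrict_surjective
  have hfk : ∀ c : X.NC, f c = 1 ↔ (c : G) ∈ X.A := fun c => by
    rw [Subtype.ext_iff]
    show φ₀ (i c) = 1 ↔ _
    rw [← MonoidHom.mem_ker, hk₀]
    rfl
  have hle : f.ker ≤ X.res.ker := fun c hc => by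
    rw [MonoidHom.mem_ker] at hc ⊢
    exact X.res_ker.2 ⟨c, (hfk c).1 hc, 1, one_mem _, (mul_one _).symm⟩
  let ψ := MonoidHom.liftOfSurjective f hf ⟨X.res, hle⟩
  have hψ : ∀ c, ψ (f c) = X.res c := fun c => MonoidHom.liftOfRightInverse_comp_apply _ _ _ _ c
  have hs : Function.Surjective ψ := fun g => by
    obtain ⟨c, rfl⟩ := X.res_surj g
    exact ⟨f c, hψ c⟩
  have hPle : (φ₀.comp i).range ≤ M24 := by
    rintro _ ⟨c, rfl⟩
    exact hr₀ ▸ ⟨i c, rfl⟩
  have hcard : Nat.card (φ₀.comp i).range = 322560 := by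
    have h := f.ker.card_mul_index
    rw [index_ker, MonoidHom.range_eq_top.2 hf, card_top, X.card_NC] at h
    have hk : Nat.card f.ker = 2048 := by
      rw [← X.card_A]
      exact Nat.card_congr
        { toFun := fun c => ⟨(c.1 : G), (hfk c.1).1 c.2⟩
          invFun := fun a => ⟨⟨a.1, X.a_le_N a.2, X.a_le a.2⟩, (hfk _).2 a.2⟩
          left_inv := fun _ => rfl
          right_inv := fun _ => rfl }
    rw [hk] at h
    omega
  have hq : ∀ y ∈ ψ.ker, ∃ q : X.NC, (q : G) ∈ Q ∧ f q = y := fun y hy => by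
    obtain ⟨c, rfl⟩ := hf y
    rw [MonoidHom.mem_ker, hψ] at hy
    obtain ⟨a, ha, q, hq, e⟩ := X.res_ker.1 hy
    refine ⟨⟨q, X.q_le hq⟩, hq, ?_⟩
    have hfa : f ⟨a, X.a_le_N ha, X.a_le ha⟩ = 1 := (hfk _).2 ha
    rw [show c = (⟨a, X.a_le_N ha, X.a_le ha⟩ : X.NC) * ⟨q, X.q_le hq⟩ from Subtype.ext e, map_mul, hfa,
      one_mul]
  have hzero : ∀ a ∈ Q, π a = 0 → a ∈ X.A := fun a ha h => by
    rcases (X.T.S.pi_ker a ha).1 h with rfl | rfl
    exacts [one_mem _, X.zA]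
  have hk : ∀ x ∈ ψ.ker, ∀ y ∈ ψ.ker, x * y = y * x ∧ x * x = 1 := fun x hx y hy => by
    obtain ⟨q, hqQ, rfl⟩ := hq x hx
    obtain ⟨q', hqQ', rfl⟩ := hq y hy
    constructor
    · rw [← map_mul, ← map_mul, ← mul_inv_eq_one, ← map_inv, ← map_mul, hfk]
      refine hzero _ (mul_mem (mul_mem hqQ hqQ') (inv_mem (mul_mem hqQ' hqQ))) ?_
      show π ((q : G) * q' * ((q' : G) * q)⁻¹) = 0
      rw [X.T.S.pi_mul _ (mul_mem hqQ hqQ') _ (inv_mem (mul_mem hqQ' hqQ)),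
        X.T.S.pi_inv (mul_mem hqQ' hqQ), X.T.S.pi_mul _ hqQ _ hqQ', X.T.S.pi_mul _ hqQ' _ hqQ,
        add_comm (π (q' : G)), CfsgLib.CoType.add_self8]
    · rw [← map_mul, hfk]
      refine hzero _ (mul_mem hqQ hqQ) ?_
      show π ((q : G) * q) = 0
      rw [X.T.S.pi_mul _ hqQ _ hqQ, CfsgLib.CoType.add_self8]
  obtain ⟨o, ho, hP⟩ := hSU _ hPle hcard ψ hs hk
  obtain ⟨g, hg, hgo⟩ := octads_transitive ho
  obtain ⟨g', hg', hgo'⟩ := octads_transitive ho₀
  let m : Equiv.Perm GolayPt := g' * g⁻¹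
  have hm : m ∈ M24 := mul_mem hg' (inv_mem hg)
  have hmo : m • o = o₀ := by rw [← hgo, ← hgo', mul_smul, inv_smul_smul]
  let φ : X.N →* Equiv.Perm GolayPt := (MulAut.conj m).toMonoidHom.comp φ₀
  have hφ : ∀ n, φ n = m * φ₀ n * m⁻¹ := fun n => rfl
  refine ⟨φ, ?_, ?_, fun n => ?_⟩
  · ext x
    constructor
    · rintro ⟨n, rfl⟩
      rw [hφ]
      exact mul_mem (mul_mem hm (hr₀ ▸ ⟨n, rfl⟩)) (inv_mem hm)
    · intro hx
      obtain ⟨n, hn⟩ : m⁻¹ * x * m ∈ φ₀.range := hr₀ ▸ mul_mem (mul_mem (inv_mem hm) hx) hm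
      exact ⟨n, by rw [hφ, hn]; group⟩
  · ext n
    rw [MonoidHom.mem_ker, hφ, conj_eq_one_iff, ← MonoidHom.mem_ker, hk₀]
  · have h1 : φ n • o₀ = o₀ ↔ φ₀ n • o = o := by
      rw [hφ, mul_smul, mul_smul, ← hmo, inv_smul_smul, smul_left_cancel_iff]
    rw [h1]
    constructor
    · intro h
      have : φ₀ n ∈ (φ₀.comp i).range := by
        rw [hP]; exact mem_octStab.2 ⟨hr₀ ▸ ⟨n, rfl⟩, h⟩
      obtain ⟨c, hc⟩ := this
      have h2 : (i c)⁻¹ * n ∈ X.AN := by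
        rw [← hk₀, MonoidHom.mem_ker, map_mul, map_inv, show φ₀ (i c) = φ₀ n from hc, inv_mul_cancel]
      have h3 : ((c : G))⁻¹ * (n : G) ∈ X.A := h2
      have := mul_mem c.2.2 (X.a_le h3)
      rwa [mul_inv_cancel_left] at this
    · intro h
      have : φ₀ n ∈ (φ₀.comp i).range := ⟨⟨n, n.2, h⟩, rfl⟩
      rw [hP] at this
      exact (mem_octStab.1 this).2

end CfsgLib.CoOneRec
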