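import Cfsg.Agent.Lib.M24Cert.OctadAction
import Cfsg.Agent.Lib.MathieuBlocks.Odd
import Cfsg.Agent.Lib.InvolChar.A8
import Cfsg.Agent.Lib.Classical.GLOrder

/-!
A subgroup of the Mathieu group on 24 points that is an extension of an elementary abelian group of order 16 by
the linear group of degree four over two elements is the stabiliser of an octad.
-/

set_option autoImplicit false
set_option linter.style.haveILetI false

namespace CfsgLib.CoOneRec

open Subgroup Cfsg CfsgLib.Golay CfsgLib.M24Cert MulAction
open scoped Pointwise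

theorem gl_four_simple : IsSimpleGroup (GL (Fin 4) (ZMod 2)) := by
  obtain ⟨θ⟩ := CfsgLib.A8.sl4_equiv
  haveI : IsSimpleGroup (alternatingGroup (Fin 8)) := alternatingGroup.isSimpleGroup (by simp)
  haveI : IsSimpleGroup (Matrix.SpecialLinearGroup (Fin 4) (ZMod 2)) := θ.isSimpleGroup
  have hb : Function.Bijective
      (Matrix.SpecialLinearGroup.toGL : Matrix.SpecialLinearGroup (Fin 4) (ZMod 2) →* GL (Fin 4) (ZMod 2)) := by
    refine ⟨fun a b h => Subtype.ext (congrArg Units.val h), fun g => ?_⟩
    refine MonoidHom.mem_range.1 ?_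
    rw [CfsgLib.Classical.range_toGL, MonoidHom.mem_ker]
    exact Units.ext ((by decide : ∀ x : ZMod 2, x ≠ 0 → x = 1) _ (Units.ne_zero _))
  exact (MulEquiv.ofBijective _ hb).symm.isSimpleGroup

theorem card_gl_four : Nat.card (GL (Fin 4) (ZMod 2)) = 20160 := by
  rw [Matrix.card_GL_field]
  simp [Fin.prod_univ_four]

section

variable {P : Subgroup (Equiv.Perm GolayPt)} (hP : P ≤ M24) (hc : Nat.card P = 322560)
  {ψ : P →* GL (Fin 4) (ZMod 2)} (hs : Function.Surjective ψ)

include hs hc

theorem card_psi_ker : Nat.card ψ.ker = 16 := by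
  have h := card_mul_index ψ.ker
  rw [index_ker, MonoidHom.range_eq_top.2 hs, card_top, card_gl_four, hc] at h
  omega

/-- An action on fewer points than the linear group moves is trivial on that group. -/
theorem kernel_large {X : Type*} [Finite X] (φ : P →* Equiv.Perm X) {b : ℕ}
    (hb : ψ.ker.map φ = ⊥ ∨ b ≤ Nat.card (ψ.ker.map φ)) (hX : Nat.factorial (Nat.card X) < 20160 * b)
    (hX' : Nat.factorial (Nat.card X) < 20160 ∨ ψ.ker.map φ ≠ ⊥) :
    φ.ker.map ψ = ⊤ := by
  haveI := gl_four_simple
  have hn : (φ.ker.map ψ).Normal := (inferInstance : φ.ker.Normal).map ψ hs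
  refine (hn.eq_bot_or_eq_top).resolve_left fun h => ?_
  have hle : φ.ker ≤ ψ.ker := (Subgroup.map_eq_bot_iff _).1 h
  -- the image is at least as large as the linear group times the image of the small kernel
  have h1 := card_mul_index φ.ker
  rw [index_ker, hc] at h1
  have h2 : Nat.card φ.range ≤ Nat.factorial (Nat.card X) := by
    rw [← Nat.card_perm]; exact card_le_card_group _
  let f : ψ.ker →* Equiv.Perm X := φ.comp ψ.ker.subtype
  have hf : f.range = ψ.ker.map φ := by rw [MonoidHom.range_comp, range_subtype]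
  have hk : Nat.card f.ker = Nat.card φ.ker := Nat.card_congr
    ⟨fun x => ⟨x.1.1, x.2⟩, fun x => ⟨⟨x.1, hle x.2⟩, x.2⟩, fun _ => rfl, fun _ => rfl⟩
  have h3 := card_mul_index f.ker
  rw [index_ker, hf, hk, card_psi_ker hc hs] at h3
  have hpos : 0 < Nat.card φ.ker := Nat.card_pos
  have h4 : Nat.card φ.range = 20160 * Nat.card (ψ.ker.map φ) :=
    Nat.eq_of_mul_eq_mul_left hpos (by rw [h1, mul_left_comm, h3]; norm_num)
  rcases hb with hb | hb
  · rw [hb, card_bot, mul_one] at h4
    rcases hX' with h' | h'
    · omega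
    · exact h' hb
  · have := Nat.mul_le_mul_left 20160 hb
    omega

/-- The kernel of an action covering the linear group has an element of order seven. -/
theorem exists_seven {K : Subgroup P} (hK : K.map ψ = ⊤) : ∃ g ∈ K, orderOf g = 7 := by
  haveI : Fact (Nat.Prime 7) := ⟨by norm_num⟩
  have h : 20160 ∣ Nat.card K := by
    rw [← card_gl_four, ← card_top (G := GL (Fin 4) (ZMod 2)), ← hK]
    exact card_map_dvd K ψ
  obtain ⟨g, hg⟩ := exists_prime_orderOf_dvd_card' (G := K) 7 (dvd_trans (by norm_num) h)
  exact ⟨g, g.2, by rw [← hg, orderOf_coe]⟩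

include hP in
/-- The stabiliser. -/
theorem stab_unique (hk : ∀ x ∈ ψ.ker, ∀ y ∈ ψ.ker, x * y = y * x ∧ x * x = 1) :
    ∃ o ∈ octads, P = octStab o := by
  classical
  set V : Subgroup P := ψ.ker with hVdef
  have hV16 : Nat.card V = 16 := card_psi_ker hc hs
  have hVP : IsPGroup 2 V := IsPGroup.of_card (n := 4) (by rw [hV16]; norm_num)
  haveI : Fact (Nat.Prime 2) := ⟨Nat.prime_two⟩
  have hord : ∀ v : V, v ≠ 1 → orderOf ((v : P) : Equiv.Perm GolayPt) = 2 := fun v hv => by
    refine orderOf_eq_prime ?_ fun h => hv (Subtype.ext (Subtype.ext h))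
    rw [_root_.sq]
    exact congrArg Subtype.val (hk v v.2 v v.2).2
  -- the fixed points of one element
  have hfix : ∀ v : V, v ≠ 1 → (Finset.univ.filter fun p => ((v : P) : Equiv.Perm GolayPt) p = p).card ≤ 8 ∧
      ((Finset.univ.filter fun p => ((v : P) : Equiv.Perm GolayPt) p = p).card ≠ 0 →
        (Finset.univ.filter fun p => ((v : P) : Equiv.Perm GolayPt) p = p) ∈ octads) := fun v hv => by
    refine ⟨?_, fun h => MathieuBlocks.eight_fixed_octad (hP (v : P).2) (hord v hv) h⟩
    obtain ⟨u, -, ⟨-, e⟩ | ⟨-, e⟩⟩ := inv_cases (hP (v : P).2) (hord v hv) <;> omega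
  -- at most nine orbits
  let Ω := Quotient (orbitRel V GolayPt)
  have hΩ : Nat.card Ω ≤ 9 := by
    haveI := Fintype.ofFinite V
    haveI : Fintype Ω := Fintype.ofFinite Ω
    have hb := sum_card_fixedBy_eq_card_orbits_mul_card_group V GolayPt
    rw [← Finset.add_sum_erase _ _ (Finset.mem_univ (1 : V)), ← Nat.card_eq_fintype_card (α := Ω),
      ← Nat.card_eq_fintype_card (α := V), hV16] at hb
    have h1 : Fintype.card (fixedBy GolayPt (1 : V)) ≤ 24 := by
      refine (Fintype.card_subtype_le _).trans ?_
      rfl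
    have h2 : ∑ v ∈ Finset.univ.erase (1 : V), Fintype.card (fixedBy GolayPt v) ≤ 15 * 8 := by
      refine (Finset.sum_le_card_nsmul _ _ 8 fun v hv => ?_).trans ?_
      · rw [show Fintype.card (fixedBy GolayPt v) =
          (Finset.univ.filter fun p => ((v : P) : Equiv.Perm GolayPt) p = p).card from
          Fintype.card_of_subtype _ fun p => by simp [mem_fixedBy, Subgroup.smul_def]]
        exact (hfix v (Finset.ne_of_mem_erase hv)).1
      · rw [Finset.card_erase_of_mem (Finset.mem_univ _), Finset.card_univ, ← Nat.card_eq_fintype_card, hV16,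
          smul_eq_mul]
    omega
  -- the action on the orbits
  let om : GolayPt → Ω := fun x => ⟦x⟧
  have hom : ∀ x y, om x = om y ↔ ∃ v : V, ((v : P) : Equiv.Perm GolayPt) y = x := fun x y => by
    rw [Quotient.eq]; exact Iff.rfl
  have hmove : ∀ (g : P) (x y : GolayPt), om x = om y → om ((g : Equiv.Perm GolayPt) x) = om ((g : Equiv.Perm GolayPt) y) := by
    intro g x y h
    obtain ⟨v, hv⟩ := (hom x y).1 h
    refine (hom _ _).2 ⟨⟨g * (v : P) * g⁻¹, (inferInstance : ψ.ker.Normal).conj_mem _ v.2 g⟩, ?_⟩
    show ((g : Equiv.Perm GolayPt) * ((v : P) : Equiv.Perm GolayPt) * (g : Equiv.Perm GolayPt)⁻¹) ((g : Equiv.Perm GolayPt) y) = _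
    rw [Equiv.Perm.mul_apply, Equiv.Perm.mul_apply, Equiv.Perm.coe_inv, Equiv.symm_apply_apply, hv]
  letI : MulAction P Ω :=
    { smul := fun g => Quotient.map (fun x => (g : Equiv.Perm GolayPt) x) fun x y h =>
        Quotient.exact (hmove g x y (Quotient.sound h))
      one_smul := fun q => Quotient.inductionOn q fun x => rfl
      mul_smul := fun g h q => Quotient.inductionOn q fun x => rfl }
  have hsm : ∀ (g : P) (x : GolayPt), g • om x = om ((g : Equiv.Perm GolayPt) x) := fun g x => rfl
  let blk : GolayPt → Finset GolayPt := fun x => Finset.univ.filter fun y => om y = om x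
  have hblk : ∀ x, ∃ j ≤ 4, (blk x).card = 2 ^ j := fun x => by
    obtain ⟨j, hj⟩ := hVP.card_orbit x
    have e : Nat.card (orbit V x) = (blk x).card := by
      rw [Nat.card_eq_fintype_card]
      exact Fintype.card_of_subtype _ fun y => by
        simp only [blk, Finset.mem_filter, Finset.mem_univ, true_and, hom, mem_orbit_iff]
        exact ⟨fun ⟨v, hv⟩ => ⟨v, hv⟩, fun ⟨v, hv⟩ => ⟨v, hv⟩⟩
    refine ⟨j, ?_, e ▸ hj⟩
    by_contra hlt
    have : 2 ^ 5 ≤ (blk x).card := e ▸ hj ▸ Nat.pow_le_pow_right (by norm_num) (by omega)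
    have h2 := Finset.card_le_univ (blk x)
    rw [show Fintype.card GolayPt = 24 from rfl] at h2
    omega
  have hblk_g : ∀ (g : P) x, (blk ((g : Equiv.Perm GolayPt) x)).card = (blk x).card := fun g x => by
    rw [← Finset.card_map (f := (g : Equiv.Perm GolayPt).toEmbedding) (s := blk x)]
    congr 1
    ext y
    simp only [blk, Finset.mem_filter, Finset.mem_univ, true_and, Finset.mem_map_equiv]
    refine ⟨fun h => ?_, fun h => ?_⟩
    · have := hmove g⁻¹ _ _ h
      rwa [Subgroup.coe_inv, Equiv.Perm.coe_inv, Equiv.symm_apply_apply] at this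
    · have := hmove g _ _ h
      rwa [Equiv.apply_symm_apply] at this
  -- enough common fixed points give the octad
  suffices h8 : 8 ≤ (Finset.univ.filter fun p => ∀ v : V, ((v : P) : Equiv.Perm GolayPt) p = p).card by
    set F := Finset.univ.filter fun p => ∀ v : V, ((v : P) : Equiv.Perm GolayPt) p = p with hF
    haveI : Nontrivial V := Finite.one_lt_card_iff_nontrivial.1 (by rw [hV16]; norm_num)
    obtain ⟨v, hv⟩ := exists_ne (1 : V)
    have hsub : F ⊆ Finset.univ.filter fun p => ((v : P) : Equiv.Perm GolayPt) p = p := fun p hp => by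
      simp only [hF, Finset.mem_filter, Finset.mem_univ, true_and] at hp ⊢
      exact hp v
    have h1 := Finset.card_le_card hsub
    have he := Finset.eq_of_subset_of_card_le hsub (by have := (hfix v hv).1; omega)
    have ho : F ∈ octads := he ▸ (hfix v hv).2 (by omega)
    refine ⟨F, ho, eq_of_le_of_card_ge (fun g hg => mem_octStab.2 ⟨hP hg, ?_⟩) (by rw [card_octStab ho, hc])⟩
    refine Finset.eq_of_subset_of_card_le (fun y hy => ?_) (by rw [Finset.card_smul_finset])
    obtain ⟨x, hx, rfl⟩ := Finset.mem_smul_finset.1 hy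
    simp only [hF, Finset.mem_filter, Finset.mem_univ, true_and] at hx ⊢
    intro w
    have h := hx ⟨(⟨g, hg⟩ : P)⁻¹ * (w : P) * (⟨g, hg⟩ : P)⁻¹⁻¹,
      (inferInstance : ψ.ker.Normal).conj_mem _ w.2 _⟩
    simp only [Subgroup.coe_mul, Subgroup.coe_inv, inv_inv, Equiv.Perm.mul_apply] at h
    have h' := congrArg g h
    rw [← Equiv.Perm.mul_apply, mul_inv_cancel, Equiv.Perm.one_apply] at h'
    exact h'
  -- an invariant orbit of less than sixteen points has at most two points
  have hsingle : ∀ x, (∀ g : P, g • om x = om x) → (blk x).card = 16 ∨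
      ∀ g : P, orderOf g = 7 → ∀ y ∈ blk x, (g : Equiv.Perm GolayPt) y = y := by
    intro x hx
    obtain ⟨j, hj4, hj⟩ := hblk x
    rcases eq_or_ne j 4 with rfl | hne
    · exact .inl hj
    right
    let B := {y // om y = om x}
    have hB : Nat.card B = (blk x).card := by
      rw [Nat.card_eq_fintype_card]; exact Fintype.card_of_subtype _ fun y => by simp [blk]
    letI : MulAction P B :=
      { smul := fun g y => ⟨(g : Equiv.Perm GolayPt) y.1, by rw [← hsm, y.2, hx]⟩
        one_smul := fun y => Subtype.ext rfl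
        mul_smul := fun g h y => Subtype.ext rfl }
    intro g hg y hy
    rcases lt_or_ge j 3 with hj3 | hj3
    · -- fewer than seven points
      have hlt : Nat.card B < 7 := by
        rw [hB, hj]
        have : 2 ^ j ≤ 2 ^ 2 := Nat.pow_le_pow_right (by norm_num) (by omega)
        omega
      have h := pow_card_eq_one' (x := toPermHom P B g)
      rw [Nat.card_perm] at h
      have h7 : orderOf (toPermHom P B g) ∣ 7 := hg ▸ orderOf_map_dvd _ g
      rcases (Nat.dvd_prime (by norm_num)).1 h7 with e | e
      · exact congrArg Subtype.val (Equiv.ext_iff.1 (orderOf_eq_one_iff.1 e) ⟨y, by simpa [blk] using hy⟩)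
      · have h7' := (orderOf_dvd_of_pow_eq_one h)
        rw [e] at h7'
        exact absurd ((Nat.Prime.dvd_factorial (by norm_num)).1 h7') (by omega)
    · exfalso
      obtain rfl : j = 3 := by omega
      have h8 : Nat.card B = 8 := by rw [hB, hj]; norm_num
      have hne : ψ.ker.map (toPermHom P B) ≠ ⊥ ∧ 8 ≤ Nat.card (ψ.ker.map (toPermHom P B)) := by
        have hsur : ∀ b : B, ∃ σ : ψ.ker.map (toPermHom P B), (σ : Equiv.Perm B) ⟨x, rfl⟩ = b := by
          rintro ⟨b, hb⟩
          obtain ⟨v, hv⟩ := (hom b x).1 hb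
          exact ⟨⟨_, mem_map_of_mem _ v.2⟩, Subtype.ext hv⟩
        choose σ hσ using hsur
        have hinj : Function.Injective σ := fun a b e => by rw [← hσ a, ← hσ b, e]
        have := Nat.card_le_card_of_injective σ hinj
        rw [h8] at this
        exact ⟨fun h => by rw [h, card_bot] at this; omega, this⟩
      have hK := kernel_large hc hs (toPermHom P B) (b := 8) (.inr hne.2) (by rw [h8]; decide) (.inr hne.1)
      obtain ⟨g₀, hgK, hg₀⟩ := exists_seven hc hs hK
      have h3 := MathieuBlocks.seven_fixed_card (hP g₀.2) (by rw [← hg₀, orderOf_coe])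
      have : blk x ⊆ Finset.univ.filter fun p => (g₀ : Equiv.Perm GolayPt) p = p := fun p hp => by
        simp only [blk, Finset.mem_filter, Finset.mem_univ, true_and] at hp ⊢
        exact congrArg Subtype.val (Equiv.ext_iff.1 (MonoidHom.mem_ker.1 hgK) ⟨p, hp⟩)
      have := Finset.card_le_card this
      rw [hj, h3] at this
      omega
  -- an orbit of the group on the orbits: one, or at least eight
  have hlong : ∀ x, (∀ g : P, g • om x = om x) ∨ 8 ≤ Nat.card (orbit P (om x)) := by
    intro x
    by_contra h
    push Not at h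
    obtain ⟨⟨g, hg⟩, hlt⟩ := h
    let Y := orbit P (om x)
    have hf : Nat.factorial (Nat.card Y) < 20160 :=
      lt_of_le_of_lt (Nat.factorial_le (show Nat.card Y ≤ 7 from Nat.lt_succ_iff.1 hlt)) (by decide)
    have hker : ψ.ker.map (toPermHom P Y) = ⊥ := by
      rw [Subgroup.map_eq_bot_iff]
      intro v hv
      refine Equiv.ext fun y => Subtype.ext ?_
      obtain ⟨q, hq⟩ := y
      obtain ⟨z, rfl⟩ := Quotient.exists_rep q
      show v • om z = om z
      rw [hsm]
      exact (hom _ _).2 ⟨⟨v, hv⟩, rfl⟩
    have hK := kernel_large hc hs (toPermHom P Y) (b := 1) (.inl hker) (by omega) (.inl hf)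
    apply hg
    obtain ⟨k, hk', ek⟩ : ψ g ∈ (toPermHom P Y).ker.map ψ := hK ▸ mem_top _
    have hgk : k⁻¹ * g ∈ ψ.ker := by rw [MonoidHom.mem_ker, map_mul, map_inv, ek, inv_mul_cancel]
    have h1 : (toPermHom P Y) g = 1 := by
      have h2 : toPermHom P Y (k⁻¹ * g) = 1 := (Subgroup.map_eq_bot_iff _).1 hker hgk
      rw [map_mul, map_inv, MonoidHom.mem_ker.1 hk', inv_one, one_mul] at h2
      exact h2
    exact congrArg Subtype.val (Equiv.ext_iff.1 h1 ⟨om x, mem_orbit_self _⟩)
  -- counting
  have hfixed : ∀ y, (blk y).card = 1 → ∀ v : V, ((v : P) : Equiv.Perm GolayPt) y = y := fun y hy v => by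
    obtain ⟨a, ha⟩ := Finset.card_eq_one.1 hy
    have h1 : ((v : P) : Equiv.Perm GolayPt) y ∈ blk y :=
      Finset.mem_filter.2 ⟨Finset.mem_univ _, (hom _ _).2 ⟨v, rfl⟩⟩
    have h2 : y ∈ blk y := Finset.mem_filter.2 ⟨Finset.mem_univ _, rfl⟩
    rw [ha, Finset.mem_singleton] at h1 h2
    rw [h1, ← h2]
  by_cases hall : ∀ x, ∀ g : P, g • om x = om x
  · -- every orbit invariant
    exfalso
    obtain ⟨g, -, hg⟩ := exists_seven hc hs (K := ⊤) (by rw [← MonoidHom.range_eq_map, MonoidHom.range_eq_top.2 hs])
    have h3 := MathieuBlocks.seven_fixed_card (hP g.2) (by rw [← hg, orderOf_coe])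
    have h16 : ∀ x, (g : Equiv.Perm GolayPt) x ≠ x → (blk x).card = 16 := fun x hx =>
      (hsingle x (hall x)).resolve_right fun h => hx (h g hg x (Finset.mem_filter.2 ⟨Finset.mem_univ _, rfl⟩))
    obtain ⟨x, hx⟩ : ∃ x, (g : Equiv.Perm GolayPt) x ≠ x := by
      by_contra hn
      push Not at hn
      rw [Finset.filter_true_of_mem (fun p _ => hn p)] at h3
      exact absurd h3 (by decide)
    have hsub : (Finset.univ : Finset GolayPt) ⊆ blk x ∪ (Finset.univ.filter fun p => (g : Equiv.Perm GolayPt) p = p) := by
      intro y _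
      by_cases hy : (g : Equiv.Perm GolayPt) y = y
      · exact Finset.mem_union_right _ (by simp [hy])
      · refine Finset.mem_union_left _ ?_
        by_contra hne
        have hd : Disjoint (blk x) (blk y) := Finset.disjoint_left.2 fun p hp hp' => by
          simp only [blk, Finset.mem_filter, Finset.mem_univ, true_and] at hp hp' hne
          exact hne (hp'.symm.trans hp)
        have := Finset.card_le_univ (blk x ∪ blk y)
        rw [Finset.card_union_of_disjoint hd, h16 x hx, h16 y hy, show Fintype.card GolayPt = 24 from rfl] at this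
        omega
    have := Finset.card_le_card hsub
    have hu := Finset.card_union_le (blk x) (Finset.univ.filter fun p => (g : Equiv.Perm GolayPt) p = p)
    rw [h16 x hx, h3] at hu
    rw [Finset.card_univ, show Fintype.card GolayPt = 24 from rfl] at this
    omega
  · push Not at hall
    obtain ⟨x, g, hg⟩ := hall
    have h8 : 8 ≤ Nat.card (orbit P (om x)) := (hlong x).resolve_left fun h => hg (h g)
    -- the union of this orbit of orbits
    haveI := Fintype.ofFinite Ω
    let Y : Finset Ω := Finset.univ.filter fun q => q ∈ orbit P (om x)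
    have hY : 8 ≤ Y.card := by
      rw [show Y.card = Nat.card (orbit P (om x)) by
        rw [Nat.card_eq_fintype_card]; exact (Fintype.card_of_subtype _ fun q => by simp [Y]).symm]
      exact h8
    let U : Finset GolayPt := Finset.univ.filter fun y => om y ∈ orbit P (om x)
    have hUcard : U.card = Y.card * (blk x).card := by
      rw [Finset.card_eq_sum_card_fiberwise (f := om) (t := Y) (fun y hy => by simpa [U, Y] using hy),
        Finset.sum_const_nat]
      intro q hq
      obtain ⟨h, rfl⟩ : q ∈ orbit P (om x) := by simpa [Y] using hq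
      rw [← hblk_g h x]
      congr 1
      ext y
      simp only [U, blk, Finset.mem_filter, Finset.mem_univ, true_and]
      exact ⟨fun e => e.2, fun e => ⟨⟨h, e.symm⟩, e⟩⟩
    obtain ⟨j, -, hj⟩ := hblk x
    rcases Nat.eq_zero_or_pos j with rfl | hj0
    · refine le_trans ?_ (Finset.card_le_card (s := U) fun y hy => Finset.mem_filter.2
        ⟨Finset.mem_univ _, hfixed y ?_⟩)
      · rw [hUcard, hj, pow_zero, mul_one]; exact hY
      · simp only [U, Finset.mem_filter, Finset.mem_univ, true_and] at hy
        obtain ⟨h, e⟩ := hy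
        have : blk y = blk ((h : Equiv.Perm GolayPt) x) := by
          simp only [blk]; rw [← (show h • om x = om y from e), hsm]
        rw [this, hblk_g, hj, pow_zero]
    · exfalso
      have hUle := Finset.card_le_univ U
      rw [hUcard, hj, show Fintype.card GolayPt = 24 from rfl] at hUle
      have h2j : 2 ^ 1 ≤ 2 ^ j := Nat.pow_le_pow_right (by norm_num) hj0
      have hYle : Y.card ≤ 9 := (Finset.card_le_univ Y).trans (by rw [← Nat.card_eq_fintype_card]; exact hΩ)
      -- there is a further orbit, of at most eight points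
      have hU16 : 16 ≤ U.card := by
        rw [hUcard, hj]
        calc 16 = 8 * 2 ^ 1 := by norm_num
          _ ≤ Y.card * 2 ^ j := Nat.mul_le_mul hY h2j
      have hU24 : U.card ≠ 24 := fun h => by
        rw [hUcard, hj] at h
        have hj1 : j = 1 := by
          by_contra hne
          have : 2 ^ 2 ≤ 2 ^ j := Nat.pow_le_pow_right (by norm_num) (by omega)
          have := Nat.mul_le_mul hY this
          omega
        rw [hj1] at h
        omega
      obtain ⟨y, hy⟩ : ∃ y, y ∉ U := by
        by_contra hn
        push Not at hn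
        exact hU24 (by rw [Finset.eq_univ_of_forall hn]; rfl)
      have hdisj : Y.card + 1 ≤ Nat.card Ω := by
        rw [Nat.card_eq_fintype_card, ← Finset.card_univ]
        refine Finset.card_lt_card (Finset.ssubset_univ_iff.2 fun h => hy ?_)
        have : om y ∈ Y := h ▸ Finset.mem_univ _
        simpa [U, Y] using this
      have hone : ∀ y', y' ∉ U → om y' = om y := by
        intro y' hy'
        by_contra hne
        have : Y.card + 2 ≤ Nat.card Ω := by
          rw [Nat.card_eq_fintype_card, ← Finset.card_univ]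
          have hsub : insert (om y') (insert (om y) Y) ⊆ Finset.univ := Finset.subset_univ _
          refine le_trans (le_of_eq ?_) (Finset.card_le_card hsub)
          rw [Finset.card_insert_of_notMem, Finset.card_insert_of_notMem]
          · simpa [U, Y] using hy
          · rw [Finset.mem_insert]; push Not; exact ⟨hne, by simpa [U, Y] using hy'⟩
        omega
      have hrest : blk y = Uᶜ := by
        ext p
        simp only [blk, Finset.mem_filter, Finset.mem_univ, true_and, Finset.mem_compl]
        refine ⟨fun e h => hy ?_, hone p⟩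
        simp only [U, Finset.mem_filter, Finset.mem_univ, true_and] at h ⊢
        rwa [← e]
      have hinv : ∀ h : P, h • om y = om y := fun h => by
        rw [hsm]
        refine hone _ fun hm => hy ?_
        simp only [U, Finset.mem_filter, Finset.mem_univ, true_and] at hm ⊢
        rw [← hsm] at hm
        obtain ⟨k, e⟩ := hm
        exact ⟨h⁻¹ * k, (mul_smul _ _ _).trans (by rw [show k • om x = h • om y from e, inv_smul_smul])⟩
      have hcard : (blk y).card + U.card = 24 := by
        rw [hrest, Finset.card_compl_add_card]; rfl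
      rcases hsingle y hinv with h16 | h16
      · omega
      obtain ⟨g₀, -, hg₀⟩ := exists_seven hc hs (K := ⊤) (by rw [← MonoidHom.range_eq_map, MonoidHom.range_eq_top.2 hs])
      have h3 := MathieuBlocks.seven_fixed_card (hP g₀.2) (by rw [← hg₀, orderOf_coe])
      have := Finset.card_le_card (show blk y ⊆ Finset.univ.filter fun p => (g₀ : Equiv.Perm GolayPt) p = p from
        fun p hp => by simp [h16 g₀ hg₀ p hp])
      rw [h3] at this
      rw [hUcard, hj] at hcard
      obtain ⟨j', hj', e'⟩ := hblk y
      have hj1 : j = 1 := by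
        by_contra hne
        have : 2 ^ 2 ≤ 2 ^ j := Nat.pow_le_pow_right (by norm_num) (by omega)
        have := Nat.mul_le_mul hY this
        omega
      rw [hj1] at hcard
      omega

end

end CfsgLib.CoOneRec
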