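import Cfsg.Agent.Lib.CoOneRec.Basic
import Cfsg.Agent.Lib.CoOneRec.NQuot
import Cfsg.Agent.Lib.CoOneRec.NLabel
import Cfsg.Agent.Lib.CoOneRec.CodeHom
import Cfsg.Agent.Lib.CoOneRec.OctStabUnique
import Cfsg.Agent.Lib.CoType.TwoSplit
import Cfsg.Agent.Lib.Solvable.Gaschutz

/-!
The monomial group of the model is the normalizer of the group of order 2048.
-/

set_option autoImplicit false
set_option linter.style.haveILetI false
set_option linter.unusedSectionVars false

namespace CfsgLib.CoOneRec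

open Subgroup Cfsg CfsgLib.Golay CfsgLib.M24Cert CfsgLib.Leech CfsgLib.Leech.CoTwo CfsgLib.Leech.CoOne

open scoped Pointwise symmDiff

theorem stabUnique : StabUnique := fun P hP hc ψ hs hk =>
  stab_unique (P := P) hP hc (ψ := ψ) hs hk

theorem negAut_mono : negAut = monoAut 1 (one_mem M24) Finset.univ codeSet_univ :=
  co_ext fun v => Subtype.ext (funext fun i => by
    rw [coe_monoAut_smul, coe_negAut_smul, Pi.neg_apply]
    simp [signedPerm, Equiv.Perm.one_def])

theorem toSet_outMask : toSet outMask = Finset.univ ∆ O0 := by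
  rw [show outMask = allMask ^^^ octMask from rfl, toSet_xor, toSet_allMask]

variable {G : Type*} [Group G] [Finite G] {z : G} {Q : Subgroup G}
  {π : G → CfsgLib.CoType.V8} {ρ : G → CfsgLib.Classical.qAut CfsgLib.CoType.qm}

/-- The code onto the group of order 2048, compatibly with the action. -/
theorem exists_code_map (X : CfsgLib.CoType.Ctx z Q π ρ) (φ : X.N →* Equiv.Perm GolayPt)
    (hr : φ.range = M24) (hc : ∀ n : X.N, φ n • O0 = O0 ↔ (n : G) ∈ centralizer ({z} : Set G)) :
    ∃ L : Finset GolayPt → G, (∀ c d, L (c ∆ d) = L c * L d) ∧ L Finset.univ = 1 ∧ L O0 = z ∧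
      (∀ c, L c ∈ X.A) ∧ (∀ u ∈ X.A, ∃ c, CodeSet c ∧ L c = u) ∧
      ∀ (n : X.N) (c : Finset GolayPt), CodeSet c → L (φ n • c) = (n : G) * L c * (n : G)⁻¹ := by
  classical
  obtain ⟨a, La⟩ := exists_oct_label X φ hr hc
  obtain ⟨h4, h0⟩ := label_relations X φ hr hc La
  letI iA : CommGroup X.A := { (inferInstance : Group X.A) with
    mul_comm := fun x y => Subtype.ext (X.a_comm x.2 y.2) }
  let aA : Finset GolayPt → X.A := fun o => if h : o ∈ octads then ⟨a o, (X.orb_A (La.orb o h)).1⟩ else 1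
  have haA : ∀ o ∈ octads, (aA o : G) = a o := fun o ho => by simp only [aA, dif_pos ho]
  have hmem4 : ∀ o ∈ octads, ∀ o2 ∈ octads, (o ∩ o2).card = 4 → o ∆ o2 ∈ octads := fun o ho o2 ho2 h => by
    refine ⟨codeSet_symmDiff ho.1 ho2.1, ?_⟩
    have := Golay.card_symmDiff_add o o2
    rw [ho.2, ho2.2, h] at this
    omega
  have hmem0 : ∀ o ∈ octads, ∀ o2 ∈ octads, (o ∩ o2).card = 0 → Finset.univ ∆ (o ∆ o2) ∈ octads :=
    fun o ho o2 ho2 h => by
    refine ⟨codeSet_symmDiff codeSet_univ (codeSet_symmDiff ho.1 ho2.1), ?_⟩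
    have := Golay.card_symmDiff_add o o2
    have h2 := Golay.card_symmDiff_add (Finset.univ : Finset GolayPt) (o ∆ o2)
    rw [Finset.univ_inter, Finset.card_univ, Fintype.card_congr ptEquiv, Fintype.card_fin] at h2
    rw [ho.2, ho2.2, h] at this
    omega
  obtain ⟨L0, hu, hoct, hmul⟩ := code_hom (M := X.A) (fun x => Subtype.ext (X.a_sq x.2)) aA
    (fun o ho o2 ho2 h => Subtype.ext (by
      rw [coe_mul, haA o ho, haA o2 ho2, haA _ (hmem4 o ho o2 ho2 h), h4 o ho o2 ho2 h]))
    (fun o ho o2 ho2 h => Subtype.ext (by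
      rw [coe_mul, haA o ho, haA o2 ho2, haA _ (hmem0 o ho o2 ho2 h), h0 o ho o2 ho2 h]))
  have hm : ∀ c d, (L0 (c ∆ d) : G) = L0 c * L0 d := fun c d => by rw [hmul, coe_mul]
  have ho' : ∀ o ∈ octads, (L0 o : G) = a o := fun o ho => by rw [hoct o ho, haA o ho]
  refine ⟨fun c => L0 c, hm, (congrArg Subtype.val hu).trans rfl, (ho' O0 octMask_octad).trans La.base, fun c => (L0 c).2,
    fun u hu' => ?_, fun n c hcode => ?_⟩
  · let I : Subgroup G :=
      { carrier := {g | ∃ c, CodeSet c ∧ (L0 c : G) = g}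
        one_mem' := ⟨Finset.univ, codeSet_univ, by rw [hu]; rfl⟩
        mul_mem' := by
          rintro _ _ ⟨c, hc', rfl⟩ ⟨d, hd, rfl⟩
          exact ⟨c ∆ d, codeSet_symmDiff hc' hd, hm c d⟩
        inv_mem' := by
          rintro _ ⟨c, hc', rfl⟩
          exact ⟨c, hc', (inv_eq_of_mul_eq_one_right (X.a_sq (L0 c).2)).symm⟩ }
    have hle : X.A ≤ I := by
      rw [← X.closure_orb, closure_le]
      intro v hv
      obtain ⟨o, ho, e⟩ := La.surj v hv
      exact ⟨o, ho.1, (ho' o ho).trans e⟩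
    exact hle hu'
  · have hM : φ n ∈ M24 := hr ▸ ⟨n, rfl⟩
    refine code_ext (f := fun c => (L0 (φ n • c) : G)) (g := fun c => (n : G) * L0 c * (n : G)⁻¹)
      (fun c d _ _ => by rw [Finset.smul_finset_symmDiff, hm]) (fun c d _ _ => by rw [hm]; group)
      (fun o ho => ?_) hcode
    show (L0 (φ n • o) : G) = (n : G) * L0 o * (n : G)⁻¹
    rw [ho' o ho, ho' _ (octads_smul hM ho), La.equiv n o ho]

/-- The quotient splits. -/
theorem exists_section (X : CfsgLib.CoType.Ctx z Q π ρ) (φ : X.N →* Equiv.Perm GolayPt)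
    (hr : φ.range = M24) (hk : φ.ker = X.AN) :
    ∃ k : M24 →* X.N, ∀ σ, φ (k σ) = σ := by
  classical
  haveI := X.an_normal
  obtain ⟨K, hKle, hKA, hKsup⟩ := X.exists_complement_NC
  have hU : (X.NC.subgroupOf X.N).index = 759 := by
    have h := (X.NC.subgroupOf X.N).card_mul_index
    have hle : X.NC ≤ X.N := inf_le_left
    have e : Nat.card (X.NC.subgroupOf X.N) = Nat.card X.NC := Nat.card_congr (subgroupOfEquivOfLe hle).toEquiv
    rw [X.card_N, X.card_O, e, X.card_NC] at h
    omega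
  obtain ⟨H, hH⟩ := CfsgLib.Solvable.gaschutz_exists X.AN (X.NC.subgroupOf X.N)
    (fun x hx y hy => Subtype.ext (X.a_comm hx hy))
    (fun x hx => ⟨x.2, X.a_le hx⟩)
    (by rw [X.card_AN, hU]; norm_num)
    (K.subgroupOf X.N) (fun x hx => hKle hx) (by
      rw [eq_bot_iff]
      rintro x ⟨hx, hx'⟩
      rw [mem_bot]
      refine Subtype.ext ?_
      have : (x : G) ∈ X.A ⊓ K := ⟨hx', hx⟩
      rwa [hKA, mem_bot] at this) (by
      rw [show X.AN = X.A.subgroupOf X.N from rfl, ← subgroupOf_sup X.a_le_N (hKle.trans inf_le_left), hKsup])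
  let f : H →* M24 := (φ.comp H.subtype).codRestrict M24 fun h => hr ▸ ⟨h, rfl⟩
  have hinj : Function.Injective f := by
    rw [injective_iff_map_eq_one]
    intro h hh
    have h1 : (h : X.N) ∈ X.AN := hk ▸ (congrArg Subtype.val hh : φ (h : X.N) = 1)
    have h2 : (h : X.N) ∈ X.AN ⊓ H := ⟨h1, h.2⟩
    rw [disjoint_iff.1 hH.disjoint, mem_bot] at h2
    exact Subtype.ext h2
  have hsurj : Function.Surjective f := by
    rintro ⟨σ, hσ⟩
    obtain ⟨n, hn⟩ : σ ∈ φ.range := hr ▸ hσ
    obtain ⟨⟨⟨u, hu⟩, ⟨h, hh⟩⟩, e⟩ := hH.2 n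
    refine ⟨⟨h, hh⟩, Subtype.ext ?_⟩
    show φ h = σ
    rw [← hn, ← show u * h = n from e, map_mul, show φ u = 1 from (hk.symm ▸ hu : u ∈ φ.ker), one_mul]
  let E : H ≃* M24 := MulEquiv.ofBijective f ⟨hinj, hsurj⟩
  exact ⟨H.subtype.comp E.symm.toMonoidHom, fun σ =>
    congrArg Subtype.val (E.apply_symm_apply σ)⟩

/-- The monomial group of the model is isomorphic to the normalizer. -/
theorem exists_iN (X : CfsgLib.CoType.Ctx z Q π ρ) :
    ∃ iN : Nm →* G, Function.Injective iN ∧ iN.range = X.N ∧ ∀ h : zOne ∈ Nm, iN ⟨zOne, h⟩ = z := by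
  classical
  obtain ⟨φ, hr, hk, hc⟩ := exists_phi X stabUnique O0 octMask_octad
  obtain ⟨L, hm, hLu, hL0, hLA, hLsurj, hLeq⟩ := exists_code_map X φ hr hc
  obtain ⟨k, hk'⟩ := exists_section X φ hr hk
  have dec : ∀ g : crossStab, ∃ σ : M24, ∃ c : {c : Finset GolayPt // CodeSet c},
      (g : Co0) = monoAut σ.1 σ.2 c.1 c.2 := fun g => by
    obtain ⟨σ, hσ, c, hcd, e⟩ := exists_monoAut_of_mem g.2
    exact ⟨⟨σ, hσ⟩, ⟨c, hcd⟩, e⟩
  choose sg cd hdec using dec
  have uniq : ∀ (g : crossStab) (σ : Equiv.Perm GolayPt) (hσ : σ ∈ M24) (c : Finset GolayPt) (hcd : CodeSet c),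
      (g : Co0) = monoAut σ hσ c hcd → L (cd g).1 * (k (sg g) : G) = L c * (k ⟨σ, hσ⟩ : G) := by
    intro g σ hσ c hcd e
    obtain ⟨e1, e2⟩ := monoAut_injective ((hdec g).symm.trans e)
    rw [e2, show sg g = ⟨σ, hσ⟩ from Subtype.ext e1]
  let F : crossStab →* G := MonoidHom.mk' (fun g => L (cd g).1 * (k (sg g) : G)) fun g g' => by
    have e : ((g * g' : crossStab) : Co0) = monoAut ((sg g).1 * (sg g').1) (mul_mem (sg g).2 (sg g').2)
        ((cd g).1 ∆ ((sg g).1 • (cd g').1))
        (codeSet_symmDiff (cd g).2 (supports_smul (sg g).2 (cd g').2)) := by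
      rw [coe_mul, hdec g, hdec g', monoAut_mul]
    rw [uniq _ _ _ _ _ e]
    rw [hm, show (⟨(sg g).1 * (sg g').1, mul_mem (sg g).2 (sg g').2⟩ : M24) = sg g * sg g' from rfl,
      map_mul, coe_mul]
    conv_lhs => rw [← hk' (sg g), hLeq _ _ (cd g').2]
    group
  let q : crossStab →* Nm := mkOne.subgroupMap crossStab
  have hq : Function.Surjective q := mkOne.subgroupMap_surjective crossStab
  have hF1 : ∀ g : crossStab, F g = 1 ↔ (g : Co0) = 1 ∨ (g : Co0) = negAut := by
    intro g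
    constructor
    · intro h
      have h' : L (cd g).1 * (k (sg g) : G) = 1 := h
      have hkA : (k (sg g) : G) ∈ X.A := by
        rw [eq_inv_of_mul_eq_one_right h']
        exact inv_mem (hLA _)
      have hs1 : (sg g).1 = 1 := by
        rw [← hk' (sg g)]
        exact (hk.symm ▸ hkA : k (sg g) ∈ φ.ker)
      have hs : sg g = 1 := Subtype.ext hs1
      rw [hs, map_one, coe_one, mul_one] at h'
      -- the kernel of the code map
      haveI : Finite {c : Finset GolayPt // CodeSet c} := inferInstance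
      have hcard : Nat.card {c : Finset GolayPt // CodeSet c} = 4096 := by
        rw [← ncard_supports]
        exact Nat.card_coe_set_eq _
      let Z := {c : Finset GolayPt // CodeSet c ∧ L c = 1}
      have hfib : ∀ u : X.A, Nat.card {c : {c : Finset GolayPt // CodeSet c} // (⟨L c.1, hLA c.1⟩ : X.A) = u} =
          Nat.card Z := by
        rintro ⟨u, hu⟩
        obtain ⟨c0, hc0, rfl⟩ := hLsurj u hu
        exact Nat.card_congr
          { toFun := fun c => ⟨c.1.1 ∆ c0, codeSet_symmDiff c.1.2 hc0, by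
              rw [hm, show L c.1.1 = L c0 from congrArg Subtype.val c.2, X.a_sq (hLA c0)]⟩
            invFun := fun d => ⟨⟨d.1 ∆ c0, codeSet_symmDiff d.2.1 hc0⟩, Subtype.ext (by
              show L (d.1 ∆ c0) = L c0
              rw [hm, d.2.2, one_mul])⟩
            left_inv := fun c => Subtype.ext (Subtype.ext (symmDiff_symmDiff_cancel_right _ _))
            right_inv := fun d => Subtype.ext (symmDiff_symmDiff_cancel_right _ _) }
      haveI := Fintype.ofFinite X.A
      have hsum := Nat.card_congr (Equiv.sigmaFiberEquiv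
        fun c : {c : Finset GolayPt // CodeSet c} => (⟨L c.1, hLA c.1⟩ : X.A))
      rw [Nat.card_sigma, Finset.sum_congr rfl (fun u _ => hfib u), Finset.sum_const, Finset.card_univ,
        ← Nat.card_eq_fintype_card, X.card_A, smul_eq_mul, hcard] at hsum
      have hZ : Nat.card Z = 2 := by omega
      have hne : (∅ : Finset GolayPt) ≠ Finset.univ := fun e => by
        have := congrArg Finset.card e
        rw [Finset.card_empty, Finset.card_univ, Fintype.card_congr ptEquiv, Fintype.card_fin] at this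
        omega
      have hL1 : L ∅ = 1 := by
        have := hm ∅ ∅
        rw [symmDiff_self, Finset.bot_eq_empty, X.a_sq (hLA ∅)] at this
        exact this
      obtain ⟨x, y, -, hxy⟩ := Nat.card_eq_two_iff.1 hZ
      have mem2 : ∀ w : Z, w = x ∨ w = y := fun w => by
        have : w ∈ ({x, y} : Set Z) := hxy ▸ Set.mem_univ w
        simpa using this
      have hcases : (cd g).1 = ∅ ∨ (cd g).1 = Finset.univ := by
        rcases mem2 ⟨(cd g).1, (cd g).2, h'⟩ with e | e <;> rcases mem2 ⟨∅, codeSet_empty, hL1⟩ with e0 | e0 <;>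
          rcases mem2 ⟨Finset.univ, codeSet_univ, hLu⟩ with e1 | e1
        all_goals first
          | exact absurd (congrArg Subtype.val (e0.trans e1.symm)) hne
          | exact Or.inl (congrArg Subtype.val (e.trans e0.symm))
          | exact Or.inr (congrArg Subtype.val (e.trans e1.symm))
      rcases hcases with e | e
      · exact Or.inl ((hdec g).trans ((monoAut_congr hs1 e).trans monoAut_one))
      · exact Or.inr ((hdec g).trans ((monoAut_congr hs1 e).trans negAut_mono.symm))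
    · intro h
      show L (cd g).1 * (k (sg g) : G) = 1
      rcases h with h | h
      · rw [uniq g 1 (one_mem _) ∅ codeSet_empty (h.trans monoAut_one.symm),
          show (⟨1, one_mem M24⟩ : M24) = 1 from rfl, map_one, coe_one, mul_one]
        have := hm ∅ ∅
        rw [symmDiff_self, Finset.bot_eq_empty, X.a_sq (hLA ∅)] at this
        exact this
      · rw [uniq g 1 (one_mem _) Finset.univ codeSet_univ (h.trans negAut_mono),
          show (⟨1, one_mem M24⟩ : M24) = 1 from rfl, map_one, coe_one, mul_one, hLu]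
  have hqker : ∀ g : crossStab, q g = 1 ↔ (g : Co0) = 1 ∨ (g : Co0) = negAut := fun g => by
    rw [Subtype.ext_iff]
    show mkOne (g : Co0) = 1 ↔ _
    rw [← map_one mkOne, mkOne_eq, mul_one]
  have hle : q.ker ≤ F.ker := fun g hg => (hF1 g).2 ((hqker g).1 hg)
  let iN : Nm →* G := MonoidHom.liftOfSurjective q hq ⟨F, hle⟩
  have hi : ∀ g, iN (q g) = F g := fun g => MonoidHom.liftOfRightInverse_comp_apply _ _ _ _ g
  refine ⟨iN, ?_, ?_, fun h => ?_⟩
  · rw [injective_iff_map_eq_one]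
    intro x hx
    obtain ⟨g, rfl⟩ := hq x
    rw [hi] at hx
    exact (hqker g).2 ((hF1 g).1 hx)
  · ext x
    constructor
    · rintro ⟨y, rfl⟩
      obtain ⟨g, rfl⟩ := hq y
      rw [hi]
      exact mul_mem (X.a_le_N (hLA _)) (k (sg g)).2
    · intro hx
      set σ : M24 := ⟨φ ⟨x, hx⟩, hr ▸ ⟨⟨x, hx⟩, rfl⟩⟩ with hσ
      have h1 : (⟨x, hx⟩ : X.N) * (k σ)⁻¹ ∈ X.AN := by
        rw [← hk, MonoidHom.mem_ker, map_mul, map_inv, hk' σ, mul_inv_cancel]
      obtain ⟨c, hcd, ec⟩ := hLsurj _ (show x * ((k σ : X.N) : G)⁻¹ ∈ X.A from h1)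
      refine ⟨q ⟨monoAut σ.1 σ.2 c hcd, monoAut_mem _ _ _ _⟩, ?_⟩
      rw [hi]
      show L _ * _ = x
      rw [uniq _ σ.1 σ.2 c hcd rfl, ec]
      exact inv_mul_cancel_right x ((k σ : X.N) : G)
  · have hmem : tAut ∈ crossStab := tAut_eq_mono ▸ monoAut_mem _ _ _ _
    have e : (⟨zOne, h⟩ : Nm) = q ⟨tAut, hmem⟩ := Subtype.ext rfl
    rw [e, hi]
    show L _ * _ = z
    rw [uniq _ 1 (one_mem _) (toSet outMask) outCode tAut_eq_mono,
      show (⟨1, one_mem M24⟩ : M24) = 1 from rfl, map_one, coe_one, mul_one, toSet_outMask, hm, hLu, one_mul, hL0]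

end CfsgLib.CoOneRec
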