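import Cfsg.Agent.Lib.CoType.TwoOrder
import Cfsg.Agent.Lib.CoType.TwoStab

/-!
The conjugates of the involution in the group of order 2048: two invariant families closed under
multiplication by the involution, and generation.
-/

set_option autoImplicit false
set_option linter.style.haveILetI false
set_option linter.unusedSectionVars false

namespace CfsgLib.CoType

open Subgroup CfsgLib.Classical

variable {G : Type*} [Group G] [Finite G] {z : G} {Q : Subgroup G} {π : G → V8} {ρ : G → qAut qm}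

theorem pf_wdg_zero : ∀ a b : Fin 4 → ZMod 2, pf (wdg a b) = 0 := by decide +kernel

theorem wv_of (v : V8) (hv : InW v) : ∃ a, wv a = v := by
  obtain ⟨a, ha⟩ : ∃ a : Fin 4 → ZMod 2, a = fun i => v (.inl i) := ⟨_, rfl⟩
  exact ⟨a, by rw [ha]; exact wv_of_inW hv⟩

namespace Ctx

variable (X : Ctx z Q π ρ)

include X

/-- The thirty conjugates inside the extraspecial group. -/
def OU : Set G := {u | u ∈ X.U ∧ u ≠ 1 ∧ u ≠ z}

theorem ou_conj {c u : G} (hc : c ∈ X.NC) (hu : u ∈ X.OU) : c * u * c⁻¹ ∈ X.OU := by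
  have hz : c * z * c⁻¹ = z := by
    rw [mem_centralizer_singleton_iff.1 hc.2, mul_inv_cancel_right]
  exact ⟨X.conj_U hc hu.1, fun h => hu.2.1 (conj_eq_one_iff.1 h),
    fun h => hu.2.2 (mul_left_cancel (mul_right_cancel (h.trans hz.symm)))⟩

theorem card_OU : Nat.card X.OU = 30 := by
  have e : X.OU = ((X.U : Set G) \ {1}) \ {z} := by
    ext u; simp [OU, and_assoc]
  rw [e, Nat.card_coe_set_eq, Set.ncard_diff_singleton_of_mem (show z ∈ (X.U : Set G) \ {1} from ⟨X.zU, X.T.S.z1⟩),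
    Set.ncard_diff_singleton_of_mem X.U.one_mem, ← Nat.card_coe_set_eq,
    show Nat.card ↥(X.U : Set G) = 32 from card_baseU X.T]

theorem ou_mem {u : G} (hu : u ∈ X.OU) : X.Orb u ∧ X.Orb (z * u) ∧ z * u ∈ X.OU := by
  have h1 : z * u ∈ X.U := mul_mem X.zU hu.1
  have h2 : z * u ≠ 1 := fun h => hu.2.2 (by
    rw [← mul_right_inj z, h, X.T.S.z2])
  exact ⟨X.orb_U hu.1 hu.2.1, X.orb_U h1 h2, h1, h2, fun h => hu.2.1 (mul_eq_left.1 h)⟩

/-- The conjugates over the forms of rank two. -/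
def OT : Set G := {u | u ∈ X.A ∧ (coord (ρ u) ≠ 0 ∧ pf (coord (ρ u)) = 0) ∧ X.Orb u}

theorem card_OT : Nat.card X.OT = 280 := by
  classical
  obtain ⟨u₁, b, hb, h8, -, -⟩ := X.line_facts
  have h := Nat.card_congr (α := (c : {c : Fin 6 → ZMod 2 // c ≠ 0 ∧ pf c = 0}) × X.OF c.1) (β := X.OT)
    { toFun := fun s => ⟨s.2.1, s.2.2.1, by rw [s.2.2.2.1]; exact s.1.2, s.2.2.2.2⟩
      invFun := fun u => ⟨⟨coord (ρ (u : G)), u.2.2.1⟩, ⟨u.1, u.2.1, rfl, u.2.2.2⟩⟩
      left_inv := by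
        rintro ⟨⟨c, hc'⟩, u⟩
        exact Sigma.subtype_ext (Subtype.ext u.2.2.1) rfl
      right_inv := fun _ => rfl }
  have h8' : ∀ c : {c : Fin 6 → ZMod 2 // c ≠ 0 ∧ pf c = 0}, Nat.card (X.OF c.1) = 8 := fun c => by
    obtain ⟨m, hm, e⟩ := X.line_move c.2.1 c.2.2 hb
    rw [← e, X.fibre_move hm hb.1, h8]
  rw [← h, Nat.card_sigma, Finset.sum_congr rfl fun c _ => h8' c, Finset.sum_const, Finset.card_univ,
    Fintype.card_subtype, counts_forms.1]
  rfl

theorem ot_outside {u : G} (hu : u ∈ X.OT) : u ∉ X.U := fun h => hu.2.1.1 (X.cd_U h)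

/-- A pair over a line: its orbits lie over the forms of rank two. -/
theorem exists_line_pair : ∃ b, b ∈ X.OT ∧ z * b ∈ X.OT ∧ ∀ c ∈ X.NC, c * b * c⁻¹ ∈ X.OT := by
  obtain ⟨b, hb, ho, -⟩ := X.exists_line_base
  have hb0 : X.Orb b := by have := ho 0; rwa [zb_zero, mul_one] at this
  have hb1 : X.Orb (z * b) := by
    have := ho 1
    rwa [zb_one, ← X.a_comm X.zA hb.1] at this
  have key : ∀ c ∈ X.NC, coord (ρ (c * b * c⁻¹)) ≠ 0 ∧ pf (coord (ρ (c * b * c⁻¹))) = 0 := fun c hc => by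
    have h := X.el_conj hc hb
    obtain ⟨-, hW⟩ := X.mem_NC.1 hc
    obtain ⟨a, ha⟩ := wv_of _ (hW _ (inW_fe 0))
    obtain ⟨a', ha'⟩ := wv_of _ (hW _ (inW_fe 1))
    rw [← ha, ← ha'] at h
    refine ⟨fun h0 => ?_, by rw [coord_of_el X.T.S h, pf_wdg_zero]⟩
    have hU : c * b * c⁻¹ ∈ X.U := by
      have h2 := (X.cd_eq_iff (one_mem _) (X.conj_A hc.1 hb.1)).1 (by rw [h0, X.cd_U (one_mem _)])
      rwa [inv_one, one_mul] at h2
    have hbU : b ∈ X.U := by
      have := X.conj_U (inv_mem hc) hU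
      rwa [show c⁻¹ * (c * b * c⁻¹) * c⁻¹⁻¹ = b by group] at this
    have h2 := coord_of_el X.T.S (a := bas 0) (b := bas 1) (by rw [wv_bas, wv_bas]; exact hb)
    rw [X.cd_U hbU] at h2
    exact absurd h2 (by decide)
  have h1 := key 1 (one_mem _)
  rw [one_mul, inv_one, mul_one] at h1
  refine ⟨b, ⟨hb.1, h1, hb0⟩, ⟨mul_mem X.zA hb.1, ?_, hb1⟩,
    fun c hc => ⟨X.conj_A hc.1 hb.1, key c hc, (X.orb_conj hc.1).2 hb0⟩⟩
  rwa [X.cd_mul X.zA hb.1, X.cd_U X.zU, zero_add]

/-- The conjugates generate. -/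
theorem closure_orb : closure {u | X.Orb u} = X.A := by
  classical
  set K := closure {u | X.Orb u} with hK
  have hle : K ≤ X.A := (closure_le _).2 fun u hu => (X.orb_A hu).1
  refine le_antisymm hle ?_
  by_cases hex : ∃ w ∈ K, w ≠ 1 ∧ ¬ X.Orb w
  · obtain ⟨w, hw, hw1, hwo⟩ := hex
    obtain ⟨w₀, -, -, -, hall⟩ := X.second_orbit
    have hconj : ∀ n ∈ X.N, ∀ x ∈ K, n * x * n⁻¹ ∈ K := fun n hn x hx => by
      induction hx using closure_induction with
      | mem x hx => exact subset_closure ((X.orb_conj hn).2 hx)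
      | one => rw [mul_one, mul_inv_cancel]; exact one_mem _
      | mul a b _ _ ha hb =>
        rw [show n * (a * b) * n⁻¹ = (n * a * n⁻¹) * (n * b * n⁻¹) by group]; exact mul_mem ha hb
      | inv a _ ha => rw [show n * a⁻¹ * n⁻¹ = (n * a * n⁻¹)⁻¹ by group]; exact inv_mem ha
    intro a ha
    by_cases ha1 : a = 1
    · exact ha1 ▸ one_mem _
    by_cases hao : X.Orb a
    · exact subset_closure hao
    obtain ⟨n, hn, e⟩ := X.rel_trans (X.rel_symm (hall w (hle hw) hw1 hwo)) (hall a ha ha1 hao)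
    exact e ▸ hconj n hn w hw
  · push Not at hex
    exfalso
    have e : (K : Set G) = insert 1 {u | X.Orb u} := by
      ext u
      constructor
      · intro hu
        by_cases h : u = 1
        · exact Or.inl h
        · exact Or.inr (hex u hu h)
      · rintro (rfl | h)
        · exact one_mem _
        · exact subset_closure h
    have hd : Nat.card K ∣ 2048 := X.card_A ▸ card_dvd_of_le hle
    have hc : Nat.card K = 760 := by
      rw [show Nat.card K = Nat.card ↥(K : Set G) from rfl, Nat.card_coe_set_eq, e,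
        Set.ncard_insert_of_notMem (show (1 : G) ∉ {u | X.Orb u} from fun h => (X.orb_A h).2 rfl),
        ← Nat.card_coe_set_eq,
        show Nat.card {u | X.Orb u} = 759 from X.card_O]
    rw [hc] at hd
    norm_num at hd

end Ctx

end CfsgLib.CoType
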