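import Cfsg.Agent.Lib.Rigid.Bits

/-!
# Products of packed matrices over the field with two elements

A matrix of size 24 is packed into one number, a block of 24 bits per column.
-/

set_option autoImplicit false

namespace CfsgLib.CoOneRec

open CfsgLib.Rigid

/-- The columns in one number. -/
def pk : List ℕ → ℕ
  | [] => 0
  | a :: L => a + 2 ^ 24 * pk L

/-- The lowest bit of each of some blocks. -/
def ones (n : ℕ) : ℕ := pk (List.replicate n 1)

/-- The sum of a function over an interval. -/
def xsum (f : ℕ → ℕ) : ℕ → ℕ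
  | 0 => 0
  | k + 1 => xsum f k ^^^ f k

/-- The number with one bit in each of the 24 blocks. -/
def onesAll : ℕ := ones 24

/-- The product of two packed matrices; also the image of a packed vector. -/
noncomputable def pmul (A B : ℕ) : ℕ :=
  Nat.rec 0 (fun j acc => Nat.xor acc
    (Nat.mul (Nat.land (Nat.shiftRight A (Nat.mul 24 j)) 16777215) (Nat.land (Nat.shiftRight B j) onesAll))) 24

theorem pmul_eq (A B : ℕ) :
    pmul A B = xsum (fun j => ((A >>> (24 * j)) &&& 16777215) * ((B >>> j) &&& onesAll)) 24 := by
  suffices ∀ k, (Nat.rec 0 (fun j acc => Nat.xor acc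
      (Nat.mul (Nat.land (Nat.shiftRight A (Nat.mul 24 j)) 16777215) (Nat.land (Nat.shiftRight B j) onesAll))) k : ℕ) =
      xsum (fun j => ((A >>> (24 * j)) &&& 16777215) * ((B >>> j) &&& onesAll)) k from this 24
  intro k
  induction k with
  | zero => rfl
  | succ k ih => simp only [xsum, ← ih]; rfl

theorem block_testBit {a : ℕ} (ha : a < 2 ^ 24) (x i : ℕ) :
    (a + 2 ^ 24 * x).testBit i = if i < 24 then a.testBit i else x.testBit (i - 24) := by
  rw [Nat.add_comm]
  exact Nat.testBit_two_pow_mul_add x ha i

theorem block_xor {a b : ℕ} (ha : a < 2 ^ 24) (hb : b < 2 ^ 24) (x y : ℕ) :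
    (a + 2 ^ 24 * x) ^^^ (b + 2 ^ 24 * y) = (a ^^^ b) + 2 ^ 24 * (x ^^^ y) := by
  refine Nat.eq_of_testBit_eq fun i => ?_
  rw [Nat.testBit_xor, block_testBit ha, block_testBit hb, block_testBit (Nat.xor_lt_two_pow ha hb)]
  split_ifs <;> simp

/-- The selection of one bit of each block. -/
def sel (j B n : ℕ) : ℕ := (B >>> j) &&& ones n

theorem sel_zero (j B : ℕ) : sel j B 0 = 0 := by simp [sel, ones, pk]

theorem sel_cons {b : ℕ} (hb : b < 2 ^ 24) {j : ℕ} (hj : j < 24) (x n : ℕ) :
    sel j (b + 2 ^ 24 * x) (n + 1) = (b.testBit j).toNat + 2 ^ 24 * sel j x n := by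
  have h1 : (b.testBit j).toNat < 2 ^ 24 :=
    lt_of_le_of_lt (Bool.toNat_le _) (by norm_num)
  have e : ones (n + 1) = 1 + 2 ^ 24 * ones n := by simp [ones, List.replicate_succ, pk]
  refine Nat.eq_of_testBit_eq fun i => ?_
  simp only [sel, e, Nat.testBit_and, Nat.testBit_shiftRight, block_testBit hb, block_testBit h1,
    block_testBit (by norm_num : (1 : ℕ) < 2 ^ 24)]
  by_cases hi : i < 24
  · rw [if_pos hi, if_pos hi]
    rcases Nat.eq_zero_or_pos i with rfl | hp
    · simp [hj]; cases b.testBit j <;> simp
    · have : Nat.testBit 1 i = false := by simp [Nat.testBit, Nat.shiftRight_eq_div_pow, (show 1 < 2 ^ i from Nat.one_lt_two_pow (by omega)).le, Nat.div_eq_of_lt (Nat.one_lt_two_pow (by omega : i ≠ 0))]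
      rw [this, Bool.and_false]
      cases b.testBit j
      · simp
      · simpa using this.symm
  · rw [if_neg hi, if_neg hi, if_neg (show ¬ j + i < 24 by omega),
      show j + i - 24 = j + (i - 24) by omega]

theorem pk_mul (a : ℕ) : ∀ L : List ℕ, a * pk L = pk (L.map (a * ·))
  | [] => rfl
  | b :: L => by simp only [pk, List.map_cons, Nat.mul_add, ← pk_mul a L]; ring

theorem pk_col : ∀ {L : List ℕ}, (∀ a ∈ L, a < 2 ^ 24) → ∀ i < L.length,
    (pk L >>> (24 * i)) &&& 16777215 = L.getD i 0 := by
  intro L
  induction L with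
  | nil => intro _ i hi; simp at hi
  | cons a L ih =>
    intro hL i hi
    have ha := hL a List.mem_cons_self
    rw [show (16777215 : ℕ) = 2 ^ 24 - 1 by norm_num, Nat.and_two_pow_sub_one_eq_mod, Nat.shiftRight_eq_div_pow]
    rcases i with _ | i
    · simp only [Nat.mul_zero, pow_zero, Nat.div_one, pk, Nat.add_mul_mod_self_left, List.getD_cons_zero]
      exact Nat.mod_eq_of_lt ha
    · have h := ih (fun b hb => hL b (List.mem_cons_of_mem _ hb)) i (by simpa using hi)
      rw [show (16777215 : ℕ) = 2 ^ 24 - 1 by norm_num, Nat.and_two_pow_sub_one_eq_mod,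
        Nat.shiftRight_eq_div_pow] at h
      rw [List.getD_cons_succ, ← h, show 24 * (i + 1) = 24 + 24 * i by ring, pow_add, ← Nat.div_div_eq_div_mul]
      simp only [pk]
      rw [Nat.add_mul_div_left _ _ (by norm_num : 0 < 2 ^ 24), Nat.div_eq_of_lt ha, Nat.zero_add]

theorem getD_lt {A : List ℕ} (hA : ∀ a ∈ A, a < 2 ^ 24) (k : ℕ) : A.getD k 0 < 2 ^ 24 := by
  rcases lt_or_ge k A.length with h | h
  · rw [List.getD_eq_getElem _ _ h]; exact hA _ (List.getElem_mem h)
  · rw [List.getD_eq_default _ _ h]; norm_num

/-- The image of one column under the first columns of a matrix. -/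
def part (A : List ℕ) (b k : ℕ) : ℕ := xsum (fun j => A.getD j 0 * (b.testBit j).toNat) k

theorem part_lt {A : List ℕ} (hA : ∀ a ∈ A, a < 2 ^ 24) (b : ℕ) : ∀ k, part A b k < 2 ^ 24
  | 0 => by simp [part, xsum]
  | k + 1 => by
    refine Nat.xor_lt_two_pow (part_lt hA b k) ?_
    have : A.getD k 0 < 2 ^ 24 := getD_lt hA k
    show A.getD k 0 * (b.testBit k).toNat < 2 ^ 24
    cases b.testBit k
    · simp
    · rwa [Bool.toNat_true, Nat.mul_one]

theorem xsum_sel {A : List ℕ} (hA : ∀ a ∈ A, a < 2 ^ 24) : ∀ (B : List ℕ), (∀ b ∈ B, b < 2 ^ 24) → ∀ k ≤ 24,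
    xsum (fun j => A.getD j 0 * sel j (pk B) B.length) k = pk (B.map fun b => part A b k) := by
  intro B
  induction B with
  | nil =>
    intro _ k _
    simp only [List.length_nil, sel_zero, Nat.mul_zero, List.map_nil, pk]
    induction k with
    | zero => rfl
    | succ k ih => show xsum _ k ^^^ 0 = 0; rw [ih (by omega)]; rfl
  | cons b B ih =>
    intro hB k hk
    have hb := hB b List.mem_cons_self
    induction k with
    | zero =>
      have h0 := ih (fun c hc => hB c (List.mem_cons_of_mem _ hc)) 0 (by omega)
      simp only [xsum] at h0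
      simp [pk, part, xsum] at h0 ⊢
      exact h0.symm
    | succ k ihk =>
      have h0 := ih (fun c hc => hB c (List.mem_cons_of_mem _ hc)) k (by omega)
      have h1 := ih (fun c hc => hB c (List.mem_cons_of_mem _ hc)) (k + 1) hk
      simp only [xsum] at h1 ⊢
      rw [ihk (by omega), List.length_cons, pk, sel_cons hb (by omega), Nat.mul_add, Nat.mul_left_comm]
      simp only [List.map_cons, pk]
      rw [block_xor (part_lt hA b k) (by
        cases b.testBit k
        · simp
        · rw [Bool.toNat_true, Nat.mul_one]; exact getD_lt hA k), ← h1, ← h0]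
      rfl

theorem img_eq_part : ∀ {A : List ℕ} {p : ℕ}, img A p = part A p A.length := by
  intro A
  induction A using List.reverseRecOn with
  | nil => intro p; rfl
  | append_singleton A a ih =>
    intro p
    have key : ∀ (L : List ℕ) (q : ℕ), img (L ++ [a]) q = img L q ^^^ (a * (q.testBit L.length).toNat) := by
      intro L
      induction L with
      | nil =>
        intro q
        simp only [List.nil_append, img_cons, img_nil, Nat.xor_zero, Nat.zero_xor, List.length_nil, Nat.testBit_zero]
        rcases Nat.mod_two_eq_zero_or_one q with h | h <;> simp [h]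
      | cons c L ihL =>
        intro q
        simp only [List.cons_append, img_cons, ihL, List.length_cons, Nat.testBit_succ, Nat.xor_assoc]
    rw [key, ih, List.length_append, List.length_singleton]
    show _ = part (A ++ [a]) p A.length ^^^ _
    have e : ∀ k ≤ A.length, part (A ++ [a]) p k = part A p k := by
      intro k
      induction k with
      | zero => intro _; rfl
      | succ k ihk =>
        intro hk
        show part _ p k ^^^ _ = part A p k ^^^ _
        simp only [List.getD_eq_getElem?_getD, List.getElem?_append_left (show k < A.length by omega),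
          ihk (show k ≤ A.length by omega)]
    rw [e _ le_rfl]
    simp [List.getD_eq_getElem?_getD]

theorem pmul_pk {A B : List ℕ} (hA : A.length = 24) (hA' : ∀ a ∈ A, a < 2 ^ 24) (hB : B.length = 24)
    (hB' : ∀ b ∈ B, b < 2 ^ 24) : pmul (pk A) (pk B) = pk (mulF A B) := by
  have e : ∀ k ≤ 24, xsum (fun j => ((pk A >>> (24 * j)) &&& 16777215) * ((pk B >>> j) &&& onesAll)) k =
      xsum (fun j => A.getD j 0 * sel j (pk B) B.length) k := by
    intro k
    induction k with
    | zero => intro _; rfl
    | succ k ih =>
      intro hk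
      simp only [xsum]
      rw [ih (by omega), pk_col hA' k (by omega)]
      rw [hB]
      rfl
  rw [pmul_eq, e 24 le_rfl, xsum_sel hA' B hB' 24 le_rfl, mulF]
  congr 1
  refine List.map_congr_left fun b _ => ?_
  rw [img_eq_part, hA]

theorem pk_injective : ∀ {A B : List ℕ}, A.length = B.length → (∀ a ∈ A, a < 2 ^ 24) → (∀ b ∈ B, b < 2 ^ 24) →
    pk A = pk B → A = B := by
  intro A
  induction A with
  | nil => intro B h _ _ _; exact (List.length_eq_zero_iff.1 h.symm).symm
  | cons a A ih =>
    intro B h hA hB e
    match B, h with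
    | b :: B, h =>
      have ha := hA a List.mem_cons_self
      have hb := hB b List.mem_cons_self
      simp only [pk] at e
      have e1 : a = b := by omega
      rw [e1, ih (by simpa using h) (fun x hx => hA x (List.mem_cons_of_mem _ hx))
        (fun x hx => hB x (List.mem_cons_of_mem _ hx)) (by omega)]

theorem pk_vec (v : ℕ) : pk (v :: List.replicate 23 0) = v := by
  have : ∀ k, pk (List.replicate k 0) = 0 := fun k => by
    induction k with
    | zero => rfl
    | succ k ih => simp [List.replicate_succ, pk, ih]
  simp [pk, this]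

theorem pmul_vec {A : List ℕ} (hA : A.length = 24) (hA' : ∀ a ∈ A, a < 2 ^ 24) {v : ℕ} (hv : v < 2 ^ 24) :
    pmul (pk A) v = img A v := by
  have h := pmul_pk hA hA' (B := v :: List.replicate 23 0) (by simp) (by
    intro b hb
    rcases List.mem_cons.1 hb with rfl | hb
    · exact hv
    · rw [(List.mem_replicate.1 hb).2]; norm_num)
  rw [pk_vec] at h
  rw [h, mulF, List.map_cons, List.map_replicate, img_zero, pk_vec]

/-- The columns of the identity. -/
def oneCols : List ℕ := (List.range 24).map fun j => 2 ^ j

/-- The packed identity. -/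
noncomputable def oneP : ℕ := pk oneCols

theorem oneCols_lt : ∀ a ∈ oneCols, a < 2 ^ 24 := by decide +kernel

theorem pmul_oneP {v : ℕ} (hv : v < 2 ^ 24) : pmul oneP v = v := by
  rw [oneP, pmul_vec (by simp [oneCols]) oneCols_lt hv, img_eq_part, show oneCols.length = 24 by simp [oneCols]]
  have key : ∀ k ≤ 24, part oneCols v k = v % 2 ^ k := by
    intro k
    induction k with
    | zero => intro _; simp [part, xsum, Nat.mod_one]
    | succ k ih =>
      intro hk
      have e : oneCols.getD k 0 = 2 ^ k := by
        rw [List.getD_eq_getElem _ _ (by simp [oneCols]; omega)]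
        simp [oneCols]
      show part oneCols v k ^^^ oneCols.getD k 0 * (v.testBit k).toNat = _
      rw [ih (by omega), e]
      refine Nat.eq_of_testBit_eq fun i => ?_
      rw [Nat.testBit_xor, Nat.testBit_mod_two_pow, Nat.testBit_mod_two_pow]
      rcases lt_trichotomy i k with h | h | h
      · cases v.testBit k <;> simp [h, Nat.testBit_two_pow, h.ne', show i < k + 1 by omega]
      · subst h; cases hb : v.testBit i <;> simp [hb, Nat.testBit_two_pow]
      · cases v.testBit k <;> simp [Nat.testBit_two_pow, h.ne, show ¬ i < k + 1 by omega, show ¬ i < k by omega]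
  rw [key 24 le_rfl, Nat.mod_eq_of_lt hv]

end CfsgLib.CoOneRec
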