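import Cfsg.Agent.Lib.CoOneRec.Engine

/-!
# Soundness of the events
-/

set_option autoImplicit false

namespace CfsgLib.CoOneRec

variable {C M : Type*} [Group C] [Group M] {𝓜 : Model C} {ι : C →* M} {n : M} {D : Dat}

/-- The events below a bound hold. -/
def Dat.Below (D : Dat) (𝓜 : Model C) (ι : C →* M) (n : M) (m : ℕ) : Prop :=
  ∀ i < m, (∀ f, D.idOf (D.evT.get i) = some f → D.IdentOK 𝓜 ι n f) ∧
    ∀ f, D.factOf (D.evT.get i) = some f → D.FactOK 𝓜 ι n f

theorem Dat.pt_mul (k : ℕ) (u v : C) : D.pt 𝓜 ι n k (u * v) = D.pt 𝓜 ι n k u * ι v := by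
  simp only [Dat.pt, map_mul, mul_assoc]

variable (H : D.Holds 𝓜 ι n)

include H

theorem Dat.Holds.leftAt_spec {m : ℕ} (hv : D.Below 𝓜 ι n m) {j s S : ℕ} (h : D.leftAt m j s = some S) :
    ∃ c : C, 𝓜.code c = S ∧ SameCoset ι (D.pt 𝓜 ι n j c) (D.pt 𝓜 ι n j 1) := by
  unfold Dat.leftAt at h
  split at h
  · rename_i hj
    rw [Nat.beq_eq] at hj
    subst hj
    split at h
    · rename_i hs
      rw [Nat.blt_eq] at hs
      obtain ⟨c, hc⟩ := H.has 𝓜 hs
      refine ⟨c, hc.trans (Option.some.inj h), c, ?_⟩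
      simp only [Dat.pt, H.base, Dat.baseVal, List.map_nil, List.prod_nil, one_mul, map_one, mul_one]
    · exact absurd h (by simp)
  · split at h
    · rename_i k c hf
      split at h
      · rename_i hk
        rw [Nat.beq_eq] at hk
        subst hk
        split at hf
        · rename_i hs
          rw [Nat.blt_eq] at hs
          obtain rfl := Option.some.inj h
          exact (hv s hs).2 _ hf
        · exact absurd hf (by simp)
      · exact absurd h (by simp)
    · exact absurd h (by simp)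

theorem Dat.Holds.hop_spec {m : ℕ} (hv : D.Below 𝓜 ι n m) {h : Hop} {j : ℕ} {u : C} {Q : ℕ × ℕ}
    (he : D.hopB m h (j, 𝓜.code u) = some Q) :
    ∃ v : C, 𝓜.code v = Q.2 ∧ SameCoset ι (D.pt 𝓜 ι n j u * n) (D.pt 𝓜 ι n Q.1 v) := by
  unfold Dat.hopB at he
  split at he
  · rename_i j' c k e S hf hS
    split at he
    · rename_i hc
      simp only [Bool.and_eq_true, List.all_eq_true, Nat.blt_eq, Nat.beq_eq] at hc
      obtain ⟨⟨hj, hd⟩, heq⟩ := hc
      simp only at hj heq hS
      subst hj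
      obtain rfl := Option.some.inj he
      split at hf
      · rename_i hid
        rw [Nat.blt_eq] at hid
        obtain ⟨cc, ee, hcc, hee, hi⟩ := (hv _ hid).1 _ hf
        obtain ⟨SS, hSS, hs⟩ := H.leftAt_spec hv hS
        obtain ⟨x, y, hx, hy, hxy⟩ := H.dxy 𝓜 hd
        simp only at hcc hee hi
        have hu : u = SS * cc * x := 𝓜.inj (by rw [heq, 𝓜.code_mul, 𝓜.code_mul, hSS, hcc, hx])
        refine ⟨ee * y, by rw [𝓜.code_mul, hee, hy], ?_⟩
        rw [hu, Dat.pt_mul, Dat.pt_mul]
        have h1 := hs.mul_right (ι cc * ι x * n)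
        have h2 := hi.mul_right (n⁻¹ * ι x * n)
        have e1 : D.pt 𝓜 ι n j' 1 * (ι cc * ι x * n) = D.pt 𝓜 ι n j' cc * n * (n⁻¹ * ι x * n) := by
          simp only [Dat.pt, map_one, mul_one]
          group
        rw [e1] at h1
        refine SameCoset.trans ?_ ((h1.trans h2).trans ?_)
        · simpa only [Dat.pt, mul_assoc] using SameCoset.refl (ι := ι) _
        · rw [hxy, Dat.pt_mul]
          exact SameCoset.refl _
      · exact absurd hf (by simp)
    · exact absurd he (by simp)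
  · exact absurd he (by simp)

theorem Dat.Holds.walk_spec {m : ℕ} (hv : D.Below 𝓜 ι n m) :
    ∀ {w : List ℕ} {hs : List Hop} {j : ℕ} {u : C} {Q : ℕ × ℕ}, (∀ a ∈ w, a < D.nC) →
      D.walkB m w hs (j, 𝓜.code u) = some Q →
      ∃ v : C, 𝓜.code v = Q.2 ∧ SameCoset ι (D.pt 𝓜 ι n j u * (w.map fun a => n * ι (𝓜.el (D.cT.get a))).prod)
        (D.pt 𝓜 ι n Q.1 v)
  | [], [], j, u, Q, _, h => by
    simp only [Dat.walkB, Option.some.injEq] at h
    subst h
    exact ⟨u, rfl, by simpa using SameCoset.refl (ι := ι) _⟩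
  | [], _ :: _, j, u, Q, _, h => by simp [Dat.walkB] at h
  | _ :: _, [], j, u, Q, _, h => by simp [Dat.walkB] at h
  | a :: w, b :: hs, j, u, Q, hw, h => by
    unfold Dat.walkB at h
    split at h
    · rename_i R hR
      obtain ⟨v, hvv, h1⟩ := H.hop_spec hv hR
      have ha := H.code_el 𝓜 (hw a List.mem_cons_self)
      rw [← hvv, ← ha, ← 𝓜.code_mul] at h
      obtain ⟨v', hv', h2⟩ := Dat.Holds.walk_spec hv (fun x hx => hw x (List.mem_cons_of_mem _ hx)) h
      refine ⟨v', hv', SameCoset.trans ?_ h2⟩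
      rw [List.map_cons, List.prod_cons, Dat.pt_mul]
      simpa only [mul_assoc] using
        (h1.mul_right (ι (𝓜.el (D.cT.get a)))).mul_right (w.map fun a => n * ι (𝓜.el (D.cT.get a))).prod
    · exact absurd h (by simp)

theorem Dat.Holds.rotate {r rot : ℕ} (hr : r < D.rels.length) :
    (∀ a ∈ (D.rels.getD r []).rotate rot, a < D.nC) ∧
      (((D.rels.getD r []).rotate rot).map fun a => n * ι (𝓜.el (D.cT.get a))).prod = 1 := by
  have hmem : D.rels.getD r [] ∈ D.rels := by rw [List.getD_eq_getElem _ _ hr]; exact List.getElem_mem hr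
  refine ⟨fun a ha => H.relLt _ hmem a (List.mem_rotate.1 ha), ?_⟩
  have h1 := H.rel _ hmem
  induction rot with
  | zero => simpa using h1
  | succ k ih =>
    rw [← List.rotate_rotate _ k 1]
    revert ih
    generalize (D.rels.getD r []).rotate k = v
    intro ih
    cases v with
    | nil => simpa using ih
    | cons a v =>
      simp only [List.map_cons, List.prod_cons] at ih
      simp only [List.rotate_cons_succ, List.rotate_zero, List.map_append, List.prod_append,
        List.map_cons, List.map_nil, List.prod_cons, List.prod_nil, mul_one]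
      exact mul_eq_one_comm.1 ih

theorem Dat.Holds.rel_spec {m r rot : ℕ} (hv : D.Below 𝓜 ι n m) {k : ℕ} {u : C} {hs : List Hop} {Q : ℕ × ℕ}
    (h : D.relB m r rot (k, 𝓜.code u) hs = some Q) :
    ∃ v : C, 𝓜.code v = Q.2 ∧ SameCoset ι (D.pt 𝓜 ι n Q.1 v * n) (D.pt 𝓜 ι n k u) := by
  unfold Dat.relB at h
  split at h
  · rename_i a w hw
    split at h
    · rename_i hr
      rw [Nat.blt_eq] at hr
      obtain ⟨hlt, hprod⟩ := H.rotate (rot := rot) hr
      rw [hw] at hlt hprod
      have ha := H.code_el 𝓜 (hlt a List.mem_cons_self)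
      simp only at h
      rw [← ha, ← 𝓜.code_mul] at h
      obtain ⟨v, hvv, h1⟩ := H.walk_spec hv (fun x hx => hlt x (List.mem_cons_of_mem _ hx)) h
      refine ⟨v, hvv, ?_⟩
      simp only [List.map_cons, List.prod_cons] at hprod
      rw [mul_assoc] at hprod
      have e := mul_eq_one_comm.1 hprod
      rw [Dat.pt_mul, mul_assoc] at h1
      have h3 := (h1.mul_right n).symm
      rw [show D.pt 𝓜 ι n k u * (ι (𝓜.el (D.cT.get a)) * (List.map (fun a => n * ι (𝓜.el (D.cT.get a))) w).prod) * n =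
        D.pt 𝓜 ι n k u * (ι (𝓜.el (D.cT.get a)) * (List.map (fun a => n * ι (𝓜.el (D.cT.get a))) w).prod * n) by group,
        e, mul_one] at h3
      exact h3
    · exact absurd h (by simp)
  · exact absurd h (by simp)

theorem Dat.Holds.event {i : ℕ} (hi : i < D.nE) (hv : D.Below 𝓜 ι n i) :
    (∀ f, D.idOf (D.evT.get i) = some f → D.IdentOK 𝓜 ι n f) ∧
      ∀ f, D.factOf (D.evT.get i) = some f → D.FactOK 𝓜 ι n f := by
  have h := H.evOk i hi
  unfold Dat.evOkB at h
  split at h <;> rename_i heq <;> rw [heq]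
  · exact ⟨fun f hf => by simp [Dat.idOf] at hf, fun f hf => by simp [Dat.factOf] at hf⟩
  · rename_i j c k
    refine ⟨fun f hf => ?_, fun f hf => by simp [Dat.factOf] at hf⟩
    simp only [Dat.idOf, Option.some.injEq] at hf
    subst hf
    simp only [Bool.and_eq_true, Nat.blt_eq, decide_eq_true_eq] at h
    obtain ⟨hc, hb⟩ := h
    refine ⟨𝓜.el (D.cT.get c), 1, H.code_el 𝓜 hc, 𝓜.code_one, ?_⟩
    have e : D.pt 𝓜 ι n k 1 = D.pt 𝓜 ι n j (𝓜.el (D.cT.get c)) * n := by
      simp only [Dat.pt, hb, Dat.baseVal, List.map_append, List.prod_append, List.map_cons, List.map_nil,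
        List.prod_cons, List.prod_nil, mul_one, map_one, mul_assoc]
    rw [e]
    exact SameCoset.refl _
  · rename_i r rot k e hs j c
    refine ⟨fun f hf => ?_, fun f hf => by simp [Dat.factOf] at hf⟩
    simp only [Dat.idOf, Option.some.injEq] at hf
    subst hf
    simp only [Bool.and_eq_true, Nat.blt_eq] at h
    obtain ⟨⟨he, hc⟩, hm⟩ := h
    rw [← H.code_el 𝓜 he] at hm
    split at hm
    · rename_i Q hQ
      simp only [Bool.and_eq_true, Nat.beq_eq] at hm
      obtain ⟨v, hvv, h1⟩ := H.rel_spec hv hQ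
      rw [hm.1] at h1
      exact ⟨v, _, hvv.trans hm.2, H.code_el 𝓜 he, h1⟩
    · exact absurd hm (by simp)
  · rename_i r rot k u hs last s
    refine ⟨fun f hf => by simp [Dat.idOf] at hf, fun f hf => ?_⟩
    simp only [Dat.factOf, Option.some.injEq] at hf
    subst hf
    simp only [Bool.and_eq_true, Nat.blt_eq] at h
    obtain ⟨⟨hu, hs'⟩, hm⟩ := h
    rw [← H.code_el 𝓜 hu, ← H.code_el 𝓜 hs'] at hm
    split at hm
    · rename_i Q hQ
      split at hm
      · rename_i R hR
        simp only [Bool.and_eq_true, Nat.beq_eq] at hm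
        obtain ⟨v, hvv, h1⟩ := H.rel_spec hv hQ
        rw [show Q = (Q.1, 𝓜.code v) from Prod.ext rfl hvv.symm] at hR
        obtain ⟨w, hw, h2⟩ := H.hop_spec hv hR
        rw [← 𝓜.code_mul] at hm
        rw [hm.1, show w = 𝓜.el (D.cT.get s) * 𝓜.el (D.cT.get u) from 𝓜.inj (hw.trans hm.2)] at h2
        refine ⟨𝓜.el (D.cT.get s), H.code_el 𝓜 hs', ?_⟩
        have h3 := (h2.symm.trans h1).mul_right (ι (𝓜.el (D.cT.get u)))⁻¹
        simp only [Dat.pt_mul, mul_inv_cancel_right] at h3
        refine h3.trans ?_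
        simp only [Dat.pt, map_one, mul_one, mul_inv_cancel_right]
        exact SameCoset.refl _
      · exact absurd hm (by simp)
    · exact absurd hm (by simp)
  · rename_i k
    refine ⟨fun f hf => by simp [Dat.idOf] at hf, fun f hf => ?_⟩
    simp only [Dat.factOf, Option.some.injEq] at hf
    subst hf
    exact ⟨1, 𝓜.code_one, SameCoset.refl _⟩
  · rename_i k a b c
    refine ⟨fun f hf => by simp [Dat.idOf] at hf, fun f hf => ?_⟩
    simp only [Dat.factOf, Option.some.injEq] at hf
    subst hf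
    simp only [Bool.and_eq_true, Nat.blt_eq] at h
    obtain ⟨⟨ha, hb⟩, hm⟩ := h
    split at hm
    · rename_i ka x kb y hfa hfb
      simp only [Bool.and_eq_true, Nat.beq_eq] at hm
      obtain ⟨⟨rfl, rfl⟩, hc⟩ := hm
      obtain ⟨sa, hsa, h1⟩ := (hv a ha).2 _ hfa
      obtain ⟨sb, hsb, h2⟩ := (hv b hb).2 _ hfb
      simp only at hsa hsb h1 h2
      refine ⟨sa * sb, by rw [𝓜.code_mul, hsa, hsb, hc], ?_⟩
      have h3 := h1.mul_right (ι sb)
      rw [← Dat.pt_mul, ← Dat.pt_mul, one_mul] at h3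
      exact h3.trans h2
    · exact absurd hm (by simp)

theorem Dat.Holds.below : ∀ m ≤ D.nE, D.Below 𝓜 ι n m := by
  intro m
  induction m with
  | zero => intro _ i hi; omega
  | succ m ih =>
    intro hm i hi
    rcases Nat.lt_succ_iff_lt_or_eq.1 hi with h | rfl
    · exact ih (by omega) i h
    · exact H.event (by omega) (ih (by omega))

end CfsgLib.CoOneRec
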